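import Mathlib
import Cfsg.Agent.S3908
import Cfsg.Agent.S3909
import Cfsg.Agent.Lib.LocStruct.SylowIn
import Cfsg.Agent.Lib.Core.Hall
import Cfsg.Agent.Lib.Core.CoprimeAbelian
import Cfsg.Agent.Lib.PGroup.Rank

/-! Groups in which abelian subgroups of equal order are conjugate: Sylow subgroups, quotients. -/

set_option autoImplicit false

namespace H22.Eq

open Subgroup Cfsg H69 QuaternionGroup
open scoped commutatorElement

universe u

variable {G : Type*} [Group G]

/-- Abelian subgroups of equal order are conjugate. -/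
def PB (G : Type*) [Group G] : Prop := ∀ A B : Subgroup G, IsMulCommutative A → IsMulCommutative B →
  Nat.card A = Nat.card B → ∃ g : G, B = A ^ᶜ g

/-- Sylow `p`-subgroups are cyclic, of exponent `p`, or quaternion of order 8. -/
def Tri (p : ℕ) (G : Type*) [Group G] : Prop := ∀ T : Sylow p G, IsCyclic T ∨
  (∀ x ∈ (T : Subgroup G), x ^ p = 1) ∨ (p = 2 ∧ Nonempty ((T : Subgroup G) ≃* QuaternionGroup 2))

theorem comm_iff {A : Subgroup G} : IsMulCommutative A ↔ A ≤ 𝐂(A) :=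
  le_centralizer_iff_isMulCommutative.symm

theorem comm_sup {A B : Subgroup G} (hA : IsMulCommutative A) (hB : IsMulCommutative B)
    (h : B ≤ 𝐂(A)) : IsMulCommutative (A ⊔ B : Subgroup G) := by
  rw [comm_iff, centralizer_sup]
  exact sup_le (le_inf (comm_iff.1 hA) (le_centralizer_iff.1 h)) (le_inf h (comm_iff.1 hB))

variable [Finite G]

theorem PB.mem (hB : PB G) {M : Subgroup G} [M.Normal] {m a : G} (hm : m ∈ M)
    (h : orderOf m = orderOf a) : a ∈ M := (Agent.S3909.result hB M).1 a ⟨m, hm, h⟩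

theorem PB.mem_prime (hB : PB G) {M : Subgroup G} [M.Normal] {p : ℕ} [Fact p.Prime]
    (h : p ∣ Nat.card M) {a : G} (ha : a ^ p = 1) : a ∈ M := by
  by_cases e : a = 1
  · exact e ▸ one_mem _
  obtain ⟨m, hm, h⟩ := H1.exists_mem_orderOf_eq_prime Fact.out h
  exact hB.mem hm (h.trans (orderOf_eq_prime ha e).symm)

theorem PB.quat_mem (hB : PB G) {n : ℕ} [NeZero n] {f : QuaternionGroup n →* G}
    (hf : Function.Injective f) {M : Subgroup G} [M.Normal] {m : G} (hm : m ∈ M) (h : orderOf m = 4)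
    (q : QuaternionGroup n) : f q ∈ M := by
  have h1 : ∀ i, f (xa i) ∈ M := fun i => hB.mem hm (by rw [h, orderOf_injective f hf, orderOf_xa])
  rcases q with i | i
  · rw [show a i = xa 0 * xa (i - (n : ZMod (2 * n))) by simp, map_mul]; exact mul_mem (h1 _) (h1 _)
  · exact h1 i

theorem PB.tri (hB : PB G) (p : ℕ) [Fact p.Prime] (hs : p ≠ 2 ∨ Group.IsSolvable G) : Tri p G := by
  intro T
  by_cases hp : p = 2
  swap
  · exact ((Agent.S3908.result hB).2 p hp T).imp_right Or.inl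
  subst hp
  rcases (Agent.S3908.result hB).1 T with h | h | ⟨k, ⟨e⟩⟩
  · exact Or.inl h
  · exact Or.inr (Or.inl h.2)
  rcases k with _ | _ | k
  · exact Or.inl (e.isCyclic.2 quaternionGroup_one_isCyclic)
  · exact Or.inr (Or.inr ⟨rfl, ⟨e⟩⟩)
  obtain ⟨n, hn⟩ := (hs.resolve_left (by simp)).solvable
  let f := (T : Subgroup G).subtype.comp e.symm.toMonoidHom
  have hf : Function.Injective f := (subtype_injective _).comp e.symm.injective
  have : ∀ i, ∃ m ∈ derivedSeries G i, orderOf m = 4 := fun i => by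
    induction i with
    | zero => exact ⟨f (xa 0), mem_top _, by rw [orderOf_injective f hf, orderOf_xa]⟩
    | succ i ih =>
      obtain ⟨m, hm, h⟩ := ih
      refine ⟨⁅f (a 1), f (xa 0)⁆ ^ 2 ^ k, pow_mem (commutator_mem_commutator
        (hB.quat_mem hf hm h _) (hB.quat_mem hf hm h _)) _, ?_⟩
      have h1 : ⁅(a 1 : QuaternionGroup (2 ^ (k + 1 + 1))), (xa 0 : QuaternionGroup (2 ^ (k + 1 + 1)))⁆ =
          a 1 ^ 2 := by
        rw [commutatorElement_def, mul_inv_eq_iff_eq_mul, mul_inv_eq_iff_eq_mul, sq]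
        simp
      rw [← map_commutatorElement, ← map_pow, orderOf_injective f hf, h1, ← pow_mul, orderOf_pow' _ (by simp),
        orderOf_a_one, Nat.gcd_eq_right ⟨4, by ring⟩]
      exact Nat.div_eq_of_eq_mul_left (by positivity) (by ring)
  obtain ⟨m, hm, h⟩ := this n
  rw [hn, mem_bot] at hm
  simp [hm] at h

theorem Tri.cases {p : ℕ} [Fact p.Prime] (h : Tri p G) {S : Subgroup G} (hS : IsPGroup p S) :
    IsCyclic S ∨ (∀ x ∈ S, x ^ p = 1) ∧ (∀ T : Subgroup G, IsSylowIn p T ⊤ → ∀ x ∈ T, x ^ p = 1) ∨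
      p = 2 ∧ IsSylowIn p S ⊤ ∧ Nonempty (S ≃* QuaternionGroup 2) := by
  obtain ⟨T, hT⟩ := hS.exists_le_sylow
  rcases h T with h1 | h1 | ⟨rfl, ⟨e⟩⟩
  · exact Or.inl (Subgroup.isCyclic_of_le hT)
  · refine Or.inr (Or.inl ⟨fun x hx => h1 x (hT hx), fun R hR x hx => ?_⟩)
    obtain ⟨g, -, rfl⟩ := (isSylowIn_top T).conj hR
    obtain ⟨y, hy, rfl⟩ := mem_cj'.1 hx
    rw [conj_pow, h1 y hy]; group
  by_cases h2 : S = T
  · exact Or.inr (Or.inr ⟨rfl, h2 ▸ isSylowIn_top T, h2 ▸ ⟨e⟩⟩)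
  left
  have key : ∀ U : Subgroup (QuaternionGroup 2), U ≠ ⊤ → IsCyclic U := fun U hU => by
    rw [isCyclic_iff_exists_zpowers_eq_top]
    have h4 : ∀ x : QuaternionGroup 2, x ∈ zpowers x := mem_zpowers
    by_contra hc
    have h5 : ∀ x ∈ U, ∃ y ∈ U, y ∉ zpowers x := fun x hx => by
      by_contra h6
      push Not at h6
      exact hc ⟨⟨x, hx⟩, eq_top_iff.2 fun y _ => by
        obtain ⟨i, hi⟩ := h6 y y.2
        exact ⟨i, Subtype.ext hi⟩⟩
    obtain ⟨x, hx, h6⟩ := h5 (a 2 : QuaternionGroup 2) (by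
      obtain ⟨y, hy, h7⟩ := h5 1 U.one_mem
      have : ∀ y : QuaternionGroup 2, y = 1 ∨ y = a 2 ∨ y ^ 2 = a 2 := by decide
      rcases this y with rfl | rfl | h8
      · exact absurd (one_mem _) h7
      · exact hy
      · exact h8 ▸ pow_mem hy 2)
    obtain ⟨y, hy, h7⟩ := h5 x hx
    refine hU (eq_top_iff.2 fun z _ => ?_)
    have : ∀ x y z : QuaternionGroup 2, (∃ i : Fin 2, x = a 2 ^ i.1) ∨ (∃ i : Fin 4, y = x ^ i.1) ∨
        ∃ i j : Fin 4, z = x ^ i.1 * y ^ j.1 := by decide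
    rcases this x y z with ⟨i, rfl⟩ | ⟨i, rfl⟩ | ⟨i, j, rfl⟩
    · exact absurd (npow_mem_zpowers _ _) h6
    · exact absurd (npow_mem_zpowers _ _) h7
    · exact mul_mem (pow_mem hx _) (pow_mem hy _)
  have := key ((S.subgroupOf T).map (e : (T : Subgroup G) →* _)) fun h3 => h2 (le_antisymm hT
    (subgroupOf_eq_top.1 (map_injective (f := (e : (T : Subgroup G) →* QuaternionGroup 2)) e.injective
      (by rw [h3, map_top_of_surjective _ e.surjective]))))
  exact isCyclic_of_surjective _ (((S.subgroupOf T).equivMapOfInjective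
    (e : (T : Subgroup G) →* QuaternionGroup 2) e.injective).symm.trans (subgroupOfEquivOfLe hT)).surjective

theorem PB.dec (hB : PB G) {p : ℕ} [hp : Fact p.Prime] (ht : Tri p G) {M : Subgroup G} [M.Normal]
    (h1 : M ≠ ⊥) (hM : IsElementaryAbelian p M) {A : Subgroup G} (hMA : M ≤ A) (hA : ⁅A, A⁆ ≤ M) :
    ∃ S K, M ≤ S ∧ IsSylowIn p S A ∧ S ⊔ K = A ∧ IsMulCommutative K ∧
      Nat.card S * Nat.card K = Nat.card A ∧
      (S = M ∨ K ≤ 𝐂(S) ∧ (IsMulCommutative S ∨ IsSylowIn p S ⊤)) := by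
  have hP := H3.isPGroup_of_pow_eq_one hM.2
  obtain ⟨S, hS, hMS⟩ := exists_isSylowIn_le hP hMA
  have hn := H2.le_normalizer_of_commutator_le hS.le (hA.trans hMS)
  have hc : (S.relIndex A).Coprime p := (hp.out.coprime_iff_not_dvd.2 hS.not_dvd_relIndex).symm
  obtain ⟨K, k1, k2, k3, k4⟩ := H3.exists_complement_in hS.le hn
    (by rw [hS.card_eq_pow_factorization]; exact (hc.pow_right _).symm)
  refine ⟨S, K, hMS, hS, k2, H2.isMulCommutative_iff_commutator_eq_bot.2 (le_bot_iff.1 (k3 ▸ le_inf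
    (((commutator_mono k1 k1).trans hA).trans hMS) (commutator_le_of_le le_rfl le_rfl))),
    by rw [k4, H1.card_mul_relIndex_of_le hS.le], or_iff_not_imp_left.2 fun e => ?_⟩
  obtain ⟨x, hx, hxM⟩ := SetLike.exists_of_lt (lt_of_le_of_ne hMS (Ne.symm e))
  have hd := dvd_card_of_ne_bot hP h1
  have hx1 : x ^ p ≠ 1 := mt (hB.mem_prime hd) hxM
  refine ⟨H2.le_centralizer_of_commutator_le_frattini (k1.trans hn) ((H2.coprime_card_of_isPGroup
    (k4 ▸ hc) hS.isP).coprime_dvd_right (card_subgroup_dvd_card _)) (((commutator_mono hS.le k1).trans hA).trans ?_), ?_⟩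
  · obtain ⟨t, h2⟩ := IsPGroup.iff_card.1 hP
    have h3 : Nat.card M = p := by
      rcases t with _ | _ | t
      · exact absurd (card_eq_one.1 (by rw [h2, pow_zero])) h1
      · rw [h2, zero_add, pow_one]
      · obtain ⟨T, hT⟩ := hS.isP.exists_le_sylow
        exact absurd ((Agent.S3909.result hB M).2 p _ (by omega) h2 hM T ▸ hT hx) hxM
    have h4 := H5.pow_mem_map_frattini hS.isP hx
    obtain ⟨y, hy, h5⟩ := H1.exists_mem_orderOf_eq_prime hp.out (dvd_card_of_ne_bot
      (hS.isP.to_le (map_subtype_le _)) fun e => hx1 (mem_bot.1 (e ▸ h4)))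
    rw [← eq_of_le_of_card_ge (zpowers_le.2 (hB.mem_prime hd (h5 ▸ pow_orderOf_eq_one y)))
      (by rw [h3, Nat.card_zpowers, h5])]
    exact zpowers_le.2 hy
  · rcases ht.cases hS.isP with h | h | h
    · exact Or.inl h.isMulCommutative
    · exact absurd (h.1 x hx) hx1
    · exact Or.inr h.2.1

theorem PB.quot_el (hB : PB G) {p : ℕ} [hp : Fact p.Prime] (ht : Tri p G) {M : Subgroup G} [M.Normal]
    (h1 : M ≠ ⊥) (hM : IsElementaryAbelian p M) : PB (G ⧸ M) := by
  intro A' B' hA' hB' hc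
  have hl : ∀ A' : Subgroup (G ⧸ M), M ≤ A'.comap (QuotientGroup.mk' M) := fun A' x hx => by
    rw [mem_comap, QuotientGroup.mk'_apply, (QuotientGroup.eq_one_iff x).2 hx]; exact one_mem _
  have hk : ∀ A' : Subgroup (G ⧸ M), IsMulCommutative A' →
      ⁅A'.comap (QuotientGroup.mk' M), A'.comap (QuotientGroup.mk' M)⁆ ≤ M := fun A' h => by
    refine le_of_le_of_eq ?_ (QuotientGroup.ker_mk' M)
    rw [← Subgroup.map_eq_bot_iff, map_commutator, map_comap_eq_self_of_surjective (QuotientGroup.mk'_surjective M)]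
    exact H2.isMulCommutative_iff_commutator_eq_bot.1 h
  suffices ∃ g, B'.comap (QuotientGroup.mk' M) = A'.comap (QuotientGroup.mk' M) ^ᶜ g by
    obtain ⟨g, hg⟩ := this
    refine ⟨g, ?_⟩
    have := congrArg (map (QuotientGroup.mk' M)) hg
    rwa [map_cj, map_comap_eq_self_of_surjective (QuotientGroup.mk'_surjective M),
      map_comap_eq_self_of_surjective (QuotientGroup.mk'_surjective M)] at this
  have hc' : Nat.card (A'.comap (QuotientGroup.mk' M)) = Nat.card (B'.comap (QuotientGroup.mk' M)) := by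
    rw [H1.card_comap_mk', H1.card_comap_mk', hc]
  obtain ⟨S, K, s1, s2, s3, s4, s5, s6⟩ := hB.dec ht h1 hM (hl A') (hk A' hA')
  obtain ⟨R, L, r1, r2, r3, r4, r5, r6⟩ := hB.dec ht h1 hM (hl B') (hk B' hB')
  have h2 : Nat.card S = Nat.card R := by
    rw [s2.card_eq_pow_factorization, r2.card_eq_pow_factorization, hc']
  obtain ⟨g, rfl⟩ := hB K L s4 r4 (Nat.eq_of_mul_eq_mul_left Nat.card_pos (by rw [s5, h2, r5, hc']))
  rw [← s3, ← r3] at hc' ⊢
  by_cases h3 : S = M
  · subst h3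
    exact ⟨g, by rw [cj_sup, cj_eq_of_normal S, eq_of_le_of_card_ge r1 h2.ge]⟩
  obtain ⟨s7, s8⟩ := s6.resolve_left h3
  obtain ⟨r7, r8⟩ := r6.resolve_left fun e => h3 (eq_of_le_of_card_ge s1 (by rw [h2, e])).symm
  by_cases h4 : IsMulCommutative S ∧ IsMulCommutative R
  · exact hB _ _ (comm_sup h4.1 s4 s7) (comm_sup h4.2 r4 r7) hc'
  have h5 : IsSylowIn p S ⊤ ∧ IsSylowIn p R ⊤ := by
    rcases not_and_or.1 h4 with h | h
    · exact ⟨s8.resolve_left h, (s8.resolve_left h).of_card_le r2.isP le_top h2.le⟩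
    · exact ⟨(r8.resolve_left h).of_card_le s2.isP le_top h2.ge, r8.resolve_left h⟩
  obtain ⟨c, hc, rfl⟩ := ((h5.1.cj_of_mem (mem_top g)).mono (K := 𝐂(K ^ᶜ g))
    (cj_centralizer K g ▸ cj_mono g (le_centralizer_iff.1 s7)) le_top).conj
    (h5.2.mono (le_centralizer_iff.1 r7) le_top)
  exact ⟨c * g, by rw [← cj_cj, cj_sup, cj_sup, cj_eq_of_mem_centralizer hc]⟩

theorem PB.of_equiv {H : Type*} [Group H] (hB : PB G) (e : G ≃* H) : PB H := fun A B hA hB' hc => by
  have h1 : ∀ A : Subgroup H, (A.map (e.symm : H →* G)).map (e : G →* H) = A := fun A => by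
    rw [map_map]; simp
  obtain ⟨g, hg⟩ := hB (A.map (e.symm : H →* G)) (B.map (e.symm : H →* G)) inferInstance inferInstance
    (by rw [card_map_of_injective e.symm.injective, card_map_of_injective e.symm.injective, hc])
  exact ⟨e g, by rw [← h1 B, hg, map_cj, h1]; rfl⟩

theorem quot_aux (n : ℕ) : ∀ (G : Type u) [Group G] [Finite G] (M : Subgroup G) [M.Normal],
    Nat.card G = n → PB G → Group.IsSolvable M → Odd (Nat.card M) ∨ Group.IsSolvable G → PB (G ⧸ M) := by
  induction n using Nat.strong_induction_on with | _ n ih =>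
  intro G _ _ M _ hn hB hs h
  by_cases h1 : M = ⊥
  · subst h1; exact hB.of_equiv (QuotientGroup.quotientBot).symm
  obtain ⟨N, hN, hNM, h2, p, hp, h3, h4, -⟩ := H3.exists_normal_elementary_le M h1 hs
  haveI := hN.normal
  haveI := Fact.mk hp
  refine (ih _ (hn ▸ H1.card_quotient_lt hN.ne_bot) (G ⧸ N) (M.map (QuotientGroup.mk' N)) rfl
    (hB.quot_el (hB.tri p (h.imp_left fun h e => ?_)) hN.ne_bot ⟨h2, h4⟩) (H1.isSolvable_map hs _)
    (h.imp (fun h => h.of_dvd_nat (card_map_dvd _ _)) fun h => by haveI := h; infer_instance)).of_equiv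
    (QuotientGroup.quotientQuotientEquivQuotient N M hNM)
  exact absurd (h.of_dvd_nat (e ▸ h3.trans (card_dvd_of_le hNM))) (by decide)

theorem PB.quot [Group.IsSolvable G] (hB : PB G) (M : Subgroup G) [M.Normal] : PB (G ⧸ M) :=
  quot_aux _ G M rfl hB inferInstance (Or.inr inferInstance)

end H22.Eq
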