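import Mathlib
import Cfsg.Agent.Lib.CH2.EqA
import Cfsg.Agent.Lib.FGS.CyclicAux

/-! Solvable groups in which `p`-subgroups of equal order are conjugate and Sylow subgroups are cyclic
for all primes but one: all subgroups of equal order are conjugate. -/

set_option autoImplicit false

namespace H22.Eq

open Subgroup Cfsg H69
open scoped commutatorElement

universe u

variable {G : Type*} [Group G] [Finite G] {p : ℕ}

/-- Subgroups of equal order are conjugate. -/
def PC (G : Type*) [Group G] : Prop := ∀ A B : Subgroup G, Nat.card A = Nat.card B → ∃ g : G, B = A ^ᶜ g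

/-- Subgroups of equal prime power order are conjugate. -/
def PD (G : Type*) [Group G] : Prop := ∀ p : ℕ, p.Prime → ∀ A B : Subgroup G, IsPGroup p A →
  IsPGroup p B → Nat.card A = Nat.card B → ∃ g : G, B = A ^ᶜ g

/-- All `p`-subgroups are cyclic. -/
def Cy (p : ℕ) (G : Type*) [Group G] : Prop := ∀ S : Subgroup G, IsPGroup p S → IsCyclic S

theorem rel_eq {M A B : Subgroup G} (h : Nat.card A = Nat.card B) (h1 : A ⊓ M = B ⊓ M) :
    M.relIndex A = M.relIndex B := Nat.eq_of_mul_eq_mul_left (Nat.card_pos (α := (M ⊓ A : Subgroup G))) (by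
  rw [H1.card_inf_mul_relIndex, h, inf_comm, h1, inf_comm, H1.card_inf_mul_relIndex])

theorem step0 [hp : Fact p.Prime] {M A B : Subgroup G} [M.Normal] (hM : IsPGroup p M)
    (h : Nat.card A = Nat.card B) (h1 : A ⊓ M = B ⊓ M) [hn : (B ⊓ M).Normal] (h2 : A ⊔ M = B ⊔ M)
    (h3 : ¬ p ∣ M.relIndex B ∨ M ≤ B) : ∃ g, B = A ^ᶜ g := by
  rcases h3 with h3 | h3
  swap
  · exact ⟨1, by rw [cj_one, eq_of_le_of_card_ge (le_sup_left.trans (h2.trans (sup_eq_left.2 h3)).le) h.ge]⟩
  have hc : ∀ {U : Subgroup G}, IsPGroup p U → (Nat.card U).Coprime (M.relIndex B) := fun hU => by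
    obtain ⟨k, hk⟩ := IsPGroup.iff_card.1 hU
    exact hk ▸ (hp.out.coprime_iff_not_dvd.2 h3).pow_left k
  obtain ⟨K, k1, k2, -, k4⟩ := H3.exists_complement_in (N := B ⊓ M) (T := A) (h1 ▸ inf_le_left)
    le_normalizer_of_normal (by
      rw [← h1, inf_relIndex_left, rel_eq h h1]; exact hc hM.to_inf_right)
  obtain ⟨L, l1, l2, -, l4⟩ := H3.exists_complement_in (N := B ⊓ M) (T := B) inf_le_left
    le_normalizer_of_normal (by rw [inf_relIndex_left]; exact hc hM.to_inf_right)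
  rw [← h1, inf_relIndex_left, rel_eq h h1] at k4
  rw [inf_relIndex_left] at l4
  obtain ⟨e, -, he⟩ := H3.exists_conj_eq_of_coprime (N := M) (H := K) (K := L) le_normalizer_of_normal
    (k1.trans (le_sup_left.trans (h2.trans_le (sup_le (l2 ▸ sup_le_sup_right inf_le_right _) le_sup_left))))
    (k4.trans l4.symm) (l4 ▸ hc hM) (Or.inl (H1.isSolvable_of_isPGroup hM))
  exact ⟨e, by rw [← k2, cj_sup, cj_eq_of_normal (B ⊓ M), ← smul_eq_cj, he, l2]⟩

theorem step [hp : Fact p.Prime] {M A B : Subgroup G} [M.Normal] (hM : IsPGroup p M) (hC : PC (G ⧸ M))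
    (h : Nat.card A = Nat.card B) (h1 : A ⊓ M = B ⊓ M) [hn : (B ⊓ M).Normal]
    (h3 : ¬ p ∣ M.relIndex B ∨ M ≤ B) : ∃ g, B = A ^ᶜ g := by
  obtain ⟨g, hg⟩ := hC (A.map (QuotientGroup.mk' M)) (B.map (QuotientGroup.mk' M))
    (by rw [H1.card_map_mk'_eq_relIndex, H1.card_map_mk'_eq_relIndex, rel_eq h h1])
  obtain ⟨g, rfl⟩ := QuotientGroup.mk'_surjective M g
  have := congrArg (comap (QuotientGroup.mk' M)) hg
  rw [← map_cj, comap_map_eq, comap_map_eq, QuotientGroup.ker_mk'] at this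
  obtain ⟨e, he⟩ := step0 hM ((card_cj A g).trans h)
    (by rw [← cj_eq_of_normal (B ⊓ M) g, ← h1, cj_inf, cj_eq_of_normal M]) this.symm h3
  exact ⟨e * g, by rw [← cj_cj, ← he]⟩

theorem driver [hp : Fact p.Prime] {M : Subgroup G} [M.Normal] (hM : IsPGroup p M)
    (hU : ∀ U ≤ M, ∀ V ≤ M, Nat.card U = Nat.card V → ∃ g, V = U ^ᶜ g)
    (hS : ¬ p ∣ M.index ∨ ∀ A : Subgroup G, p ∣ Nat.card A → M ≤ A)
    (hN : ∀ U ≤ M, PC (𝐍(U) ⧸ M.subgroupOf 𝐍(U))) : PC G := by
  have h3 : ∀ B : Subgroup G, ¬ p ∣ M.relIndex B ∨ M ≤ B := fun B => hS.elim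
    (fun h => Or.inl fun e => h (e.trans (relIndex_dvd_index_of_normal M B))) fun h =>
    or_iff_not_imp_left.2 fun e => h B ((not_not.1 e).trans (relIndex_dvd_card M B))
  have key : ∀ A B : Subgroup G, Nat.card A = Nat.card B → A ⊓ M = B ⊓ M → ∃ g, B = A ^ᶜ g := by
    intro A B h h1
    have hB : B ≤ 𝐍(B ⊓ M) := le_normalizer_inf le_normalizer le_normalizer_of_normal
    have hA : A ≤ 𝐍(B ⊓ M) := h1 ▸ le_normalizer_inf le_normalizer le_normalizer_of_normal
    haveI : (B.subgroupOf 𝐍(B ⊓ M) ⊓ M.subgroupOf 𝐍(B ⊓ M)).Normal := normal_in_normalizer (H := B ⊓ M)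
    obtain ⟨g, hg⟩ := step (A := A.subgroupOf 𝐍(B ⊓ M)) (B := B.subgroupOf 𝐍(B ⊓ M))
      (isPGroup_subgroupOf hM _) (hN _ inf_le_right) (by rw [card_subgroupOf hA, card_subgroupOf hB, h])
      (congrArg (fun U : Subgroup G => U.subgroupOf 𝐍(B ⊓ M)) h1)
      ((h3 B).imp (by rw [relIndex_subgroupOf hB]; exact id) fun e => comap_mono e)
    have := congrArg (map 𝐍(B ⊓ M).subtype) hg
    rw [map_subtype_cj, map_subgroupOf_eq_of_le hA, map_subgroupOf_eq_of_le hB] at this
    exact ⟨g, this⟩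
  intro A B h
  have h4 : Nat.card (A ⊓ M : Subgroup G) = Nat.card (B ⊓ M : Subgroup G) := by
    have h5 : ∀ B : Subgroup G, ¬ p ∣ M.relIndex B →
        Nat.card (B ⊓ M : Subgroup G) = p ^ (Nat.card B).factorization p := fun B e =>
      (isSylowIn_of_not_dvd_relIndex hM.to_inf_right inf_le_left
        (by rwa [inf_relIndex_left])).card_eq_pow_factorization
    rcases hS with h6 | h6
    · rw [h5 A fun e => h6 (e.trans (relIndex_dvd_index_of_normal M A)),
        h5 B fun e => h6 (e.trans (relIndex_dvd_index_of_normal M B)), h]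
    by_cases h7 : p ∣ Nat.card A
    · rw [inf_eq_right.2 (h6 A h7), inf_eq_right.2 (h6 B (h ▸ h7))]
    · rw [h5 A fun e => h7 (e.trans (relIndex_dvd_card M A)),
        h5 B fun e => h7 (h ▸ e.trans (relIndex_dvd_card M B)), h]
  obtain ⟨g, hg⟩ := hU _ inf_le_right _ inf_le_right h4
  obtain ⟨e, he⟩ := key (A ^ᶜ g) B ((card_cj A g).trans h) (by rw [hg, cj_inf, cj_eq_of_normal M])
  exact ⟨e * g, by rw [← cj_cj, ← he]⟩

theorem dich [hp : Fact p.Prime] {M : Subgroup G} [M.Normal] (h1 : M ≠ ⊥) (hM : ∀ x ∈ M, x ^ p = 1)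
    (hC : ∀ A B : Subgroup G, IsPGroup p A → IsPGroup p B → IsMulCommutative A → IsMulCommutative B →
      Nat.card A = Nat.card B → ∃ g, B = A ^ᶜ g) :
    ¬ p ∣ M.index ∧ Nat.card M ≠ p ∨ Nat.card M = p ∧ ∀ A : Subgroup G, p ∣ Nat.card A → M ≤ A := by
  have hP := H3.isPGroup_of_pow_eq_one hM
  obtain ⟨m, hm, ho⟩ := H1.exists_mem_orderOf_eq_prime hp.out (dvd_card_of_ne_bot hP h1)
  have h2 : ∀ a : G, orderOf a = p → a ∈ M := fun a ha => by
    obtain ⟨g, hg⟩ := hC (zpowers m) (zpowers a) (hP.to_le (zpowers_le.2 hm)) (IsPGroup.of_card (n := 1)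
      (by rw [Nat.card_zpowers, ha, pow_one])) inferInstance inferInstance
      (by rw [Nat.card_zpowers, Nat.card_zpowers, ha, ho])
    exact cj_le_of_mem_normalizer (zpowers_le.2 hm) (le_normalizer_of_normal (mem_top g))
      (hg ▸ mem_zpowers a)
  by_cases h3 : Nat.card M = p
  · refine Or.inr ⟨h3, fun A hA => ?_⟩
    obtain ⟨a, ha, h4⟩ := H1.exists_mem_orderOf_eq_prime hp.out hA
    rw [← eq_of_le_of_card_ge (zpowers_le.2 (h2 a h4)) (by rw [h3, Nat.card_zpowers, h4])]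
    exact zpowers_le.2 ha
  refine Or.inl ⟨?_, h3⟩
  obtain ⟨T, hT⟩ := hP.exists_le_sylow
  rcases H78.ConjSub.pow_eq_one_or_unique T.2 (fun A B hA hB e => by
    obtain ⟨g, hg⟩ := hC (A.map (T : Subgroup G).subtype) (B.map (T : Subgroup G).subtype)
      (T.2.to_le (map_subtype_le _)) (T.2.to_le (map_subtype_le _)) inferInstance inferInstance
      (by rw [card_map_subtype, card_map_subtype, e])
    exact H78.ConjSub.nonempty_equiv_of_conj hg) with h | h
  · rw [le_antisymm hT fun x hx => by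
      by_cases e : x = 1
      · exact e ▸ one_mem _
      · exact h2 x (orderOf_eq_prime (congrArg Subtype.val (h ⟨x, hx⟩)) e)]
    exact T.not_dvd_index
  · refine absurd ?_ h3
    rw [← ho, ← Nat.card_zpowers, le_antisymm (zpowers_le.2 hm) fun x hx => ?_]
    by_cases e : x = 1
    · exact e ▸ one_mem _
    have := h (zpowers ⟨x, hT hx⟩) (zpowers ⟨m, hT hm⟩)
      (by rw [Nat.card_zpowers, ← orderOf_coe, orderOf_eq_prime (hM x hx) e])
      (by rw [Nat.card_zpowers, ← orderOf_coe, ho])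
    obtain ⟨k, hk⟩ : (⟨x, hT hx⟩ : (T : Subgroup G)) ∈ zpowers ⟨m, hT hm⟩ := this ▸ mem_zpowers _
    exact ⟨k, congrArg Subtype.val hk⟩

theorem lift_sylow [Fact p.Prime] {H : Type*} [Group H] [Finite H] {f : G →* H} (hf : Function.Surjective f)
    {A : Subgroup H} (hA : IsPGroup p A) : ∃ S, IsSylowIn p S (A.comap f) ∧ S.map f = A := by
  obtain ⟨S, hS⟩ := exists_isSylowIn p (A.comap f)
  have := hS.map f
  rw [map_comap_eq_self_of_surjective hf] at this
  exact ⟨S, hS, (this.max A this.le le_rfl hA).symm⟩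

theorem PD.map {H : Type*} [Group H] [Finite H] (h : PD G) {f : G →* H} (hf : Function.Surjective f) :
    PD H := fun p hp A B hA hB e => by
  haveI := Fact.mk hp
  obtain ⟨S, hS, rfl⟩ := lift_sylow hf hA
  obtain ⟨R, hR, rfl⟩ := lift_sylow hf hB
  obtain ⟨g, rfl⟩ := h p hp S R hS.isP hR.isP (by
    rw [hS.card_eq_pow_factorization, hR.card_eq_pow_factorization, H1.card_comap_of_surjective hf,
      H1.card_comap_of_surjective hf, e])
  exact ⟨f g, map_cj f S g⟩

theorem Cy.map [Fact p.Prime] {H : Type*} [Group H] [Finite H] (h : Cy p G) {f : G →* H}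
    (hf : Function.Surjective f) : Cy p H := fun A hA => by
  obtain ⟨S, hS, rfl⟩ := lift_sylow hf hA
  haveI := h S hS.isP
  exact isCyclic_of_surjective _ (f.subgroupMap_surjective S)

omit [Finite G] in
theorem Cy.sub (h : Cy p G) (N : Subgroup G) : Cy p N := fun A hA =>
  (A.equivMapOfInjective _ N.subtype_injective).isCyclic.2 (h _ (hA.map _))

theorem Cy.of_not_dvd [Fact p.Prime] (h : ¬ p ∣ Nat.card G) : Cy p G := fun A hA => by
  rw [eq_bot_of_not_dvd hA le_top (by rwa [card_top])]; infer_instance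

theorem PD.of_cy (h : ∀ p : ℕ, p.Prime → Cy p G) : PD G := fun p hp A B hA hB e => by
  haveI := Fact.mk hp
  obtain ⟨T, hT, hB'⟩ := exists_isSylowIn_le hB le_top
  obtain ⟨g, -, hg⟩ := hT.exists_cj_le hA le_top
  exact ⟨g, H80.eq_of_card_eq_of_le_isCyclic (h p hp T hT.isP) hB' hg (by rw [card_cj, e])⟩

omit [Finite G] in
theorem exists_surj {M N : Subgroup G} [M.Normal] (h : N = ⊤) :
    ∃ f : G →* N ⧸ M.subgroupOf N, Function.Surjective f :=
  ⟨(QuotientGroup.mk' _).comp ((MonoidHom.id G).codRestrict N fun x => h ▸ mem_top x),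
    (QuotientGroup.mk'_surjective _).comp fun x => ⟨x, rfl⟩⟩

theorem card_sec_lt {M U : Subgroup G} [M.Normal] (h1 : M ≠ ⊥) (hM : IsMulCommutative M) (hU : U ≤ M) :
    Nat.card (𝐍(U) ⧸ M.subgroupOf 𝐍(U)) < Nat.card G :=
  (H1.card_quotient_lt fun e => h1 (le_bot_iff.1 ((le_inf le_rfl (le_normalizer_of_le_centralizer
    ((comm_iff.1 hM).trans (centralizer_anti hU)))).trans (subgroupOf_eq_bot.1 e).le_bot))).trans_le
    (card_le_card_group _)

theorem top_of_prime [hp : Fact p.Prime] {M U : Subgroup G} [M.Normal] (h : Nat.card M = p) (hU : U ≤ M) :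
    𝐍(U) = ⊤ := by
  rcases (Nat.dvd_prime hp.out).1 (h ▸ card_dvd_of_le hU) with e | e
  · rw [card_eq_one.1 e]; exact normalizer_eq_top _
  · rw [eq_of_le_of_card_ge hU (by rw [h, e])]; exact normalizer_eq_top _

theorem not_dvd_sec {M N : Subgroup G} [M.Normal] (h : ¬ p ∣ M.index) :
    ¬ p ∣ Nat.card (N ⧸ M.subgroupOf N) := fun e => h (e.trans (relIndex_dvd_index_of_normal M N))

theorem pc_aux (r n : ℕ) : ∀ (G : Type u) [Group G] [Finite G] [Group.IsSolvable G], Nat.card G = n →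
    PD G → (∀ p : ℕ, p.Prime → p ≠ r → Cy p G) → PC G := by
  induction n using Nat.strong_induction_on with | _ n ih =>
  intro G _ _ _ hn hD hc
  rcases subsingleton_or_nontrivial G with h | h
  · exact fun A B _ => ⟨1, Subsingleton.elim _ _⟩
  obtain ⟨M, hM, -, h2, p, hp, -, h4, h5⟩ := H3.exists_normal_elementary_le (⊤ : Subgroup G)
    top_ne_bot inferInstance
  haveI := hM.normal
  haveI := Fact.mk hp
  have h6 := dich hM.ne_bot h4 fun A B hA hB _ _ => hD p hp A B hA hB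
  have h7 : ∀ U : Subgroup G, ∀ q : ℕ, q.Prime → q ≠ r → Cy q (𝐍(U) ⧸ M.subgroupOf 𝐍(U)) := fun U q hq e => by
    haveI := Fact.mk hq
    exact ((hc q hq e).sub _).map (QuotientGroup.mk'_surjective _)
  refine driver h5 (fun U hU V hV => hD p hp U V (h5.to_le hU) (h5.to_le hV)) (h6.imp And.left And.right)
    fun U hU => ih _ (hn ▸ card_sec_lt hM.ne_bot h2 hU) _ rfl ?_ (h7 U)
  rcases h6 with ⟨h8, h9⟩ | ⟨h8, -⟩
  · refine PD.of_cy fun q hq => ?_
    by_cases e : q = r
    swap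
    · exact h7 U q hq e
    have : p = r := by
      by_contra e'
      obtain ⟨x, hx⟩ := isCyclic_iff_exists_zpowers_eq_top.1 (hc p hp e' M h5)
      haveI := hM.nontrivial
      exact h9 (by
        rw [← card_top, ← hx, Nat.card_zpowers]
        exact orderOf_eq_prime (Subtype.ext (h4 x x.2)) fun e => top_ne_bot (by rw [← hx, e, zpowers_one_eq_bot]))
    rw [e, ← this]
    exact Cy.of_not_dvd (not_dvd_sec h8)
  · obtain ⟨f, hf⟩ := exists_surj (M := M) (top_of_prime h8 hU)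
    exact hD.map hf

theorem pc_of_cy [Group.IsSolvable G] (h : ∀ p : ℕ, p.Prime → Cy p G) : PC G :=
  pc_aux 0 _ G rfl (PD.of_cy h) fun p hp _ => h p hp

end H22.Eq
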