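import Cfsg.Agent.Lib.CH2.NmA
import Cfsg.Agent.S0205

/-! Groups in which the normalizer of every nontrivial `{p,q}`-subgroup is maximal:
the Sylow 2-subgroup is a four-group. -/

set_option autoImplicit false

namespace H22.Nm

open Subgroup Cfsg H69

variable {X : Type*} [Group X]

/-- The centralizer of `w` is a 2-group. -/
def P2 (w : X) : Prop := IsPGroup 2 (centralizer ({w} : Set X))

theorem P2.cj {w : X} (h : P2 w) (g : X) : P2 (g * w * g⁻¹) := by
  unfold P2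
  rw [← cj_centralizer_singleton]; exact isPGroup_cj h g

theorem P2.of_cj {w g : X} (h : P2 (g * w * g⁻¹)) : P2 w := by
  simpa [mul_assoc] using h.cj g⁻¹

theorem inv_eq_of_sq {a : X} (ha : a ^ 2 = 1) : a⁻¹ = a := by
  rw [inv_eq_iff_mul_eq_one, ← sq, ha]

theorem norm_two {z : X} (hz : z ^ 2 = 1) (z1 : z ≠ 1) :
    𝐍(zpowers z) = centralizer ({z} : Set X) := by
  refine le_antisymm (fun g hg => ?_) (cent_le_norm z)
  rcases mem_zpowers_two hz (conj_mem_of_mem_normalizer hg (mem_zpowers z)) with h | h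
  · exact absurd (by simpa using h) z1
  · exact mem_cent1.2 (mul_inv_eq_iff_eq_mul.1 h)

theorem exists_sq {U : Subgroup X} : ∀ (k : ℕ) (t : X), t ^ 2 ^ k ∈ U → t ∉ U →
    ∃ t' ∈ zpowers t, t' ∉ U ∧ t' ^ 2 ∈ U
  | 0, t, h1, h2 => absurd (by simpa using h1) h2
  | k + 1, t, h1, h2 => by
    by_cases h3 : t ^ 2 ∈ U
    · exact ⟨t, mem_zpowers t, h2, h3⟩
    · obtain ⟨t', h4, h5⟩ := exists_sq k (t ^ 2) (by rwa [← pow_mul, ← pow_succ']) h3
      exact ⟨t', zpowers_le.2 (pow_mem (mem_zpowers t) 2) h4, h5⟩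

theorem i2_sup {U : Subgroup X} {t : X} (hn : t ∈ 𝐍(U)) (h2 : t ^ 2 ∈ U) :
    I2 U (U ⊔ zpowers t) := by
  have key : ∀ y ∈ U ⊔ zpowers t, y ∉ U → y * t⁻¹ ∈ U := by
    intro y hy hyU
    obtain ⟨u, hu, _, ⟨i, rfl⟩, rfl⟩ := (mem_sup_of_le_normalizer_left (zpowers_le.2 hn)).1 hy
    have h2' : t ^ (2 : ℤ) ∈ U := by exact_mod_cast h2
    rcases Int.even_or_odd' i with ⟨k, rfl | rfl⟩
    · exact absurd (mul_mem hu (by simp only []; rw [zpow_mul]; exact zpow_mem h2' k)) hyU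
    · simp only []
      rw [zpow_add, zpow_one, ← mul_assoc, mul_inv_cancel_right, zpow_mul]
      exact mul_mem hu (zpow_mem h2' k)
  intro a ha b hb h1 h2
  have := conj_mem_of_mem_normalizer' hn (mul_mem (inv_mem (key a ha h1)) (key b hb h2))
  convert this using 1; group

variable [Finite X]

theorem P2.not {w e : X} (h : P2 w) (e3 : e ^ 3 = 1) (e1 : e ≠ 1) (hc : Commute e w) : False := by
  haveI := Fact.mk Nat.prime_three
  exact e1 (eq_one_of_pq (by norm_num) h (pg_zpowers1 e3) (mem_cent1.2 hc) (mem_zpowers e))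

theorem Hyp.exists_cent (h : Hyp X) {s e l : X} (s2 : s ^ 2 = 1) (s1 : s ≠ 1) (e3 : e ^ 3 = 1)
    (e1 : e ≠ 1) (hse : s * e * s⁻¹ = e⁻¹) (hl : l ∈ 𝐍(zpowers e)) :
    ∃ y ∈ zpowers e, Commute (y * l) s := by
  haveI := Fact.mk Nat.prime_three
  have hse' : s * e⁻¹ * s⁻¹ = e := by
    calc _ = (s * e * s⁻¹)⁻¹ := by group
      _ = e := by rw [hse, inv_inv]
  have sN : s ∈ 𝐍(zpowers e) := mem_normalizer_of_cj_le (by
    rw [cj_zpowers, hse]; exact zpowers_le.2 (inv_mem (mem_zpowers e)))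
  have a2 := h.a2 (p := 3) (q := 2) (by norm_num) (pg_zpowers1 e3) (pg_zpowers1 s2)
    (by simpa using e1) (zpowers_le.2 sN)
  obtain ⟨y, hy, s', hs', hls⟩ := (mem_sup_of_le_normalizer_left (zpowers_le.2 sN)).1
    (conj_mem_of_mem_normalizer (a2 ▸ hl) (mem_sup_right (mem_zpowers s)))
  have hys : s * y⁻¹ * s⁻¹ = y ∧ y ^ 3 = 1 := by
    rcases mem_zpowers_three e3 hy with rfl | rfl | rfl
    · simp
    · exact ⟨hse', e3⟩
    · exact ⟨by rw [inv_inv, hse], by rw [inv_pow, e3, inv_one]⟩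
  refine ⟨y, hy, ?_⟩
  rcases mem_zpowers_two s2 hs' with rfl | rfl
  · rw [mul_one] at hls
    have : l * s * l⁻¹ = 1 := eq_one_of_pq (p := 2) (q := 3) (by norm_num)
      (pg_zpowers1 (x := l * s * l⁻¹) (by rw [conj_pow, s2]; group)) (pg_zpowers1 e3)
      (mem_zpowers _) (hls ▸ hy)
    exact absurd (by simpa using this) s1
  · have : (y * l) * s' * (y * l)⁻¹ = s' := by
      calc _ = y * (l * s' * l⁻¹) * y⁻¹ := by group
        _ = y * y * (s' * y⁻¹ * s'⁻¹) * s' := by rw [hls]; group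
        _ = y ^ 3 * s' := by rw [hys.1, pow_three']
        _ = s' := by rw [hys.2, one_mul]
    exact mul_inv_eq_iff_eq_mul.1 this

theorem Hyp.stepQ (h : Hyp X) {s e : X} (s2 : s ^ 2 = 1) (s1 : s ≠ 1) (hs : P2 s) (e3 : e ^ 3 = 1)
    (e1 : e ≠ 1) (hse : s * e * s⁻¹ = e⁻¹) (hN : ¬ 𝐍(zpowers e) ≤ zpowers e ⊔ zpowers s) :
    ∃ u : X, u ^ 2 = 1 ∧ u ≠ 1 ∧ ¬ P2 u ∧ Commute u s ∧
      ∀ a, Commute a s → a * u * a⁻¹ = u ∨ a * u * a⁻¹ = u * s := by
  haveI := Fact.mk Nat.prime_three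
  have hse' : s * e⁻¹ * s⁻¹ = e := by
    calc _ = (s * e * s⁻¹)⁻¹ := by group
      _ = e := by rw [hse, inv_inv]
  have nes : ¬ Commute e s := fun hc => e1 (by
    have h1 : e⁻¹ = e := by rw [← hse, ← hc.eq]; group
    calc e = e ^ 3 * (e⁻¹ * e⁻¹) := by group
      _ = 1 := by rw [e3, one_mul]; nth_rw 1 [h1]; group)
  obtain ⟨l, hl, hl'⟩ := SetLike.not_le_iff_exists.1 hN
  obtain ⟨y, hy, cs⟩ := h.exists_cent s2 s1 e3 e1 hse hl
  obtain ⟨c, c1, cs, ce⟩ : ∃ c : X, c ≠ 1 ∧ Commute c s ∧ Commute c e := by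
    have cN : y * l ∈ 𝐍(zpowers e) := mul_mem (le_normalizer hy) hl
    have cn : y * l ∉ zpowers e ⊔ zpowers s := fun hc =>
      hl' (by simpa using mul_mem (inv_mem (mem_sup_left hy)) hc)
    rcases mem_zpowers_three e3 (conj_mem_of_mem_normalizer cN (mem_zpowers e)) with h1 | h1 | h1
    · exact absurd (conj_eq_one_iff.1 h1) e1
    · exact ⟨y * l, fun h2 => cn (h2 ▸ one_mem _), cs, mul_inv_eq_iff_eq_mul.1 h1⟩
    · refine ⟨s * (y * l), fun h2 => cn ?_, (Commute.refl s).mul_left cs, ?_⟩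
      · rw [eq_inv_of_mul_eq_one_right h2]
        exact inv_mem (mem_sup_right (mem_zpowers s))
      · have : s * (y * l) * e * (s * (y * l))⁻¹ = e := by
          calc _ = s * (y * l * e * (y * l)⁻¹) * s⁻¹ := by group
            _ = e := by rw [h1, hse']
        exact mul_inv_eq_iff_eq_mul.1 this
  obtain ⟨u, hu, uo⟩ := exists_orderOf_eq_prime
    (IsPGroup.to_le hs (zpowers_le.2 (mem_cent1.2 cs))) (by simpa using c1)
  obtain ⟨i, rfl⟩ := hu
  simp only [] at uo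
  have us : Commute (c ^ i) s := cs.zpow_left i
  have ue : Commute (c ^ i) e := ce.zpow_left i
  generalize c ^ i = u at uo us ue
  have u2 : u ^ 2 = 1 := by rw [← uo, pow_orderOf_eq_one]
  have u1 : u ≠ 1 := ne_one_of_orderOf Nat.prime_two uo
  have nu : ¬ P2 u := fun hp => hp.not e3 e1 ue.symm
  refine ⟨u, u2, u1, nu, us, ?_⟩
  have sNu : zpowers s ≤ 𝐍(zpowers u) := zpowers_le.2 (cent_le_norm u (mem_cent1.2 us.symm))
  have mE : ∀ y ∈ zpowers u ⊔ zpowers s, y = 1 ∨ y = u ∨ y = s ∨ y = u * s := by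
    intro y hy
    obtain ⟨a, ha, b, hb, rfl⟩ := (mem_sup_of_le_normalizer_left sNu).1 hy
    rcases mem_zpowers_two u2 ha with rfl | rfl <;> rcases mem_zpowers_two s2 hb with rfl | rfl <;>
      simp
  have co := h.co (isPGroup_sup_of_le_normalizer_left (pg_zpowers1 u2) (pg_zpowers1 s2) sNu)
    (fun e' => u1 (by rw [← mem_bot, ← e']; exact mem_sup_left (mem_zpowers u)))
  have cu : ∀ g ∈ 𝐍(zpowers u ⊔ zpowers s), g * u * g⁻¹ = u ∨ g * u * g⁻¹ = u * s := by
    intro g hg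
    rcases mE _ (conj_mem_of_mem_normalizer hg (mem_sup_left (mem_zpowers u))) with
      h1 | h1 | h1 | h1
    · exact absurd (by simpa using h1) u1
    · exact Or.inl h1
    · exact absurd (P2.of_cj (h1 ▸ hs)) nu
    · exact Or.inr h1
  have cs' : ∀ g ∈ 𝐍(zpowers u ⊔ zpowers s), g * s * g⁻¹ = s ∨ g * s * g⁻¹ = u * s := by
    intro g hg
    rcases mE _ (conj_mem_of_mem_normalizer hg (mem_sup_right (mem_zpowers s))) with
      h1 | h1 | h1 | h1
    · exact absurd (by simpa using h1) s1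
    · exact absurd (h1 ▸ hs.cj g) nu
    · exact Or.inl h1
    · exact Or.inr h1
  by_cases hp : P2 (u * s)
  · exfalso
    have h1 := co_eq co (h.cent_ne_top (pg_zpowers1 u2) u1) fun g hg => by
      rcases cu g hg with h1 | h1
      · exact mem_cent1.2 (mul_inv_eq_iff_eq_mul.1 h1)
      · exact absurd (P2.of_cj (h1 ▸ hp)) nu
    rcases cs' e (h1 ▸ mem_cent1.2 ue.symm) with h2 | h2
    · exact nes (mul_inv_eq_iff_eq_mul.1 h2)
    · have h3 : u = e * e := by
        calc u = e * s * e⁻¹ * s⁻¹ := by rw [h2]; group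
          _ = e * (s * e⁻¹ * s⁻¹) := by group
          _ = e * e := by rw [hse']
      refine e1 ?_
      calc e = (e ^ 3)⁻¹ * (e * e) ^ 2 := by rw [sq, pow_three]; group
        _ = 1 := by rw [← h3, u2, e3]; group
  · have h1 := co_eq co (h.cent_ne_top (pg_zpowers1 s2) s1) fun g hg => by
      rcases cs' g hg with h1 | h1
      · exact mem_cent1.2 (mul_inv_eq_iff_eq_mul.1 h1)
      · exact absurd (h1 ▸ hs.cj g) hp
    exact fun a ha => cu a (h1 ▸ mem_cent1.2 ha)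

namespace Ess

variable {U : Subgroup X} {x : X} {q : ℕ} (e : Ess U x q)
include e

theorem no_over (h : Hyp X) {S : Subgroup X} (hS : IsPGroup 2 S) (hlt : U < S) : False := by
  haveI := Fact.mk e.qp
  obtain ⟨t0, ht0, ht0U⟩ := SetLike.exists_of_lt (lt_inf_normalizer_of_lt hS hlt)
  obtain ⟨k, hk⟩ := isPGroup_iff_mem.1 hS t0 ht0.1
  obtain ⟨t, ht, htU, ht2⟩ := exists_sq k t0 (hk ▸ one_mem U) ht0U
  have htS : t ∈ S ⊓ 𝐍(U) := zpowers_le.2 ht0 ht
  set W := U ⊔ zpowers t with hW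
  have hW2 : IsPGroup 2 W := hS.to_le (sup_le hlt.le (zpowers_le.2 htS.1))
  have hWN : W ≤ 𝐍(U) := sup_le le_normalizer (zpowers_le.2 htS.2)
  have hUW : U ≤ W := le_sup_left
  have W0 : W ≠ ⊥ := fun e' => e.ne_bot (le_bot_iff.1 (e' ▸ hUW))
  have i2 : I2 U W := i2_sup htS.2 ht2
  have coT := h.co hW2 W0
  have hT2 : IsPGroup 2 𝐍(W) := two_of_no_odd fun y hy s hs s2 ho => by
    haveI := Fact.mk hs
    by_cases hc : y ∈ 𝐂(W)
    · exact ne_one_of_orderOf hs ho (eq_one_of_pq s2.symm e.two (pg_of_orderOf ho)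
        (e.cent h ▸ centralizer_anti hUW hc) (mem_zpowers y))
    · have e' : Ess W y s := ⟨hs, s2, hW2, pg_of_orderOf ho, hy, hc⟩
      exact htU (e.cent h ▸ centralizer_anti hUW (e'.ab h (mem_sup_right (mem_zpowers t))))
  obtain ⟨g, hg, hgU⟩ : ∃ g ∈ 𝐍(W), g ∉ 𝐍(U) := by
    refine SetLike.not_le_iff_exists.1 fun hle => e.nc ?_
    have h1 := co_eq coT (h.co e.two e.ne_bot).1 hle
    rw [eq_one_of_pq e.q2.symm hT2 e.xq (h1 ▸ e.nm) (mem_zpowers x)]
    exact one_mem _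
  have e' := e.cj g
  have hU'W : U ^ᶜ g ≤ W := cj_le_of_mem_normalizer hUW hg
  obtain ⟨s, hs, hsU⟩ : ∃ s ∈ U ^ᶜ g, s ∉ U :=
    SetLike.not_le_iff_exists.1 fun hle => hgU (mem_normalizer_of_cj_le hle)
  have s2 := e'.sq h hs
  have s1 : s ≠ 1 := fun h1 => hsU (h1 ▸ one_mem U)
  have si := inv_eq_of_sq s2
  have sN : s ∈ 𝐍(U) := hWN (hU'W hs)
  have i2s : I2 (centralizer ({s} : Set X)) U := by
    intro a ha b hb h1 h2
    have k : ∀ v ∈ U ^ᶜ g, v ∈ centralizer ({s} : Set X) := fun v hv =>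
      mem_cent1.2 (e'.comm h hv hs)
    exact k _ (i2.cj hg a (hUW ha) b (hUW hb) (fun h3 => h1 (k a h3)) (fun h3 => h2 (k b h3)))
  -- the element `f` of order 3 inverted by `s`
  set f := s * (x * s * x⁻¹) with hf
  have fm : f ∈ U ⊔ zpowers x := by
    have hxx : x ∈ U ⊔ zpowers x := mem_sup_right (mem_zpowers x)
    have := mul_mem (conj_mem_of_mem_normalizer (e.nsup h ▸ sN) hxx) (inv_mem hxx)
    rw [si] at this
    simpa [hf, mul_assoc] using this
  have fU : f ∉ U := fun hfU => by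
    have h1 : x ∈ 𝐍(U ⊔ zpowers s) := mem_normalizer_of_cj_le (by
      rw [cj_sup, cj_eq_of_mem_normalizer e.nm, cj_zpowers]
      refine sup_le le_sup_left (zpowers_le.2 ?_)
      have := mul_mem (inv_mem (mem_sup_right (S := U) (mem_zpowers s)))
        (mem_sup_left (T := zpowers s) hfU)
      simpa [hf] using this)
    have h2 := e.max h (isPGroup_sup_of_le_normalizer_left e.two (pg_zpowers1 s2)
      (zpowers_le.2 sN)) le_sup_left h1
    exact hsU (h2 ▸ mem_sup_right (mem_zpowers s))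
  obtain ⟨v, hv, c, hc, hfe⟩ := (mem_sup_of_le_normalizer_left (zpowers_le.2 e.nm)).1 fm
  have c1 : c ≠ 1 := fun h1 => fU (by rw [hfe, h1, mul_one]; exact hv)
  have ec := e.of_mem h hc c1
  have fact : ∀ a ∈ U, f * a * f⁻¹ = c * a * c⁻¹ := by
    intro a ha
    have := e.comm h hv (conj_mem_of_mem_normalizer ec.nm ha)
    rw [hfe]
    calc _ = v * (c * a * c⁻¹) * v⁻¹ := by group
      _ = _ := by rw [this.eq]; group
  have ffpf : ∀ a ∈ U, Commute a f → a = 1 := by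
    intro a ha hca
    refine ec.fpf h ha (mul_inv_eq_iff_eq_mul.1 ?_).symm
    rw [← fact a ha, ← hca.eq]; group
  have hc4 : Nat.card U ≤ 4 := by
    refine card_le_four i2s (i2s.cj e.nm) fun a ha h1 h2 => ffpf a ha ?_
    rw [cj_centralizer_singleton] at h2
    exact (mem_cent1.1 h1).mul_right (mem_cent1.1 h2)
  -- the central involution
  obtain ⟨z, hz, z1⟩ : ∃ z ∈ W ⊓ 𝐂(𝐍(W)), z ≠ 1 := by
    by_contra hcon
    push Not at hcon
    exact inf_centralizer_ne_bot hW2 hT2 le_rfl W0 (eq_bot_iff.2 hcon)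
  have zU : z ∈ U := e.cent h ▸ centralizer_anti (hUW.trans le_normalizer) hz.2
  have zU' : z ∈ U ^ᶜ g := by
    have := cj_mem g zU
    rwa [(mem_cent_comm.1 hz.2 g hg).eq, mul_inv_cancel_right] at this
  have z2 := e.sq h zU
  have pz : P2 z := by
    have := co_eq coT (h.cent_ne_top (pg_zpowers1 z2) z1)
      fun y hy => mem_cent1.2 (mem_cent_comm.1 hz.2 y hy)
    unfold P2
    rwa [← this]
  have pU : ∀ a ∈ U, a ≠ 1 → P2 a := fun a ha a1 => by
    obtain ⟨k, -, rfl⟩ := e.conj_four h hc4 zU z1 ha a1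
    exact pz.cj k
  have hc4' : Nat.card (U ^ᶜ g) ≤ 4 := by rwa [card_cj]
  have pU' : ∀ a ∈ U ^ᶜ g, a ≠ 1 → P2 a := fun a ha a1 => by
    obtain ⟨k, -, rfl⟩ := e'.conj_four h hc4' zU' z1 ha a1
    exact pz.cj k
  have c3 : c ^ 3 = 1 := (ec.four h hc4 zU z1).2
  have fN : f ∈ 𝐍(U) := hfe ▸ mul_mem (le_normalizer hv) ec.nm
  have f3 : f ^ 3 = 1 := by
    refine ffpf _ ?_ (Commute.pow_left rfl 3)
    rw [← e.cent h, mem_cent_comm]
    intro a ha
    have h1 := conj_mem_of_mem_normalizer ec.nm ha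
    have h2 := conj_mem_of_mem_normalizer ec.nm h1
    have : f ^ 3 * a * (f ^ 3)⁻¹ = a := by
      calc _ = f * (f * (f * a * f⁻¹) * f⁻¹) * f⁻¹ := by rw [pow_three]; group
        _ = c ^ 3 * a * (c ^ 3)⁻¹ := by rw [fact a ha, fact _ h1, fact _ h2, pow_three]; group
        _ = a := by rw [c3]; group
    exact (mul_inv_eq_iff_eq_mul.1 this).symm
  have f1 : f ≠ 1 := fun h1 => fU (h1 ▸ one_mem U)
  have sf : s * f * s⁻¹ = f⁻¹ := by
    calc _ = (s * s) * (x * s * x⁻¹) * s⁻¹ := by rw [hf]; group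
      _ = (x * s⁻¹ * x⁻¹) * s⁻¹ := by rw [← _root_.sq, s2, si]; group
      _ = f⁻¹ := by rw [hf]; group
  have hN : ¬ 𝐍(zpowers f) ≤ zpowers f ⊔ zpowers s := fun hle => by
    haveI := Fact.mk Nat.prime_three
    have h1 := co_eq (h.co (pg_zpowers1 f3) (by simpa using f1)) (h.co e.two e.ne_bot).1
      (hle.trans (sup_le (zpowers_le.2 fN) (zpowers_le.2 sN)))
    have h2 : z ∈ 𝐍(zpowers f) := h1 ▸ le_normalizer zU
    have h3 : z * f * z⁻¹ * f⁻¹ = 1 := eq_one_of_pq (p := 2) (q := 3) (by norm_num) e.two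
      (pg_zpowers1 f3)
      (by simpa [mul_assoc] using mul_mem zU (conj_mem_of_mem_normalizer fN (inv_mem zU)))
      (mul_mem (conj_mem_of_mem_normalizer h2 (mem_zpowers f)) (inv_mem (mem_zpowers f)))
    exact z1 (ffpf z zU (commutatorElement_eq_one_iff_commute.1 h3))
  obtain ⟨u, u2, u1, nu, us, hu⟩ := h.stepQ s2 s1 (pU' s hs s1) f3 f1 sf hN
  obtain ⟨k, -, hk'⟩ := e'.conj_four h hc4' zU' z1 hs s1
  set w := k⁻¹ * u * k with hw
  have w2 : w ^ 2 = 1 := by
    have : w ^ 2 = k⁻¹ * u ^ 2 * k := by rw [hw, _root_.sq, _root_.sq]; group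
    rw [this, u2]; group
  have wi := inv_eq_of_sq w2
  have w1 : w ≠ 1 := fun h1 => u1 (by
    calc u = k * w * k⁻¹ := by rw [hw]; group
      _ = 1 := by rw [h1]; group)
  have nw : ¬ P2 w := fun hp => nu (by simpa [hw, mul_assoc] using hp.cj k)
  have wz : Commute w z := by
    have := us.eq
    rw [hk'] at this
    change w * z = z * w
    calc w * z = k⁻¹ * (u * (k * z * k⁻¹)) * k := by rw [hw]; group
      _ = z * w := by rw [this, hw]; group
  have wN : w ∈ 𝐍(U) := by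
    refine mem_normalizer_of_cj_le fun y hy => ?_
    obtain ⟨a, ha, rfl⟩ := mem_cj'.1 hy
    have hca : Commute (k * a * k⁻¹) s := by
      rw [hk']
      change _ * _ = _ * _
      calc _ = k * (a * z) * k⁻¹ := by group
        _ = _ := by rw [(e.comm h ha zU).eq]; group
    rcases hu _ hca with h1 | h1
    · have : w * a * w⁻¹ = a := by
        calc _ = a * (k⁻¹ * ((k * a * k⁻¹)⁻¹ * u * (k * a * k⁻¹)) * k) * w⁻¹ := by rw [hw]; group
          _ = a := by nth_rw 1 [← h1]; rw [hw]; group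
      rw [this]; exact ha
    · have : w⁻¹ * a * w = z * a := by
        calc _ = k⁻¹ * u⁻¹ * (k * a * k⁻¹ * u * (k * a * k⁻¹)⁻¹) * k * a := by rw [hw]; group
          _ = z * a := by rw [h1, hk']; group
      rw [wi] at this ⊢
      rw [this]; exact mul_mem zU ha
  have ha := conj_mem_of_mem_normalizer e.nm zU
  have a1 : x * z * x⁻¹ ≠ 1 := by simpa using z1
  have az : x * z * x⁻¹ ≠ z := fun h1 => z1 (e.fpf h zU (mul_inv_eq_iff_eq_mul.1 h1).symm)
  generalize x * z * x⁻¹ = a at ha a1 az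
  have sz : Commute s z := e'.comm h hs zU'
  obtain ⟨key, h1 | h1⟩ := e.swap h hc4 zU z1 ha a1 az wN wz
  · exact nw (pU w h1 w1)
  obtain ⟨-, h2 | h2⟩ := e.swap h hc4 zU z1 ha a1 az sN sz
  · exact hsU h2
  have nsa : ¬ Commute s a := fun hca => z1 (by
    rw [hca.eq, mul_inv_cancel_right] at h2
    simpa using h2)
  obtain ⟨-, h3 | h3⟩ := e.swap h hc4 zU z1 ha a1 az (mul_mem sN wN) (sz.mul_left wz)
  · have sw : Commute s (s * w) := by
      refine (Commute.refl s).mul_right ?_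
      have := inv_eq_of_sq (e.sq h h3)
      rw [mul_inv_rev, si, wi] at this
      exact this.symm
    have hw' : w = s * (s * w) := by rw [← mul_assoc, ← _root_.sq, s2, one_mul]
    rcases key _ h3 with h4 | h4 | h4 | h4 <;> rw [h4] at hw' sw
    · exact nw (pU' w (by rw [hw', mul_one]; exact hs) w1)
    · exact nw (pU' w (hw' ▸ mul_mem hs zU') w1)
    · exact nsa sw
    · exact nsa (by simpa using sw.mul_right sz.inv_right)
  · refine z1 ?_
    have : s * w * a * (s * w)⁻¹ = a := by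
      calc _ = s * (w * a * w⁻¹) * s⁻¹ := by group
        _ = (s * a * s⁻¹) * (s * z * s⁻¹) := by rw [h1]; group
        _ = a * z ^ 2 := by rw [h2, sz.eq, _root_.sq]; group
        _ = a := by rw [z2, mul_one]
    rw [this] at h3
    simpa using h3

theorem le_of_two (h : Hyp X) {S : Subgroup X} (hS : IsPGroup 2 S) (hle : U ≤ S) : S = U := by
  by_contra hne
  exact e.no_over h hS (lt_of_le_of_ne hle (Ne.symm hne))

theorem exists_odd (h : Hyp X) {z : X} (hz : z ∈ U) (z1 : z ≠ 1) :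
    ∃ (y : X) (s : ℕ), s.Prime ∧ s ≠ 2 ∧ orderOf y = s ∧ Commute y z := by
  by_contra hcon
  push Not at hcon
  have h1 := e.le_of_two h (S := centralizer ({z} : Set X))
    (two_of_no_odd fun y hy s hs s2 ho => hcon y s hs s2 ho (mem_cent1.1 hy))
    fun a ha => mem_cent1.2 (e.comm h ha hz)
  have h2 := h.co (pg_zpowers1 (e.sq h hz)) (by simpa using z1)
  rw [norm_two (e.sq h hz) z1, h1] at h2
  have h3 := co_eq h2 (h.co e.two e.ne_bot).1 le_normalizer
  exact e.nc (e.ab h (h3 ▸ e.nm))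

theorem card_le (h : Hyp X) : Nat.card U ≤ 4 := by
  obtain ⟨z, hz, z1⟩ := e.exists_ne
  obtain ⟨y, s, hs, s2, ho, hyz⟩ := e.exists_odd h hz z1
  haveI := Fact.mk hs
  have y1 := ne_one_of_orderOf hs ho
  have key : ∀ {y' u : X}, orderOf y' = s → u ∈ U → u ≠ 1 → Commute u y' →
      𝐍(zpowers y') = centralizer ({u} : Set X) := by
    intro y' u ho' hu u1 hc
    rw [← norm_two (e.sq h hu) u1]
    refine h.a3 s2 (pg_of_orderOf ho') (pg_zpowers1 (e.sq h hu))
      (by simpa using ne_one_of_orderOf hs ho') (by simpa using u1) (zpowers_le.2 ?_)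
    rw [centralizer_zpowers]; exact mem_cent1.2 hc
  have hL := key ho hz z1 hyz.symm
  have hUN : ∀ a ∈ U, a ∈ 𝐍(zpowers y) := fun a ha => hL ▸ mem_cent1.2 (e.comm h ha hz)
  have i2 : I2 (centralizer ({y} : Set X)) U := by
    intro a ha b hb h1 h2
    have k1 := h.inv_of_not_comm s2 (e.sq h ha) (pg_of_orderOf ho) (hUN a ha)
      fun hc => h1 (mem_cent1.2 hc.symm)
    have k2 := h.inv_of_not_comm s2 (e.sq h hb) (pg_of_orderOf ho) (hUN b hb)
      fun hc => h2 (mem_cent1.2 hc.symm)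
    refine mem_cent1.2 (mul_inv_eq_iff_eq_mul.1 ?_)
    calc _ = a⁻¹ * (b * y * b⁻¹) * a := by group
      _ = y := by rw [k2, ← k1]; group
  refine card_le_four i2 (i2.cj e.nm) fun u hu h1 h2 => ?_
  by_contra u1
  rw [cj_centralizer_singleton] at h2
  have h3 := key ho hu u1 (mem_cent1.1 h1)
  have h4 := key (by rw [← ho]; exact (MulAut.conj x).orderOf_eq y) hu u1 (mem_cent1.1 h2)
  have h5 : x ∈ 𝐍(𝐍(zpowers y)) := by
    rw [← cj_eq_self_iff, cj_normalizer, cj_zpowers, h4, h3]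
  have h6 := e.min h (inf_le_left : U ⊓ 𝐂(𝐍(zpowers y)) ≤ U) (fun e' => z1 (by
    rw [← mem_bot, ← e']
    exact ⟨hz, mem_cent_comm.2 fun a ha => mem_cent1.1 (hL ▸ ha)⟩))
    (zpowers_le.1 (le_normalizer_inf (zpowers_le.2 e.nm)
      (le_normalizer_centralizer (zpowers_le.2 h5))))
  have h7 : y ∈ U := by
    rw [← e.cent h, mem_cent_comm]
    intro a ha
    rw [← h6] at ha
    exact (mem_cent_comm.1 ha.2 y (le_normalizer (mem_zpowers y))).symm
  exact y1 (eq_one_of_pq s2.symm e.two (pg_of_orderOf ho) h7 (mem_zpowers y))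

theorem norm_eq (h : Hyp X) : 𝐍(U) = U ⊔ zpowers x := by
  refine le_antisymm (fun n hn => ?_) (sup_le le_normalizer (zpowers_le.2 e.nm))
  obtain ⟨z, hz, z1⟩ := e.exists_ne
  have hc := e.card_le h
  obtain ⟨k, hk, hk'⟩ := e.conj_four h hc hz z1 (conj_mem_of_mem_normalizer hn hz)
    (by simpa using z1)
  have mN : k⁻¹ * n ∈ 𝐍(U) := mul_mem (inv_mem (zpowers_le.2 e.nm hk)) hn
  have mz : Commute (k⁻¹ * n) z := by
    refine mul_inv_eq_iff_eq_mul.1 ?_
    calc _ = k⁻¹ * (n * z * n⁻¹) * k := by group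
      _ = z := by rw [hk']; group
  suffices hm : k⁻¹ * n ∈ U by
    simpa using mul_mem (mem_sup_right (S := U) hk) (mem_sup_left (T := zpowers x) hm)
  generalize k⁻¹ * n = m at mN mz
  have ha := conj_mem_of_mem_normalizer e.nm hz
  have a1 : x * z * x⁻¹ ≠ 1 := by simpa using z1
  have az : x * z * x⁻¹ ≠ z := fun h1 => z1 (e.fpf h hz (mul_inv_eq_iff_eq_mul.1 h1).symm)
  generalize x * z * x⁻¹ = a at ha a1 az
  obtain ⟨-, h1 | h1⟩ := e.swap h hc hz z1 ha a1 az mN mz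
  · exact h1
  obtain ⟨-, h2 | h2⟩ := e.swap h hc hz z1 ha a1 az (mul_mem mN mN) (mz.mul_left mz)
  · have m4 : m ^ 2 ^ 2 = 1 := by rw [← e.sq h h2, ← _root_.sq m, ← pow_mul]; rfl
    have := e.le_of_two h (isPGroup_sup_of_le_normalizer_left e.two (pg_zpowers m4)
      (zpowers_le.2 mN)) le_sup_left
    exact this ▸ mem_sup_right (mem_zpowers m)
  · refine absurd ?_ z1
    have : m * m * a * (m * m)⁻¹ = a := by
      calc _ = m * (m * a * m⁻¹) * m⁻¹ := by group
        _ = (m * a * m⁻¹) * (m * z * m⁻¹) := by nth_rw 1 [h1]; group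
        _ = a * z ^ 2 := by rw [h1, mz.eq, _root_.sq]; group
        _ = a := by rw [e.sq h hz, mul_one]
    rw [this] at h2
    simpa using h2

theorem card_eq (h : Hyp X) : Nat.card U = 4 := by
  refine le_antisymm (e.card_le h) ?_
  obtain ⟨z, hz, z1⟩ := e.exists_ne
  have ha := conj_mem_of_mem_normalizer e.nm hz
  have a1 : x * z * x⁻¹ ≠ 1 := by simpa using z1
  have az : x * z * x⁻¹ ≠ z := fun h1 => z1 (e.fpf h hz (mul_inv_eq_iff_eq_mul.1 h1).symm)
  obtain ⟨n, hn⟩ := IsPGroup.iff_card.1 e.two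
  have h3 : 3 ≤ Nat.card U := by
    have hs : ({1, z, x * z * x⁻¹} : Set X) ⊆ (U : Set X) := by
      intro y hy
      simp only [Set.mem_insert_iff, Set.mem_singleton_iff] at hy
      rcases hy with rfl | rfl | rfl
      exacts [one_mem _, hz, ha]
    have := Set.ncard_le_ncard hs
    rwa [Set.ncard_insert_of_notMem (by simp only [Set.mem_insert_iff, Set.mem_singleton_iff, not_or]; exact ⟨z1.symm, a1.symm⟩), Set.ncard_pair az.symm] at this
  rw [hn] at h3 ⊢
  rcases n with _ | _ | n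
  · omega
  · omega
  · calc 4 = 2 ^ 2 := rfl
      _ ≤ _ := Nat.pow_le_pow_right (by norm_num) (by omega)

end Ess

theorem exists_ess {Y : Subgroup X} (hY : ¬ Group.IsSolvable Y) :
    ∃ (U : Subgroup X) (x : X) (q : ℕ), Ess U x q ∧ U ≤ Y ∧ x ∈ Y := by
  by_contra hcon
  push Not at hcon
  obtain ⟨P⟩ : Nonempty (Sylow 2 Y) := inferInstance
  have h1 : HasNormalPComplement 2 Y := by
    refine H4.hasNormalPComplement_of_forall_prime_pow P fun Q hQ q hq q2 _ g hg ⟨k, hk⟩ => ?_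
    by_contra hc
    refine hcon (Q.map Y.subtype) g q ⟨hq, q2, (P.isPGroup'.to_le hQ).map _,
      pg_zpowers (k := k) (by exact_mod_cast congrArg Subtype.val hk), ?_, fun hc' => hc ?_⟩
      (map_subtype_le Q) g.2
    · have : (g : X) ∈ (𝐍(Q)).map Y.subtype := ⟨g, hg, rfl⟩
      rw [map_subtype_normalizer] at this
      exact this.2
    · refine mem_cent_comm.2 fun a ha => Subtype.ext ?_
      exact (mem_cent_comm.1 hc' a ⟨a, ha, rfl⟩).eq
  obtain ⟨N, hN, h2, k, hk⟩ := H4.hasNormalPComplement_iff_exists.1 h1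
  refine hY (H1.isSolvable_of_normal_of_quotient N
    (Cfsg.Agent.S0205.result (by rwa [← Nat.not_even_iff_odd, even_iff_two_dvd])) ?_)
  exact H1.isSolvable_of_isPGroup (IsPGroup.of_card (p := 2) (n := k) (by rw [← hk]; rfl))

theorem Hyp.eq_top (h : Hyp X) {Y : Subgroup X} (hY : ¬ Group.IsSolvable Y) : Y = ⊤ := by
  obtain ⟨U, x, q, e, hU, hx⟩ := exists_ess hY
  haveI := Fact.mk e.qp
  by_contra hne
  have h1 := co_eq (h.co e.two e.ne_bot) hne (e.norm_eq h ▸ sup_le hU (zpowers_le.2 hx))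
  rw [← h1, e.norm_eq h, sup_comm] at hY
  exact hY (H1.isSolvable_sup_of_le_normalizer (H1.isSolvable_of_isPGroup e.xq)
    (H1.isSolvable_of_isPGroup e.two) (zpowers_le.2 e.nm))

end H22.Nm
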