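import Cfsg.Agent.Lib.CH2.NmB
import Cfsg.Agent.Lib.GL.Basic
import Cfsg.Agent.S0483
import Cfsg.Agent.S0804
import Cfsg.Agent.S0811
import Cfsg.Agent.S0812
import Cfsg.Agent.S4040

/-! Groups in which the normalizer of every nontrivial `{p,q}`-subgroup is maximal:
the nonsolvable one is `L₂(13)`. -/

set_option autoImplicit false

namespace H22.Nm

open Subgroup Cfsg H69

variable {X : Type*} [Group X] [Finite X]

omit [Finite X] in
theorem Hyp.congr {Y : Type*} [Group Y] (h : Hyp X) (f : X ≃* Y) : Hyp Y := by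
  intro H h0 ⟨p, q, hp, hq, hb⟩
  have := h (H.map f.symm.toMonoidHom) (by rwa [Ne, map_eq_bot_iff_of_injective _ f.symm.injective])
    ⟨p, q, hp, hq, by rwa [card_map_of_injective f.symm.injective]⟩
  rw [← (f.symm.mapSubgroup).isCoatom_iff]
  rw [← map_equiv_normalizer_eq] at this
  exact this

theorem pg_of_no {p : ℕ} [Fact p.Prime] {H : Subgroup X}
    (h : ∀ y ∈ H, ∀ s : ℕ, s.Prime → s ≠ p → orderOf y = s → False) : IsPGroup p H := by
  rw [← H1.isPiSubgroup_singleton_iff, H1.isPiSubgroup_iff]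
  intro s hs hd
  by_contra hne
  haveI := Fact.mk hs
  obtain ⟨y, hy⟩ := exists_prime_orderOf_dvd_card' s hd
  exact h y y.2 s hs (by simpa using hne) (by simpa using hy)

theorem sylow_of_prime {s : ℕ} [Fact s.Prime] {y : X} (ho : orderOf y = s)
    (hs : ¬ s * s ∣ Nat.card X) : IsSylowIn s (zpowers y) ⊤ := by
  refine isSylowIn_of_not_dvd_relIndex (pg_of_orderOf ho) le_top fun hd => hs ?_
  rw [relIndex_top_right] at hd
  rw [← (zpowers y).card_mul_index, Nat.card_zpowers, ho]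
  exact Nat.mul_dvd_mul_left s hd

theorem Hyp.dih (h : Hyp X) {D : Subgroup X} (hD : IsCoatom D) {n : ℕ} (n0 : n ≠ 0)
    (f : D ≃* DihedralGroup n) {r : ℕ} (hr : r.Prime) (hrn : r ∣ n) :
    (∃ y : X, orderOf y = r ∧ Nat.card 𝐍(zpowers y) = 2 * n) ∧ (r ≠ 2 → n ∣ 2 * r) := by
  haveI := Fact.mk hr
  haveI : NeZero n := ⟨n0⟩
  set c : X := ((f.symm (DihedralGroup.r 1) : D) : X) with hc
  set s : X := ((f.symm (DihedralGroup.sr 0) : D) : X) with hs
  have oc : orderOf c = n := by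
    rw [hc, orderOf_coe, f.symm.orderOf_eq, DihedralGroup.orderOf_r_one]
  have key : ∀ d ∈ D, d * c * d⁻¹ = c ∨ d * c * d⁻¹ = c⁻¹ := by
    intro d hd
    obtain ⟨a, ha⟩ := f.symm.surjective ⟨d, hd⟩
    have hd' : d = (f.symm a : D) := by rw [ha]
    have : a * DihedralGroup.r 1 * a⁻¹ = DihedralGroup.r 1 ∨
        a * DihedralGroup.r 1 * a⁻¹ = (DihedralGroup.r 1)⁻¹ := by
      rcases a with i | i
      · left; simp
      · right; simp
    rw [hd', hc, ← Subgroup.coe_inv, ← Subgroup.coe_inv, ← Subgroup.coe_mul, ← Subgroup.coe_mul,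
      ← map_inv, ← map_inv, ← map_mul, ← map_mul]
    rcases this with h1 | h1 <;> rw [h1] <;> simp
  have s2 : s ^ 2 = 1 := by
    rw [hs, ← Subgroup.coe_pow, ← map_pow, sq, DihedralGroup.sr_mul_self]; simp
  have s1 : s ≠ 1 := by
    rw [hs]
    intro h1
    have h2 : f.symm (DihedralGroup.sr 0) = 1 := Subtype.ext h1
    rw [EmbeddingLike.map_eq_one_iff] at h2
    rw [DihedralGroup.one_def] at h2
    cases h2
  have sc : s * c * s⁻¹ = c⁻¹ := by
    rw [hs, hc, ← Subgroup.coe_inv, ← Subgroup.coe_inv, ← Subgroup.coe_mul, ← Subgroup.coe_mul,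
      ← map_inv, ← map_inv, ← map_mul, ← map_mul]
    simp
  have oy : orderOf (c ^ (n / r)) = r := by
    have := orderOf_pow_orderOf_div (x := c) (by rwa [oc]) (by rwa [oc] : r ∣ orderOf c)
    rwa [oc] at this
  set y := c ^ (n / r) with hy
  have y0 : zpowers y ≠ ⊥ := by simpa using ne_one_of_orderOf hr oy
  have hN : D = 𝐍(zpowers y) := by
    refine co_eq hD (h.co (pg_of_orderOf oy) y0).1 fun d hd => mem_normalizer_of_cj_le ?_
    rw [cj_zpowers, zpowers_le, hy, ← conj_pow]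
    rcases key d hd with h1 | h1 <;> rw [h1]
    · exact mem_zpowers _
    · rw [inv_pow]; exact inv_mem (mem_zpowers _)
  refine ⟨⟨y, oy, by rw [← hN, Nat.card_congr f.toEquiv, DihedralGroup.nat_card]⟩, fun r2 => ?_⟩
  have sN : zpowers s ≤ 𝐍(zpowers y) := zpowers_le.2 (hN ▸ (f.symm _).2)
  have cN : c ∈ 𝐍(zpowers y ⊔ zpowers s) := by
    rw [h.a2 r2 (pg_of_orderOf oy) (pg_zpowers1 s2) y0 sN, ← hN]; exact (f.symm _).2
  obtain ⟨a, ha, b, hb, hab⟩ := (mem_sup_of_le_normalizer_left sN).1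
    (conj_mem_of_mem_normalizer cN (mem_sup_right (mem_zpowers s)))
  rcases mem_zpowers_two s2 hb with rfl | rfl
  · rw [mul_one] at hab
    have : c * s * c⁻¹ = 1 := eq_one_of_pq r2.symm
      (pg_zpowers1 (x := c * s * c⁻¹) (by rw [conj_pow, s2]; group)) (pg_of_orderOf oy)
      (mem_zpowers _) (hab ▸ ha)
    exact absurd (by simpa using this) s1
  · have h1 : a = c ^ 2 := by
      calc a = c * s * c⁻¹ * s⁻¹ := by rw [hab]; group
        _ = c * (s * c * s⁻¹)⁻¹ := by group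
        _ = c ^ 2 := by rw [sc, inv_inv, sq]
    rw [← oc, orderOf_dvd_iff_pow_eq_one, pow_mul, ← h1, ← orderOf_dvd_iff_pow_eq_one, ← oy]
    exact orderOf_dvd_of_mem_zpowers ha

namespace Ess

variable {U : Subgroup X} {x : X} {q : ℕ} (e : Ess U x q)
include e

theorem sylow (h : Hyp X) : IsSylowIn 2 U ⊤ :=
  ⟨le_top, e.two, fun _ h1 _ h2 => e.le_of_two h h2 h1⟩

theorem not_eight (h : Hyp X) : ¬ 8 ∣ Nat.card X := by
  intro hd
  have h1 := (e.sylow h).not_dvd_relIndex
  rw [relIndex_top_right] at h1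
  rw [← U.card_mul_index, e.card_eq h] at hd
  omega

theorem conj_inv (h : Hyp X) {a b : X} (ha : orderOf a = 2) (hb : orderOf b = 2) :
    ∃ g : X, b = g * a * g⁻¹ := by
  obtain ⟨g, -, hg⟩ := (e.sylow h).exists_cj_le (pg_of_orderOf ha) le_top
  obtain ⟨k, -, hk⟩ := (e.sylow h).exists_cj_le (pg_of_orderOf hb) le_top
  rw [cj_zpowers, zpowers_le] at hg hk
  obtain ⟨l, -, hl⟩ := e.conj_four h (e.card_le h) hg
    (by simpa using ne_one_of_orderOf Nat.prime_two ha) hk
    (by simpa using ne_one_of_orderOf Nat.prime_two hb)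
  refine ⟨k⁻¹ * l * g, ?_⟩
  calc b = k⁻¹ * (k * b * k⁻¹) * k := by group
    _ = _ := by rw [hl]; group

theorem ne_sixty (h : Hyp X) : Nat.card X ≠ 60 := by
  intro hc
  obtain ⟨z, hz, z1⟩ := e.exists_ne
  obtain ⟨y, s, hs, s2, ho, hyz⟩ := e.exists_odd h hz z1
  haveI := Fact.mk hs
  have y0 : zpowers y ≠ ⊥ := by simpa using ne_one_of_orderOf hs ho
  have hL : 𝐍(zpowers y) = centralizer ({z} : Set X) := by
    rw [← norm_two (e.sq h hz) z1]
    refine h.a3 s2 (pg_of_orderOf ho) (pg_zpowers1 (e.sq h hz)) y0 (by simpa using z1)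
      (zpowers_le.2 ?_)
    rw [centralizer_zpowers]; exact mem_cent1.2 hyz.symm
  have h4 : 4 ∣ Nat.card 𝐍(zpowers y) := by
    rw [← e.card_eq h, hL]
    exact card_dvd_of_le fun a ha => mem_cent1.2 (e.comm h ha hz)
  have h5 : s ∣ Nat.card 𝐍(zpowers y) := by
    rw [← ho, ← Nat.card_zpowers]; exact card_dvd_of_le le_normalizer
  have h6 : s ∣ 60 := by rw [← hc, ← ho]; exact orderOf_dvd_natCard y
  have h7 := (𝐍(zpowers y)).card_mul_index
  have h8 : (𝐍(zpowers y)).index ≠ 1 := by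
    rw [Ne, index_eq_one]; exact (h.co (pg_of_orderOf ho) y0).1
  have hs' : s = 3 ∨ s = 5 := by
    have := Nat.le_of_dvd (by norm_num) h6
    interval_cases s <;> first | omega | (exfalso; revert hs; norm_num)
  obtain ⟨P, hP⟩ := (sylow_of_prime ho (by rw [hc]; rcases hs' with rfl | rfl <;> norm_num)).exists_sylow_top
  have h9 := card_sylow_modEq_one s X
  rw [P.card_eq_index_normalizer] at h9
  have h10 : normalizer (P : Set X) = 𝐍(zpowers y) := by rw [← hP]; rfl
  rw [h10] at h9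
  rw [hc] at h7
  generalize Nat.card 𝐍(zpowers y) = a at *
  generalize (𝐍(zpowers y)).index = b at *
  unfold Nat.ModEq at h9
  rcases hs' with rfl | rfl
  · obtain ⟨k, rfl⟩ : 12 ∣ a := by omega
    have : k * b = 5 := by nlinarith
    have : b ≤ 5 := Nat.le_of_dvd (by norm_num) (Dvd.intro_left k this)
    interval_cases b <;> omega
  · obtain ⟨k, rfl⟩ : 20 ∣ a := by omega
    have : k * b = 3 := by nlinarith
    have : b ≤ 3 := Nat.le_of_dvd (by norm_num) (Dvd.intro_left k this)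
    interval_cases b <;> omega

end Ess

theorem Hyp.thirteen (h : Hyp X) (hns : ¬ Group.IsSolvable X) {m p k : ℕ} (hp : p.Prime)
    (hq : 2 * m + 1 = p ^ k) (hm : 6 ≤ m) (hc : Nat.card X = 2 * (2 * m + 1) * (m * (m + 1)))
    (hD : ∀ n, n = m ∨ n = m + 1 → ∃ D : Subgroup X, IsCoatom D ∧ Nonempty (D ≃* DihedralGroup n)) :
    m = 6 := by
  haveI := Fact.mk Nat.prime_three
  have hd : ∀ n, n = m ∨ n = m + 1 → ∀ r : ℕ, r.Prime → r ∣ n →
      (∃ y : X, orderOf y = r ∧ Nat.card 𝐍(zpowers y) = 2 * n) ∧ (r ≠ 2 → n ∣ 2 * r) := by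
    intro n hn r hr hrn
    obtain ⟨D, h1, ⟨f⟩⟩ := hD n hn
    exact h.dih h1 (by omega) f hr hrn
  by_cases h3 : ¬ 3 ∣ 2 * m + 1
  · have : 3 ∣ m ∨ 3 ∣ m + 1 := by
      rcases (by omega : m % 3 = 0 ∨ m % 3 = 1 ∨ m % 3 = 2) with h1 | h1 | h1 <;> omega
    rcases this with h1 | h1
    · have := Nat.le_of_dvd (by norm_num) ((hd _ (Or.inl rfl) 3 Nat.prime_three h1).2 (by norm_num))
      omega
    · have := Nat.le_of_dvd (by norm_num) ((hd _ (Or.inr rfl) 3 Nat.prime_three h1).2 (by norm_num))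
      omega
  exfalso
  rw [not_not] at h3
  obtain rfl : 3 = p :=
    (Nat.prime_dvd_prime_iff_eq Nat.prime_three hp).1 (Nat.prime_three.dvd_of_dvd_pow (hq ▸ h3))
  obtain ⟨U, x, q, e, -, -⟩ := exists_ess (Y := (⊤ : Subgroup X))
    fun hs => hns (H1.isSolvable_of_mulEquiv topEquiv hs)
  have key : ∀ (y : X) (s : ℕ), s.Prime → s ≠ 3 → orderOf y = s → ¬ 3 ∣ Nat.card 𝐍(zpowers y) := by
    intro y s hs s3 ho
    haveI := Fact.mk hs
    have hsq : ¬ s ∣ 2 * m + 1 := fun h1 =>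
      s3 ((Nat.prime_dvd_prime_iff_eq hs Nat.prime_three).1 (hs.dvd_of_dvd_pow (hq ▸ h1)))
    obtain ⟨n, hn, hsn⟩ : ∃ n, (n = m ∨ n = m + 1) ∧ s ∣ n := by
      by_cases s2 : s = 2
      · subst s2
        rcases Nat.even_or_odd' m with ⟨j, h1 | h1⟩
        · exact ⟨m, Or.inl rfl, by omega⟩
        · exact ⟨m + 1, Or.inr rfl, by omega⟩
      · have h1 : s ∣ 2 * (2 * m + 1) * (m * (m + 1)) := by
          rw [← hc, ← ho]; exact orderOf_dvd_natCard y
        rcases (hs.dvd_mul).1 h1 with h2 | h2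
        · rcases (hs.dvd_mul).1 h2 with h2 | h2
          · exact absurd ((Nat.prime_dvd_prime_iff_eq hs Nat.prime_two).1 h2) s2
          · exact absurd h2 hsq
        · rcases (hs.dvd_mul).1 h2 with h2 | h2
          · exact ⟨m, Or.inl rfl, h2⟩
          · exact ⟨m + 1, Or.inr rfl, h2⟩
    obtain ⟨⟨y0, ho0, hc0⟩, hn2⟩ := hd n hn s hs hsn
    obtain ⟨g, hg⟩ : ∃ g : X, zpowers y0 ^ᶜ g = zpowers y := by
      by_cases s2 : s = 2
      · subst s2
        obtain ⟨g, hg⟩ := e.conj_inv h ho0 ho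
        exact ⟨g, by rw [cj_zpowers, hg]⟩
      · have hss : ¬ s * s ∣ Nat.card X := by
          intro h1
          obtain ⟨n', hn', hcop⟩ : ∃ n', m * (m + 1) = n * n' ∧ ¬ s ∣ n' := by
            rcases hn with rfl | rfl
            · exact ⟨n + 1, rfl, fun h2 => hs.one_lt.ne' (Nat.dvd_one.1 ((Nat.dvd_add_right hsn).1 h2))⟩
            · exact ⟨m, mul_comm _ _, fun h2 => hs.one_lt.ne' (Nat.dvd_one.1 ((Nat.dvd_add_right h2).1 hsn))⟩
          have c2 : s.Coprime 2 := (Nat.coprime_primes hs Nat.prime_two).2 s2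
          have h2 : s * s ∣ n * (2 * (2 * m + 1) * n') := by
            rw [hc, hn'] at h1; convert h1 using 1; ring
          have h4 : (s * s).Coprime (2 * (2 * m + 1) * n') := by
            have : s.Coprime (2 * (2 * m + 1) * n') :=
              (c2.mul_right ((Nat.Prime.coprime_iff_not_dvd hs).2 hsq)).mul_right
                ((Nat.Prime.coprime_iff_not_dvd hs).2 hcop)
            exact this.mul_left this
          have h5 := (h4.dvd_of_dvd_mul_right h2).trans (hn2 s2)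
          exact s2 ((Nat.prime_dvd_prime_iff_eq hs Nat.prime_two).1
            (Nat.dvd_of_mul_dvd_mul_right hs.pos h5))
        obtain ⟨g, -, hg⟩ := (sylow_of_prime ho0 hss).conj (sylow_of_prime ho hss)
        exact ⟨g, hg⟩
    rw [← hg, ← cj_normalizer, card_cj, hc0]
    omega
  have h9 : 3 * 3 ∣ Nat.card X := by
    have : 9 ∣ 2 * m + 1 := by
      rw [hq]
      rcases k with _ | _ | k
      · omega
      · omega
      · exact ⟨3 ^ k, by ring⟩
    rw [hc]
    exact (this.mul_left 2).mul_right _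
  obtain ⟨P, hP⟩ := exists_isSylowIn 3 (⊤ : Subgroup X)
  have P0 : P ≠ ⊥ := hP.dvd_card_iff.1 (by rw [card_top]; exact (Dvd.intro 3 rfl).trans h9)
  obtain ⟨u, hu, uo⟩ := exists_orderOf_eq_prime (hP.isP.to_le inf_le_left) (center_ne_bot hP.isP P0)
  have u3 : u ^ 3 = 1 := by rw [← uo, pow_orderOf_eq_one]
  have u1 := ne_one_of_orderOf Nat.prime_three uo
  have co := h.co (pg_of_orderOf uo) (by simpa using u1)
  have hM : IsPGroup 3 𝐍(zpowers u) := by
    refine pg_of_no fun y hy s hs s3 ho => key y s hs s3 ho ?_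
    haveI := Fact.mk hs
    have k1 : ∀ a ∈ P, a ≠ 1 → Commute a y → 3 ∣ Nat.card 𝐍(zpowers y) := fun a ha a1 hc =>
      (dvd_card_of_ne_bot (hP.isP.to_le (zpowers_le.2 ha)) (by simpa using a1)).trans
        (card_dvd_of_le (zpowers_le.2 (cent_le_norm y (mem_cent1.2 hc))))
    rcases mem_zpowers_three u3 (conj_mem_of_mem_normalizer hy (mem_zpowers u)) with h1 | h1 | h1
    · exact absurd (conj_eq_one_iff.1 h1) u1
    · exact k1 u hu.1 u1 (mul_inv_eq_iff_eq_mul.1 h1).symm
    by_cases s2 : s = 2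
    · subst s2
      by_contra hn3
      have hle : P ≤ zpowers u := by
        intro a ha
        obtain ⟨w, hw, hc⟩ := h.exists_cent (by rw [← ho, pow_orderOf_eq_one])
          (ne_one_of_orderOf hs ho) u3 u1 h1
          (cent_le_norm u (mem_cent1.2 (mem_cent_comm.1 hu.2 a ha)))
        have h2 : w * a = 1 := by
          by_contra h2
          exact hn3 (k1 _ (mul_mem (zpowers_le.2 hu.1 hw) ha) h2 hc)
        rw [eq_inv_of_mul_eq_one_right h2]; exact inv_mem hw
      have h2 := hP.not_dvd_relIndex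
      rw [le_antisymm hle (zpowers_le.2 hu.1), relIndex_top_right] at h2
      rw [← (zpowers u).card_mul_index, Nat.card_zpowers, uo] at h9
      exact h2 (Nat.dvd_of_mul_dvd_mul_left (by norm_num) h9)
    · have h2 : Commute u (y ^ 2) := by
        refine (mul_inv_eq_iff_eq_mul.1 ?_ : y ^ 2 * u = u * y ^ 2).symm
        calc _ = y * (y * u * y⁻¹) * y⁻¹ := by rw [sq]; group
          _ = (y * u * y⁻¹)⁻¹ := by nth_rw 1 [h1]; group
          _ = u := by rw [h1, inv_inv]
      obtain ⟨j, hj⟩ := hs.odd_of_ne_two s2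
      have h4 : y = (y ^ 2) ^ (j + 1) := by
        rw [← pow_mul, show 2 * (j + 1) = s + 1 by omega, pow_succ, ← ho, pow_orderOf_eq_one, one_mul]
      exact k1 u hu.1 u1 (h4 ▸ h2.pow_right (j + 1))
  obtain ⟨j, hj⟩ := IsPGroup.iff_card.1 hM
  exact hns (Cfsg.Agent.S4040.result _ co hM.isNilpotent (by rw [hj]; exact Odd.pow (by decide)))

theorem Hyp.perfect (h : Hyp X) (hns : ¬ Group.IsSolvable X) : commutator X = ⊤ :=
  h.eq_top fun hs => hns (H1.isSolvable_of_normal_of_quotient _ hs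
    (inferInstanceAs (Group.IsSolvable (Abelianization X))))

theorem Hyp.card_field {F : Type} [Field F] [Fintype F] (hodd : Odd (Fintype.card F))
    (h3 : 3 < Fintype.card F) (h : Hyp (Matrix.ProjectiveSpecialLinearGroup (Fin 2) F))
    (hns : ¬ Group.IsSolvable (Matrix.ProjectiveSpecialLinearGroup (Fin 2) F)) :
    Fintype.card F = 13 := by
  obtain ⟨m, hm⟩ := hodd
  have hg : Nat.gcd 2 (2 * m + 1 - 1) = 2 := by simp
  have hc : Nat.card (Matrix.ProjectiveSpecialLinearGroup (Fin 2) F) =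
      2 * (2 * m + 1) * (m * (m + 1)) := by
    have := H10.card_PSL_two (F := F)
    rw [Nat.card_eq_fintype_card (α := F), hm, hg, Nat.add_sub_cancel] at this
    nlinarith
  obtain ⟨U, x, q, e, -, -⟩ := exists_ess (Y := (⊤ : Subgroup _))
    fun hs => hns (H1.isSolvable_of_mulEquiv topEquiv hs)
  have h8 := e.not_eight h
  have h60 := e.ne_sixty h
  have h11 : m ≠ 5 := by
    rintro rfl
    obtain ⟨H, ⟨f⟩⟩ := (Cfsg.Agent.S0804.result hm).2 (by norm_num)
    have h1 : H = ⊤ := h.eq_top fun hs => by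
      have h2 := H1.isSolvable_of_mulEquiv f hs
      have h3 := IsSimpleGroup.comm_iff_isSolvable.2 h2
      have h4 := alternatingGroup.isMulCommutative_iff_card_le_three.1 ⟨⟨h3⟩⟩
      simp at h4
    have h2 := Nat.card_congr f.toEquiv
    rw [h1, card_top, hc, nat_card_alternatingGroup] at h2
    simp [Nat.factorial] at h2
  have hm6 : 6 ≤ m := by
    by_contra hlt
    have : 2 ≤ m := by omega
    have : m ≤ 4 := by omega
    rw [hc] at h8 h60
    interval_cases m <;> omega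
  obtain ⟨p, _, k, hp, hk⟩ := FiniteField.card' F
  have := h.thirteen hns hp (hm ▸ hk) hm6 hc (by
    rintro n (rfl | rfl)
    · have := Cfsg.Agent.S0812.result hm (by simp; omega)
      rwa [hg, Nat.add_sub_cancel, Nat.mul_div_cancel_left _ (by norm_num)] at this
    · have := Cfsg.Agent.S0811.result hm (by simp; omega)
      rwa [hg, show (2 * m + 1 + 1) / 2 = m + 1 by omega] at this)
  omega

theorem Hyp.psl (h : Hyp X) (hns : ¬ Group.IsSolvable X) (hR : solvableRadical X = ⊥) :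
    Nonempty (X ≃* Matrix.ProjectiveSpecialLinearGroup (Fin 2) (ZMod 13)) := by
  obtain ⟨U, x, q, e, -, -⟩ := exists_ess (Y := (⊤ : Subgroup X))
    fun hs => hns (H1.isSolvable_of_mulEquiv topEquiv hs)
  obtain ⟨P, hP⟩ := (e.sylow h).exists_sylow_top
  haveI : Group.IsPerfect X := ⟨h.perfect hns⟩
  haveI : IsKleinFour (P : Subgroup X) := by
    rw [hP]
    haveI : Nontrivial U := (nontrivial_iff_ne_bot U).2 e.ne_bot
    refine ⟨e.card_eq h, (Monoid.exponent_eq_prime_iff Nat.prime_two).2 fun g g1 =>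
      orderOf_eq_prime (Subtype.ext (e.sq h g.2)) g1⟩
  have hO : oddCore X = ⊥ :=
    le_bot_iff.1 (hR ▸ H1.le_solvableRadical (Cfsg.Agent.S0205.result H1.odd_card_oddCore))
  let f0 : X ≃* X ⧸ oddCore X :=
    ((QuotientGroup.quotientMulEquivOfEq hO).trans QuotientGroup.quotientBot).symm
  rcases Cfsg.Agent.S0483.result P 2 le_rfl IsKleinFour.nonempty_mulEquiv with
    ⟨F, _, _, hodd, h3, ⟨f⟩⟩ | ⟨⟨f⟩⟩
  · have h13 := (h.congr (f0.trans f)).card_field hodd h3
      fun hs => hns (H1.isSolvable_of_mulEquiv (f0.trans f).symm hs)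
    haveI : Fact (Nat.Prime 13) := ⟨by norm_num⟩
    obtain ⟨g⟩ := H10.nonempty_ringEquiv_zmod (F := F) 13 (by rwa [Nat.card_eq_fintype_card])
    exact ⟨(f0.trans f).trans (H10.pslCongr g)⟩
  · refine absurd ?_ (e.not_eight h)
    rw [Nat.card_congr (f0.trans f).toEquiv, nat_card_alternatingGroup]
    simp [Nat.factorial]

end H22.Nm
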