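import Cfsg.Agent.Lib.CH2.NmC
import Cfsg.Agent.Lib.Core.Hall
import Cfsg.Agent.Lib.Char.BurnsidePQ
import Cfsg.Agent.Lib.Schur.Main
import Cfsg.Agent.Lib.GL.Simple
import Cfsg.Agent.Lib.TwoGrp.Dedekind
import Cfsg.Agent.S2117

/-! Nonsolvable groups in which non-subnormal `{p,q}`-subgroups have maximal normalizers. -/

set_option autoImplicit false

namespace H22.Nm

open Subgroup Cfsg H69
open scoped commutatorElement

theorem exists_lift {Q Γ B : Type*} [Group Q] [Group Γ] [Group B] (h : HasCyclicSchurMultiplier Q 1)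
    (hQ : commutator Q = ⊤) (σ : Γ →* B) (hs : Function.Surjective σ) (hc : σ.ker ≤ center Γ)
    (φ : Q →* B) : ∃ l : Q →* Γ, ∀ f, σ (l f) = φ f := by
  let X := (σ.comp (MonoidHom.fst Γ Q)).eqLocus (φ.comp (MonoidHom.snd Γ Q))
  let ξ : X →* Q := (MonoidHom.snd Γ Q).comp X.subtype
  have a : Function.Surjective ξ := fun f => by
    obtain ⟨γ, e⟩ := hs (φ f)
    exact ⟨⟨(γ, f), e⟩, rfl⟩
  have b := H78.Schur.ker_inf_eq_bot h ξ a fun x hx => mem_center_iff.2 fun y => by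
    have e : x.1.2 = 1 := hx
    have f : σ x.1.1 = 1 := x.2.trans ((congrArg φ e).trans (map_one φ))
    exact Subtype.ext (Prod.ext (mem_center_iff.1 (hc f) _) (by simp [e]))
  let E := MulEquiv.ofBijective (ξ.comp (commutator X).subtype) ⟨(injective_iff_map_eq_one _).2
    fun x e => Subtype.ext (b.le ⟨e, x.2⟩), fun f => by
      obtain ⟨x, hx, e⟩ : f ∈ (commutator X).map ξ := by
        rw [H78.Schur.map_commutator_of_surjective ξ a, hQ]; trivial
      exact ⟨⟨x, hx⟩, e⟩⟩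
  exact ⟨((MonoidHom.fst Γ Q).comp (X.subtype.comp (commutator X).subtype)).comp E.symm.toMonoidHom,
    fun f => (E.symm f).1.2.trans (congrArg φ (E.apply_symm_apply f))⟩

variable {G X : Type*} [Group G] [Group X]

theorem prime_dvd_of_zpow {p b : ℕ} (hp : p.Prime) {x : G} (hx : x ^ p ^ b = 1) (x1 : x ≠ 1)
    {i : ℤ} (hi : x ^ i = 1) : (p : ℤ) ∣ i := by
  obtain ⟨j, -, hj⟩ := (Nat.dvd_prime_pow hp).1 (orderOf_dvd_of_pow_eq_one hx)
  refine Dvd.dvd.trans ?_ (orderOf_dvd_iff_zpow_eq_one.2 hi)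
  rcases j with _ | j
  · exact absurd (orderOf_eq_one_iff.1 hj) x1
  · rw [hj]; exact_mod_cast dvd_pow_self p j.succ_ne_zero

theorem coprime_orderOf {p q a b : ℕ} (hp : p.Prime) (hq : q.Prime) (hpq : p ≠ q) {x : G}
    (hx : x ^ p ^ a = 1) : (orderOf x).Coprime (q ^ b) :=
  Nat.Coprime.coprime_dvd_left (orderOf_dvd_of_pow_eq_one hx) (Nat.coprime_pow_primes a b hp hq hpq)

theorem exists_lift_p [Finite G] (f : G →* X) {p k : ℕ} (hp : p.Prime) {g : G}
    (hg : f g ^ p ^ k = 1) : ∃ y ∈ zpowers g, f y = f g ∧ ∃ a : ℕ, y ^ p ^ a = 1 := by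
  obtain ⟨a, m, hm, ho⟩ := Nat.exists_eq_pow_mul_and_not_dvd (orderOf_pos g).ne' p hp.one_lt.ne'
  obtain ⟨u, hu⟩ := exists_pow_eq_self_of_coprime (x := f g) (n := m)
    (Nat.Coprime.coprime_dvd_right (orderOf_dvd_of_pow_eq_one hg)
      (((Nat.Prime.coprime_iff_not_dvd hp).2 hm).symm.pow_right k))
  refine ⟨(g ^ m) ^ u, pow_mem (pow_mem (mem_zpowers g) m) u, by rw [map_pow, map_pow, hu], a, ?_⟩
  rw [← pow_mul, ← pow_mul, show m * (u * p ^ a) = p ^ a * m * u by ring, pow_mul, ← ho,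
    pow_orderOf_eq_one, one_pow]

theorem Bi.mono {H K : Subgroup G} (h : Bi K) (hle : H ≤ K) : Bi H := by
  obtain ⟨p, q, hp, hq, hb⟩ := h
  exact ⟨p, q, hp, hq, fun r hr hd => hb r hr (hd.trans (card_dvd_of_le hle))⟩

theorem bi_mul [Finite G] {p q a b : ℕ} (hp : p.Prime) (hq : q.Prime) {x y : G}
    (hx : x ^ p ^ a = 1) (hy : y ^ q ^ b = 1) (hc : Commute y x) : Bi (zpowers (x * y)) := by
  haveI := Fact.mk hp
  haveI := Fact.mk hq
  exact (bi_sup (pg_zpowers hx) (pg_zpowers hy)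
    (zpowers_le.2 (cent_le_norm x (mem_cent1.2 hc)))).mono
    (zpowers_le.2 (mul_mem (mem_sup_left (mem_zpowers x)) (mem_sup_right (mem_zpowers y))))

/-- The setting: `π` is the quotient map by the solvable radical. -/
structure St (π : G →* X) : Prop where
  surj : Function.Surjective π
  solv : Group.IsSolvable π.ker
  rad : solvableRadical X = ⊥
  ns : ¬ Group.IsSolvable X
  hyp : ∀ H : Subgroup G, ¬ H.IsSubnormal → Bi H → IsCoatom 𝐍(H)

namespace St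

variable [Finite G] [Finite X] {π : G →* X} (t : St π)
include t

theorem b1 {H : Subgroup G} (hb : Bi H) (hn : ¬ H ≤ π.ker) :
    IsCoatom 𝐍(H) ∧ 𝐍(H) = (𝐍(H.map π)).comap π := by
  have hs : Group.IsSolvable H := by
    obtain ⟨p, q, hp, hq, hb⟩ := hb
    exact H8.isSolvable_of_two_primes hp hq hb
  have hr : solvableRadical G = π.ker := by
    rw [← H1.comap_solvableRadical_of_ker t.surj t.solv, t.rad]; rfl
  have co := t.hyp H (fun h => hn (hr ▸ H1.le_solvableRadical_of_isSubnormal h hs)) hb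
  refine ⟨co, co_eq co (fun e => hn ?_) fun g hg => ?_⟩
  · have h1 : 𝐍(H.map π) = ⊤ := comap_injective t.surj (by rw [e, comap_top])
    haveI : (H.map π).Normal := normal_iff_top_le_normalizer.2 h1.ge
    rw [← Subgroup.map_eq_bot_iff, ← le_bot_iff, ← t.rad]
    exact H1.le_solvableRadical (H1.isSolvable_map hs π)
  · rw [mem_comap, ← cj_eq_self_iff, ← map_cj, cj_eq_self_iff.2 hg]

theorem mem_norm {H : Subgroup G} (hb : Bi H) (hn : ¬ H ≤ π.ker) {g : G}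
    (hg : π g ∈ 𝐍(H.map π)) : g ∈ 𝐍(H) := by
  rw [(t.b1 hb hn).2]; exact hg

theorem ker_norm {H : Subgroup G} (hb : Bi H) (hn : ¬ H ≤ π.ker) {g : G} (hg : g ∈ π.ker) :
    g ∈ 𝐍(H) :=
  t.mem_norm hb hn (by rw [MonoidHom.mem_ker.1 hg]; exact one_mem _)

theorem hx : Hyp X := by
  intro A A0 ⟨p, q, hp, hq, hb⟩
  have hs : Group.IsSolvable (A.comap π) :=
    H1.isSolvable_comap (H8.isSolvable_of_two_primes hp hq hb) t.solv
  obtain ⟨H0, hH0⟩ := (H3.isPiSeparable_of_isSolvable (G := A.comap π) {p, q}).exists_isPiHall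
  have h1 := H3.isPiHallOf_map_subtype_iff.2 hH0
  have h2 := H3.isPiHallOf_map h1 π
  rw [map_comap_eq_self_of_surjective t.surj] at h2
  have h3 := H3.eq_of_isPiHallOf_of_le h2 (H3.isPiHallOf_iff.1 h2).1 le_rfl
    (H1.isPiSubgroup_iff.2 fun r hr hd => by simpa using hb r hr hd)
  obtain ⟨h4, h5⟩ := t.b1 (H := H0.map (A.comap π).subtype)
    ⟨p, q, hp, hq, fun r hr hd => by simpa using (H3.isPiHallOf_iff.1 h1).2.1 r hr hd⟩
    (fun hle => A0 (by rw [h3, Subgroup.map_eq_bot_iff]; exact hle))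
  rw [h5, ← h3] at h4
  refine ⟨fun e => h4.1 (by rw [e, comap_top]), fun B hB => comap_injective t.surj ?_⟩
  rw [h4.2 _ ((comap_lt_comap_of_surjective t.surj).2 hB), comap_top]

theorem comm_pq {p q a b : ℕ} (hp : p.Prime) (hq : q.Prime) (hpq : p ≠ q) {r y : G}
    (hr : r ∈ π.ker) (ra : r ^ p ^ a = 1) (hy : y ∉ π.ker) (yb : y ^ q ^ b = 1) : Commute r y := by
  haveI := Fact.mk hq
  obtain ⟨k, hk⟩ := conj_mem_of_mem_normalizer
    (t.ker_norm (bi_p (pg_zpowers yb)) (fun h => hy (zpowers_le.1 h)) hr) (mem_zpowers y)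
  simp only [] at hk
  have h1 : (q : ℤ) ∣ k - 1 := by
    refine prime_dvd_of_zpow (b := b) hq (x := π y) (by rw [← map_pow, yb, map_one]) hy ?_
    rw [zpow_sub, ← map_zpow, hk, map_mul, map_mul, map_inv, MonoidHom.mem_ker.1 hr]; simp
  have h2 : ∀ n : ℕ, r ^ n * y * (r ^ n)⁻¹ = y ^ k ^ n := by
    intro n
    induction n with
    | zero => simp
    | succ n ih =>
      calc _ = r * (r ^ n * y * (r ^ n)⁻¹) * r⁻¹ := by rw [pow_succ']; group
        _ = _ := by rw [ih, ← conj_zpow, ← hk, ← zpow_mul, ← pow_succ']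
  obtain ⟨c, hc⟩ := dvd_sub_pow_of_dvd_sub h1 b
  have h3 : r ^ q ^ b ∈ centralizer ({y} : Set G) := by
    refine mem_cent1.2 (mul_inv_eq_iff_eq_mul.1 ?_)
    have h4 : y ^ ((q : ℤ) ^ b) = 1 := by exact_mod_cast yb
    rw [h2, show k ^ q ^ b = (q : ℤ) ^ b * (q * c) + 1 by rw [one_pow] at hc; linear_combination hc,
      zpow_add, zpow_mul, h4, one_zpow, one_mul, zpow_one]
  exact mem_cent1.1 (H4.mem_of_pow_mem_of_coprime h3 (coprime_orderOf hp hq hpq ra))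

theorem map_top {A : Subgroup G} [A.Normal] (h : ¬ A ≤ π.ker) : A.map π = ⊤ := by
  haveI : (A.map π).Normal := Normal.map inferInstance π t.surj
  refine t.hx.eq_top fun hs => h ?_
  rw [← Subgroup.map_eq_bot_iff, ← le_bot_iff, ← t.rad]
  exact H1.le_solvableRadical hs

theorem ess : ∃ (U : Subgroup X) (x : X) (q : ℕ), Ess U x q := by
  obtain ⟨U, x, q, e, -, -⟩ := exists_ess (Y := (⊤ : Subgroup X))
    fun hs => t.ns (H1.isSolvable_of_mulEquiv topEquiv hs)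
  exact ⟨U, x, q, e⟩

theorem map_cent : (𝐂(π.ker)).map π = ⊤ := by
  obtain ⟨U, x, q, e⟩ := t.ess
  obtain ⟨z, hz, z1⟩ := e.exists_ne
  have key : ∀ (P : ℕ → Prop) (s : ℕ), s.Prime → ¬ P s → ∀ w : X, w ≠ 1 → w ^ s = 1 →
      ∃ A : Subgroup G, A.Normal ∧ A.map π = ⊤ ∧ ∀ g ∈ A, ∀ r ∈ π.ker, ∀ p a : ℕ, p.Prime → P p →
        r ^ p ^ a = 1 → Commute g r := by
    intro P s hs hP w w1 hw
    let A := centralizer {r | r ∈ π.ker ∧ ∃ p a : ℕ, p.Prime ∧ P p ∧ r ^ p ^ a = 1}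
    haveI hA : A.Normal := ⟨fun n hn g => mem_centralizer_iff.2 fun r ⟨hr, p, a, h1, h2, h3⟩ => by
      have := mem_centralizer_iff.1 hn (g⁻¹ * r * g⁻¹⁻¹)
        ⟨(MonoidHom.normal_ker π).conj_mem r hr g⁻¹, p, a, h1, h2, by rw [conj_pow, h3]; group⟩
      calc r * (g * n * g⁻¹) = g * (g⁻¹ * r * g⁻¹⁻¹ * n) * g⁻¹ := by group
        _ = _ := by rw [this]; group⟩
    refine ⟨A, hA, t.map_top fun hle => ?_, fun g hg r hr p a h1 h2 h3 =>
      (mem_centralizer_iff.1 hg r ⟨hr, p, a, h1, h2, h3⟩).symm⟩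
    obtain ⟨g, rfl⟩ := t.surj w
    obtain ⟨y, -, hy, b, hb⟩ := exists_lift_p π (k := 1) hs (g := g) (by simpa using hw)
    have y1 : y ∉ π.ker := fun h => w1 (hy ▸ h)
    exact y1 (hle (mem_centralizer_iff.2 fun r ⟨hr, p, a, h1, h2, h3⟩ =>
      t.comm_pq h1 hs (fun e => hP (e ▸ h2)) hr h3 y1 hb))
  obtain ⟨A, _, A1, A2⟩ := key (· = 2) 3 Nat.prime_three (by norm_num) x
    (fun h => e.nc (h ▸ one_mem _)) (e.four t.hx (e.card_le t.hx) hz z1).2
  obtain ⟨B, _, B1, B2⟩ := key (· ≠ 2) 2 Nat.prime_two (by norm_num) z z1 (e.sq t.hx hz)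
  have h1 : ⁅A, B⁆ ≤ 𝐂(π.ker) := by
    refine (commutator_le_inf A B).trans fun g hg => ?_
    suffices hh : π.ker ≤ centralizer ({g} : Set G) from
      mem_cent_comm.2 fun r hr => mem_cent1.1 (hh hr)
    refine H4.le_of_forall_prime_pow fun p hp _ r hr ⟨a, ha⟩ => mem_cent1.2 ?_
    by_cases p2 : p = 2
    · exact (A2 g hg.1 r hr p a hp p2 ha).symm
    · exact (B2 g hg.2 r hr p a hp p2 ha).symm
  have h2 := map_mono (f := π) h1
  rw [map_commutator, A1, B1, ← _root_.commutator_def, t.hx.perfect t.ns] at h2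
  exact top_le_iff.1 h2

theorem exists_K : ∃ K : Subgroup G, K ≤ 𝐂(π.ker) ∧ K.map π = ⊤ ∧
    (∀ g ∈ K, g ∈ π.ker → g ^ 2 = 1) ∧ Nat.card K ∣ 2184 ∧ Nat.card X = 1092 ∧
    (Nonempty (K ≃* Matrix.ProjectiveSpecialLinearGroup (Fin 2) (ZMod 13)) ∨
      Nonempty (K ≃* Matrix.SpecialLinearGroup (Fin 2) (ZMod 13))) := by
  haveI : Fact (Nat.Prime 13) := ⟨by norm_num⟩
  obtain ⟨f⟩ := t.hx.psl t.ns t.rad
  let φ : Matrix.SpecialLinearGroup (Fin 2) (ZMod 13) →* X :=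
    f.symm.toMonoidHom.comp (QuotientGroup.mk' _)
  have φs : Function.Surjective φ := f.symm.surjective.comp (QuotientGroup.mk'_surjective _)
  have φk : ∀ g, φ g = 1 ↔ g ∈ center _ := fun g => by
    change f.symm _ = 1 ↔ _
    rw [EmbeddingLike.map_eq_one_iff, QuotientGroup.mk'_apply, QuotientGroup.eq_one_iff]
  obtain ⟨l, hl⟩ := exists_lift (Cfsg.Agent.S2117.result (F := ZMod 13) (by simp) (by simp))
    (H10.commutator_SL_fin_eq_top 2 fun _ => by simp) (π.comp (𝐂(π.ker)).subtype)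
    (fun w => by
      obtain ⟨g, hg, rfl⟩ : w ∈ (𝐂(π.ker)).map π := by rw [t.map_cent]; trivial
      exact ⟨⟨g, hg⟩, rfl⟩)
    (fun g hg => mem_center_iff.2 fun y => Subtype.ext (mem_cent_comm.1 y.2 g hg).symm) φ
  let l' := (𝐂(π.ker)).subtype.comp l
  have hl' : ∀ g, π (l' g) = φ g := hl
  have c2 : Nat.card (center (Matrix.SpecialLinearGroup (Fin 2) (ZMod 13))) = 2 := by
    rw [H10.card_center_SL]; simp
  have cS : Nat.card (Matrix.SpecialLinearGroup (Fin 2) (ZMod 13)) = 2184 := by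
    rw [H10.card_SL_two]; simp
  refine ⟨l'.range, ?_, ?_, ?_, cS ▸ card_range_dvd l', ?_, ?_⟩
  · rintro _ ⟨g, rfl⟩; exact (l g).2
  · refine eq_top_iff.2 fun w _ => ?_
    obtain ⟨g, rfl⟩ := φs w
    exact ⟨l' g, ⟨g, rfl⟩, hl' g⟩
  · rintro _ ⟨g, rfl⟩ hg
    have h1 := (φk g).1 (hl' g ▸ hg)
    have h2 : g ^ 2 = 1 := by
      have := pow_card_eq_one' (x := (⟨g, h1⟩ : center _))
      rw [c2] at this
      exact congrArg Subtype.val this
    rw [← map_pow, h2, map_one]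
  · have := H10.card_center_mul_card_PSL (ι := Fin 2) (R := ZMod 13)
    rw [c2, cS] at this
    rw [Nat.card_congr f.toEquiv]
    omega
  · have h1 : l'.ker ≤ center _ := fun g hg =>
      (φk g).1 (by rw [← hl', MonoidHom.mem_ker.1 hg, map_one])
    rcases (Nat.dvd_prime Nat.prime_two).1 (c2 ▸ card_dvd_of_le h1) with h2 | h2
    · exact Or.inr ⟨(MonoidHom.ofInjective ((MonoidHom.ker_eq_bot_iff _).1
        (card_eq_one.1 h2))).symm⟩
    · have h3 : l'.ker = center _ := eq_of_le_of_card_ge h1 (by omega)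
      exact Or.inl ⟨(QuotientGroup.quotientKerEquivRange l').symm.trans
        (QuotientGroup.quotientMulEquivOfEq h3)⟩

section K

variable {K : Subgroup G} (K1 : K ≤ 𝐂(π.ker)) (K2 : K.map π = ⊤)
  (K3 : ∀ g ∈ K, g ∈ π.ker → g ^ 2 = 1)
include K2

omit [Finite X] t in
theorem lift_p {p k : ℕ} (hp : p.Prime) {w : X} (hw : w ^ p ^ k = 1) :
    ∃ y ∈ K, π y = w ∧ ∃ a : ℕ, y ^ p ^ a = 1 := by
  obtain ⟨g, hg, rfl⟩ : w ∈ K.map π := by rw [K2]; trivial
  obtain ⟨y, hy, h⟩ := exists_lift_p π hp hw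
  exact ⟨y, zpowers_le.2 hg hy, h⟩

include K1 K3

theorem no_odd {s : ℕ} (hs : s.Prime) (s2 : s ≠ 2) (h1 : s ∣ Nat.card X)
    (h2 : ¬ s * s ∣ Nat.card X) {ρ : G} (hρ : ρ ∈ π.ker) (ho : orderOf ρ = s) : False := by
  haveI := Fact.mk hs
  obtain ⟨w, hw⟩ := exists_prime_orderOf_dvd_card' s h1
  obtain ⟨P, hP⟩ := (sylow_of_prime hw h2).exists_sylow_top
  obtain ⟨v, hv, hv'⟩ : ∃ v ∈ 𝐍(zpowers w), v ∉ 𝐂(zpowers w) := by
    refine SetLike.not_le_iff_exists.1 fun hle => H4.not_hasNormalPComplement_of_pResidual_eq_top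
      (H4.pResidual_eq_top_of_commutator_eq_top (t.hx.perfect t.ns)) h1
      (H4.hasNormalPComplement_of_normalizer_le_centralizer P ?_)
    rw [← hP] at hle
    exact hle
  have ws : w ^ s = 1 := by rw [← hw, pow_orderOf_eq_one]
  have ρs : ρ ^ s ^ 1 = 1 := by rw [pow_one, ← ho, pow_orderOf_eq_one]
  obtain ⟨k, hk, rfl, a, ka⟩ := lift_p K2 (k := 1) hs (by simpa using ws)
  obtain ⟨g, hg, rfl⟩ : v ∈ K.map π := by rw [K2]; trivial
  have πρ : π ρ = 1 := hρ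
  have ck : Commute ρ k := mem_cent_comm.1 (K1 hk) ρ hρ
  have cg : Commute ρ g := mem_cent_comm.1 (K1 hg) ρ hρ
  have hm : (zpowers (k * ρ)).map π = zpowers (π k) := by
    rw [MonoidHom.map_zpowers, map_mul, πρ, mul_one]
  obtain ⟨j, hj⟩ := conj_mem_of_mem_normalizer (t.mem_norm (bi_mul hs hs ka ρs ck)
    (fun h => ne_one_of_orderOf hs hw (by simpa [πρ] using zpowers_le.1 h)) (hm ▸ hv))
    (mem_zpowers _)
  simp only [] at hj
  have h3 : ρ ^ (j - 1) = (k ^ j)⁻¹ * (g * k * g⁻¹) := by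
    rw [ck.symm.mul_zpow] at hj
    calc _ = (k ^ j)⁻¹ * (k ^ j * ρ ^ j) * ρ⁻¹ := by group
      _ = (k ^ j)⁻¹ * (g * k * (ρ * g⁻¹) * ρ⁻¹) := by rw [hj]; group
      _ = _ := by rw [cg.inv_right.eq]; group
  have h4 : (ρ ^ (j - 1)) ^ 2 = 1 := K3 _
    (h3 ▸ mul_mem (inv_mem (zpow_mem hk j)) (mul_mem (mul_mem hg hk) (inv_mem hg)))
    (zpow_mem hρ _)
  have h5 : ρ ^ (j - 1) = 1 := eq_one_of_pq s2.symm (pg_zpowers1 h4) (pg_of_orderOf ho)
    (mem_zpowers _) (zpow_mem (mem_zpowers ρ) _)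
  obtain ⟨c, hc⟩ := prime_dvd_of_zpow hs ρs (ne_one_of_orderOf hs ho) h5
  refine hv' ?_
  rw [centralizer_zpowers]
  refine mem_cent1.2 (mul_inv_eq_iff_eq_mul.1 ?_)
  have h6 := congrArg π hj
  have h7 : π k ^ (s : ℤ) = 1 := by exact_mod_cast ws
  simp only [map_zpow, map_mul, map_inv, πρ, mul_one] at h6
  rw [show j = s * c + 1 by omega, zpow_add, zpow_mul, h7, one_zpow, one_mul, zpow_one] at h6
  exact h6.symm

theorem two_mem [K.Normal] {ρ : G} (hρ : ρ ∈ π.ker) {n : ℕ} (ρn : ρ ^ 2 ^ n = 1) : ρ ∈ K := by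
  obtain ⟨U, x, q, e⟩ := t.ess
  obtain ⟨z, hz, z1⟩ := e.exists_ne
  have h := t.hx
  have ha := conj_mem_of_mem_normalizer e.nm hz
  have a1 : x * z * x⁻¹ ≠ 1 := by simpa using z1
  have az : x * z * x⁻¹ ≠ z := fun h1 => z1 (e.fpf h hz (mul_inv_eq_iff_eq_mul.1 h1).symm)
  have key := (e.swap h (e.card_le h) hz z1 ha a1 az (one_mem _) (Commute.one_left z)).1
  obtain ⟨d, hd, rfl⟩ : x ∈ K.map π := by rw [K2]; trivial
  obtain ⟨b, hb, rfl⟩ : z ∈ K.map π := by rw [K2]; trivial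
  set a := d * b * d⁻¹ with ha'
  have πa : π d * π b * (π d)⁻¹ = π a := by simp [ha']
  rw [πa] at ha a1 az key
  have hK : a ∈ K := mul_mem (mul_mem hd hb) (inv_mem hd)
  have πρ : π ρ = 1 := hρ
  have hV : IsPGroup 2 (K ⊓ U.comap π : Subgroup G) := isPGroup_iff_mem.2 fun v hv =>
    ⟨2, by
      rw [show 2 ^ 2 = 2 * 2 from rfl, pow_mul]
      exact K3 _ (pow_mem hv.1 2) (by rw [MonoidHom.mem_ker, map_pow]; exact e.sq h hv.2)⟩
  have hW : IsPGroup 2 ((K ⊓ U.comap π) ⊔ zpowers ρ : Subgroup G) :=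
    isPGroup_sup_of_le_normalizer_left hV (pg_zpowers ρn) (le_normalizer_of_le_centralizer
      (zpowers_le.2 (mem_cent_comm.2 fun v hv => (mem_cent_comm.1 (K1 hv.1) ρ hρ).symm)))
  have hm : (zpowers (a * ρ) ⊔ zpowers b).map π = U := by
    rw [Subgroup.map_sup, MonoidHom.map_zpowers, MonoidHom.map_zpowers, map_mul, πρ, mul_one]
    refine le_antisymm (sup_le (zpowers_le.2 ha) (zpowers_le.2 hz)) fun v hv => ?_
    rcases key v hv with rfl | rfl | rfl | rfl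
    exacts [one_mem _, mem_sup_right (mem_zpowers _), mem_sup_left (mem_zpowers _),
      mul_mem (mem_sup_left (mem_zpowers _)) (mem_sup_right (mem_zpowers _))]
  have hN : d ∈ 𝐍(zpowers (a * ρ) ⊔ zpowers b) := t.mem_norm
    (bi_p (hW.to_le (sup_le
      (zpowers_le.2 (mul_mem (mem_sup_left ⟨hK, ha⟩) (mem_sup_right (mem_zpowers ρ))))
      (zpowers_le.2 (mem_sup_left ⟨hb, hz⟩)))))
    (fun hle => z1 (hle (mem_sup_right (mem_zpowers b)))) (hm ▸ e.nm)
  let ψ := QuotientGroup.mk' K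
  have ψK : ∀ g ∈ K, ψ g = 1 := fun g hg => (QuotientGroup.eq_one_iff g).2 hg
  have cab : Commute (π a) (π b) := e.comm h ha hz
  let L : Subgroup G :=
    { carrier := {g | ∃ i j : ℤ, π g = π a ^ i * π b ^ j ∧ ψ g = ψ ρ ^ i}
      mul_mem' := by
        rintro u v ⟨i, j, h1, h2⟩ ⟨i', j', h3, h4⟩
        refine ⟨i + i', j + j', ?_, by rw [map_mul, h2, h4, zpow_add]⟩
        rw [map_mul, h1, h3, zpow_add, zpow_add,
          (cab.zpow_zpow i' j).mul_mul_mul_comm]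
      one_mem' := ⟨0, 0, by simp, by simp⟩
      inv_mem' := by
        rintro u ⟨i, j, h1, h2⟩
        refine ⟨-i, -j, ?_, by rw [map_inv, h2, zpow_neg]⟩
        rw [map_inv, h1, mul_inv_rev, ← zpow_neg, ← zpow_neg, (cab.zpow_zpow (-i) (-j)).eq] }
  have hL : zpowers (a * ρ) ⊔ zpowers b ≤ L :=
    sup_le (zpowers_le.2 ⟨1, 0, by simp [πρ], by rw [map_mul, ψK a hK]; simp⟩)
      (zpowers_le.2 ⟨0, 1, by simp, by rw [ψK b hb]; simp⟩)
  obtain ⟨i, j, h1, h2⟩ := hL (conj_mem_of_mem_normalizer hN (mem_sup_right (mem_zpowers b)))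
  rw [← ha'] at h1 h2
  by_contra hn
  obtain ⟨c, rfl⟩ := prime_dvd_of_zpow (b := n) Nat.prime_two (x := ψ ρ)
    (by rw [← map_pow, ρn, map_one]) (fun h3 => hn ((QuotientGroup.eq_one_iff ρ).1 h3))
    (h2.symm.trans (ψK a hK))
  have h3 : π a ^ ((2 : ℕ) : ℤ) = 1 := by exact_mod_cast e.sq h ha
  rw [zpow_mul, h3, one_zpow, one_mul] at h1
  rcases mem_zpowers_two (e.sq h hz) (⟨j, h1.symm⟩ : π a ∈ zpowers (π b)) with h4 | h4
  exacts [a1 h4, az h4]

end K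

theorem main : ∃ K S : Subgroup G, K.Normal ∧ S.Normal ∧ K ⊓ S = ⊥ ∧ K ⊔ S = ⊤ ∧
      (Nonempty (K ≃* Matrix.ProjectiveSpecialLinearGroup (Fin 2) (ZMod 13)) ∨
        Nonempty (K ≃* Matrix.SpecialLinearGroup (Fin 2) (ZMod 13))) ∧
      IsMulCommutative S ∧ (Nat.card K).Coprime (Nat.card S) := by
  obtain ⟨K, K1, K2, K3, K4, K5, K6⟩ := t.exists_K
  have hKR : K ⊔ π.ker = ⊤ := by rw [← comap_map_eq, K2, comap_top]
  haveI hK : K.Normal := normal_iff_top_le_normalizer.2 (hKR ▸ sup_le le_normalizer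
    (le_normalizer_of_le_centralizer (le_centralizer_iff.1 K1)))
  have hZ : IsPGroup 2 (K ⊓ π.ker : Subgroup G) :=
    isPGroup_iff_mem.2 fun v hv => ⟨1, by simpa using K3 v hv.1 hv.2⟩
  have hS : IsSylowIn 2 (K ⊓ π.ker) π.ker := ⟨inf_le_right, hZ, fun W h1 h2 h3 =>
    le_antisymm (fun w hw => by
      obtain ⟨n, hn⟩ := isPGroup_iff_mem.1 h3 w hw
      exact ⟨t.two_mem K1 K2 K3 (h2 hw) hn, h2 hw⟩) h1⟩
  have hi := hS.not_dvd_relIndex
  obtain ⟨S0, hS0⟩ := exists_right_complement'_of_coprime (N := (K ⊓ π.ker).subgroupOf π.ker) (by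
    obtain ⟨n, hn⟩ := IsPGroup.iff_card.1 hZ
    rw [card_subgroupOf inf_le_right, hn]
    exact ((Nat.Prime.coprime_iff_not_dvd Nat.prime_two).2 hi).pow_left n)
  set S := S0.map π.ker.subtype with hSd
  have SR : S ≤ π.ker := map_subtype_le S0
  have S2 : ¬ 2 ∣ Nat.card S := by
    rw [hSd, card_map_subtype, ← hS0.symm.index_eq_card]; exact hi
  have hKS : K ⊔ S = ⊤ := by
    have h1 := congrArg (Subgroup.map π.ker.subtype) hS0.sup_eq_top
    rw [Subgroup.map_sup, subgroupOf_map_subtype, map_subtype_top] at h1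
    rw [eq_top_iff, ← hKR, ← h1]
    exact sup_le le_sup_left (sup_le_sup (inf_le_left.trans inf_le_left) le_rfl)
  have hI : K ⊓ S = ⊥ := by
    refine le_bot_iff.1 ((le_inf inf_le_right (inf_le_inf_left K SR)).trans ?_)
    exact (H4.inf_eq_bot_of_not_dvd_card S2 hZ).le
  refine ⟨K, S, hK, normal_iff_top_le_normalizer.2 (hKS ▸ sup_le
    (le_normalizer_of_le_centralizer (K1.trans (centralizer_anti SR))) le_normalizer), hI, hKS, K6,
    ?_, ?_⟩
  · obtain ⟨U, x, q, e⟩ := t.ess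
    obtain ⟨z, hz, z1⟩ := e.exists_ne
    obtain ⟨k, hk, πk, a, ka⟩ := lift_p K2 (k := 1) Nat.prime_three
      (by simpa using (e.four t.hx (e.card_le t.hx) hz z1).2)
    have key : ∀ ρ ∈ S, ∀ σ ∈ S, ∀ s n : ℕ, s.Prime → ρ ^ s ^ n = 1 → σ * ρ * σ⁻¹ ∈ zpowers ρ := by
      intro ρ hρ σ hσ s n hs ρn
      have ck : Commute ρ k := mem_cent_comm.1 (K1 hk) ρ (SR hρ)
      have cσ : Commute σ k := mem_cent_comm.1 (K1 hk) σ (SR hσ)
      obtain ⟨j, hj⟩ := conj_mem_of_mem_normalizer (t.ker_norm (bi_mul Nat.prime_three hs ka ρn ck)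
        (fun h => e.nc (by
          have h1 : π (k * ρ) = 1 := zpowers_le.1 h
          rw [map_mul, MonoidHom.mem_ker.1 (SR hρ), mul_one, πk] at h1
          exact h1 ▸ one_mem _)) (SR hσ)) (mem_zpowers _)
      simp only [] at hj
      rw [ck.symm.mul_zpow] at hj
      have h1 : k⁻¹ * k ^ j = σ * ρ * σ⁻¹ * (ρ ^ j)⁻¹ := by
        calc _ = k⁻¹ * (k ^ j * ρ ^ j) * (ρ ^ j)⁻¹ := by group
          _ = k⁻¹ * (σ * k) * ρ * σ⁻¹ * (ρ ^ j)⁻¹ := by rw [hj]; group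
          _ = _ := by rw [cσ.eq]; group
      have h2 : σ * ρ * σ⁻¹ * (ρ ^ j)⁻¹ ∈ K ⊓ S :=
        mem_inf.2 ⟨h1 ▸ mul_mem (inv_mem hk) (zpow_mem hk j),
          mul_mem (mul_mem (mul_mem hσ hρ) (inv_mem hσ)) (inv_mem (zpow_mem hρ j))⟩
      rw [hI, mem_bot, mul_inv_eq_one] at h2
      exact ⟨j, h2.symm⟩
    have hn : ∀ H : Subgroup S, H.Normal := fun H => ⟨fun n hn σ => by
      have : n ∈ H ^ᶜ σ⁻¹ := H4.mem_of_forall_prime_pow (isOfFinOrder_of_finite n)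
        fun s hs _ y hy ⟨m, hm⟩ => by
          obtain ⟨j, hj⟩ := key y y.2 σ σ.2 s m hs (by exact_mod_cast congrArg Subtype.val hm)
          rw [mem_cj, inv_inv, show σ * y * σ⁻¹ = y ^ j from Subtype.ext (by simpa using hj.symm)]
          exact zpow_mem (zpowers_le.2 hn hy) j
      rwa [mem_cj, inv_inv] at this⟩
    by_contra hc
    obtain ⟨u, -, hu, -⟩ := H13.TG.dedekind_core hn (by
      by_contra h
      push Not at h
      exact hc ⟨⟨fun a b => (h a b).eq⟩⟩)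
    exact S2 ((by norm_num : 2 ∣ 4).trans (hu ▸ orderOf_dvd_natCard u))
  · refine Nat.coprime_of_dvd fun s hs h1 h2 => ?_
    haveI := Fact.mk hs
    have s2 : s ≠ 2 := fun e => S2 (e ▸ h2)
    obtain ⟨ρ, hρ⟩ := exists_prime_orderOf_dvd_card' s h2
    have h3 : s ∣ 2184 := h1.trans K4
    have h4 : s = 3 ∨ s = 7 ∨ s = 13 := by
      rw [show 2184 = 2 ^ 3 * (3 * (7 * 13)) by norm_num] at h3
      rcases hs.dvd_mul.1 h3 with h | h
      · exact absurd ((Nat.prime_dvd_prime_iff_eq hs Nat.prime_two).1 (hs.dvd_of_dvd_pow h)) s2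
      rcases hs.dvd_mul.1 h with h | h
      · exact Or.inl ((Nat.prime_dvd_prime_iff_eq hs (by norm_num)).1 h)
      rcases hs.dvd_mul.1 h with h | h
      · exact Or.inr (Or.inl ((Nat.prime_dvd_prime_iff_eq hs (by norm_num)).1 h))
      · exact Or.inr (Or.inr ((Nat.prime_dvd_prime_iff_eq hs (by norm_num)).1 h))
    exact t.no_odd K1 K2 K3 hs s2 (by rw [K5]; rcases h4 with rfl | rfl | rfl <;> norm_num)
      (by rw [K5]; rcases h4 with rfl | rfl | rfl <;> norm_num) (SR ρ.2) (by simpa using hρ)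

end St

theorem st_of [Finite G] (hG : ¬ Group.IsSolvable G)
    (h : ∀ H : Subgroup G, ¬ H.IsSubnormal → Bi H → IsCoatom 𝐍(H)) :
    St (QuotientGroup.mk' (solvableRadical G)) :=
  ⟨QuotientGroup.mk'_surjective _, by rw [QuotientGroup.ker_mk']; infer_instance,
    H1.solvableRadical_quotient,
    fun hs => hG (H1.isSolvable_of_normal_of_quotient _ inferInstance hs), h⟩

end H22.Nm
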