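import Cfsg.Agent.Lib.CH2.SgB

/-! 2-groups with an involutory automorphism whose fixed points are permuted by a Singer cycle. -/

set_option autoImplicit false
set_option linter.style.haveILetI false
set_option linter.unusedSectionVars false

namespace H22.Sg

open H13.Hig H13.Suz H11.U H72 Cfsg
open scoped commutatorElement

universe u

variable {F : Type*} [Field F] [Fintype F] [CharP F 2]

theorem exists_fix {Q : Type*} [Group Q] [Finite Q] (h2 : IsPGroup 2 Q) {α : MulAut Q}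
    (aa : ∀ x, α (α x) = x) {B : Subgroup Q} (hB : Inv α B) (h1 : B ≠ ⊥) :
    ∃ x ∈ B, x ≠ 1 ∧ α x = x := by
  classical
  haveI : Fact (Nat.Prime 2) := ⟨Nat.prime_two⟩
  letI := Fintype.ofFinite B
  let σ : Equiv.Perm B := Function.Involutive.toPerm (fun x => ⟨α x, hB x x.2⟩)
    fun x => Subtype.ext (aa x)
  have hd : 2 ∣ Fintype.card B := by
    obtain ⟨k, hk⟩ := IsPGroup.iff_card.1 (h2.to_subgroup B)
    rw [← Nat.card_eq_fintype_card, hk]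
    exact dvd_pow_self 2 fun e => h1 (Subgroup.card_eq_one.1 (by rw [hk, e, pow_zero]))
  obtain ⟨b, h3, h4⟩ := Equiv.Perm.exists_fixed_point_of_prime' (p := 2) (n := 1) hd (σ := σ)
    (by ext x; exact aa x) (a := 1) (Subtype.ext (map_one α))
  exact ⟨b, b.2, fun e => h4 (Subtype.ext e), congrArg Subtype.val h3⟩

theorem gen_pow {l : F} (h : Gen l) : l ^ (Fintype.card F - 1) = 1 := FiniteField.pow_card_sub_one_eq_one l h.1

theorem odd_card : Odd (Fintype.card F - 1) := by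
  obtain ⟨n, -, hn⟩ := FiniteField.card F 2
  rw [hn]
  exact Nat.Even.sub_odd Nat.one_le_two_pow (Nat.even_pow.2 ⟨even_two, n.ne_zero⟩) odd_one

/-- The hypothesis. -/
structure St {Q : Type*} [Group Q] (α ρ : MulAut Q) (C : Subgroup Q) (l : F) (ζ : Q → F) : Prop where
  two : IsPGroup 2 Q
  four : 4 ≤ Fintype.card F
  aa : ∀ x, α (α x) = x
  cm : ∀ x, α (ρ x) = ρ (α x)
  ord : ρ ^ (Fintype.card F - 1) = 1
  mem : ∀ x, x ∈ C ↔ α x = x
  co : Coord ρ ⊥ C l ζ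

namespace St

variable {Q : Type u} [Group Q] [Finite Q] {α ρ : MulAut Q} {C : Subgroup Q} {l : F} {ζ : Q → F}
  (h : St α ρ C l ζ)
include h

theorem invC : Inv ρ C := fun x hx => (h.mem _).2 (by rw [h.cm, (h.mem _).1 hx])

theorem inj {x y : Q} (hx : x ∈ C) (hy : y ∈ C) (e : ζ x = ζ y) : x = y :=
  inv_mul_eq_one.1 (Subgroup.mem_bot.1 (h.co.mem_of_eq hx hy e))

theorem sqC {x : Q} (hx : x ∈ C) : x * x = 1 := Subgroup.mem_bot.1 (h.co.sq_mem hx)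

theorem trans {x y : Q} (hx : x ∈ C) (hy : y ∈ C) (h1 : x ≠ 1) (h2 : y ≠ 1) : ∃ i : ℕ, (ρ ^ i) x = y := by
  have a1 : ζ x ≠ 0 := fun e => h1 (Subgroup.mem_bot.1 ((h.co.ker x hx).1 e))
  have a2 : ζ y ≠ 0 := fun e => h2 (Subgroup.mem_bot.1 ((h.co.ker y hy).1 e))
  obtain ⟨i, hi⟩ := h.co.gen.2 _ (div_ne_zero a2 a1)
  exact ⟨i, h.inj (h.invC.pow i x hx) hy (by rw [eqv_pow h.invC h.co.eqv i x hx, hi, div_mul_cancel₀ _ a1])⟩

theorem cmp (i : ℕ) (x : Q) : α ((ρ ^ i) x) = (ρ ^ i) (α x) := by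
  induction i with
  | zero => rfl
  | succ i ih => rw [pow_succ', MulAut.mul_apply, h.cm, ih, MulAut.mul_apply]

theorem central {z : Q} (hz : z ∈ C) (g : Q) : z * g = g * z := by
  by_cases h1 : z = 1
  · rw [h1, one_mul, mul_one]
  haveI : Nontrivial Q := ⟨z, 1, h1⟩
  obtain ⟨w, hw, w1, w2⟩ := exists_fix h.two h.aa (B := Subgroup.center Q) (fun x hx =>
    Subgroup.mem_center_iff.2 fun g => by
      rw [← h.aa g, ← map_mul, ← map_mul, Subgroup.mem_center_iff.1 hx])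
    ((Subgroup.nontrivial_iff_ne_bot _).1 h.two.center_nontrivial)
  obtain ⟨i, rfl⟩ := h.trans ((h.mem _).2 w2) hz w1 h1
  obtain ⟨g, rfl⟩ := (ρ ^ i).surjective g
  rw [← map_mul, ← map_mul, Subgroup.mem_center_iff.1 hw g]

theorem normal : C.Normal := ⟨fun z hz g => by rwa [← h.central hz, mul_inv_cancel_right]⟩

theorem hig (hO : ∀ x : Q, x * x = 1 → x ∈ C) : Hig ρ F where
  two := h.two
  four := h.four
  ord := h.ord
  trans x y h1 h2 h3 h4 := h.trans (hO x h2) (hO y h4) h1 h3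
  fpf i hi x hx := by
    by_contra h1
    obtain ⟨w, hw, w1, w2⟩ := exists_fix h.two h.aa (B := MonoidHom.eqLocus (ρ ^ i).toMonoidHom (MonoidHom.id Q))
      (fun y (hy : (ρ ^ i) y = y) => show (ρ ^ i) (α y) = α y by rw [← h.cmp, hy])
      fun e => h1 (Subgroup.mem_bot.1 (e ▸ hx))
    have hC := (h.mem _).2 w2
    have e := eqv_pow h.invC h.co.eqv i w hC
    rw [show (ρ ^ i) w = w from hw, eq_comm,
      mul_eq_right₀ fun e => w1 (Subgroup.mem_bot.1 ((h.co.ker w hC).1 e))] at e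
    apply hi
    have ho : orderOf (Units.mk0 l h.co.gen.1) = Fintype.card F - 1 := by
      classical
      rw [← Fintype.card_units, ← Nat.card_eq_fintype_card]
      refine orderOf_eq_card_of_forall_mem_powers fun y => ?_
      obtain ⟨j, hj⟩ := h.co.gen.2 y y.ne_zero
      exact ⟨j, Units.ext (by simpa using hj)⟩
    rw [← ho, orderOf_dvd_iff_pow_eq_one]
    exact Units.ext (by simpa using e)

omit h in
theorem d_mul (x y : Q) : (x * y)⁻¹ * α (x * y) = y⁻¹ * (x⁻¹ * α x) * y * (y⁻¹ * α y) := by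
  rw [map_mul]; group

theorem d_mul' {x : Q} (hx : x⁻¹ * α x ∈ C) (y : Q) :
    (x * y)⁻¹ * α (x * y) = (x⁻¹ * α x) * (y⁻¹ * α y) := by
  rw [d_mul, ← h.central hx, inv_mul_cancel_right]

theorem d_rho (x : Q) : (ρ x)⁻¹ * α (ρ x) = ρ (x⁻¹ * α x) := by rw [h.cm, map_mul, map_inv]

/-- The second term of the series. -/
def C2 : Subgroup Q where
  carrier := {x | x⁻¹ * α x ∈ C}
  one_mem' := by simp
  mul_mem' := fun {x y} hx hy => show _ ∈ C by rw [h.d_mul' hx]; exact C.mul_mem hx hy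
  inv_mem' := fun {x} hx => show _ ∈ C by
    have : x⁻¹⁻¹ * α x⁻¹ = x * (x⁻¹ * α x)⁻¹ * x⁻¹ := by rw [map_inv]; group
    rw [this]; exact h.normal.conj_mem _ (C.inv_mem hx) _

theorem mem2 {x : Q} : x ∈ h.C2 ↔ x⁻¹ * α x ∈ C := Iff.rfl

theorem le2 : C ≤ h.C2 := fun x hx => by rw [mem2, (h.mem x).1 hx, inv_mul_cancel]; exact C.one_mem

theorem inv2 : Inv ρ h.C2 := fun x hx => by rw [mem2, h.d_rho]; exact h.invC _ hx

theorem map_eq {β : MulAut Q} (hβ : Inv β C) : C.map β.toMonoidHom = C :=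
  Subgroup.eq_of_le_of_card_ge (by rintro _ ⟨x, hx, rfl⟩; exact hβ x hx)
    (Nat.card_congr (C.equivMapOfInjective _ β.injective).toEquiv).le

theorem invα : Inv α C := fun x hx => by rwa [(h.mem x).1 hx]

theorem exists_quot [C.Normal] (hne : ∃ x, x ∉ C) : ∃ (α' ρ' : MulAut (Q ⧸ C)) (C' : Subgroup (Q ⧸ C))
    (ζ' : Q ⧸ C → F), St α' ρ' C' l ζ' ∧ (∀ x : Q, α' x = α x) ∧ (∀ x : Q, ρ' x = ρ x) ∧
      (∀ x : Q, (x : Q ⧸ C) ∈ C' ↔ x ∈ h.C2) ∧ ∀ x : Q, ζ' x = ζ (x⁻¹ * α x) := by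
  let α' : MulAut (Q ⧸ C) := QuotientGroup.congr C C α (h.map_eq h.invα)
  let ρ' : MulAut (Q ⧸ C) := QuotientGroup.congr C C ρ (h.map_eq h.invC)
  have a1 : ∀ x : Q, α' x = α x := fun x => rfl
  have a2 : ∀ x : Q, ρ' x = ρ x := fun x => rfl
  have a3 : ∀ x : Q, (x : Q ⧸ C) ∈ h.C2.map (QuotientGroup.mk' C) ↔ x ∈ h.C2 := fun x => by
    show x ∈ (h.C2.map (QuotientGroup.mk' C)).comap (QuotientGroup.mk' C) ↔ _
    rw [Subgroup.comap_map_eq_self]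
    rw [QuotientGroup.ker_mk']; exact h.le2
  have a4 : ∀ x : Q, ζ ((x : Q ⧸ C).out⁻¹ * α (x : Q ⧸ C).out) = ζ (x⁻¹ * α x) := fun x => by
    obtain ⟨c, hc⟩ := QuotientGroup.mk_out_eq_mul C x
    rw [hc, d_mul, (h.mem _).1 c.2, inv_mul_cancel, mul_one, mul_assoc, ← h.central c.2, inv_mul_cancel_left]
  have aa : ∀ v, α' (α' v) = v := fun v => by
    obtain ⟨x, rfl⟩ := QuotientGroup.mk_surjective v
    rw [a1, a1, h.aa]
  have a5 : ∀ x : Q, x ∈ h.C2 ↔ α' x = x := fun x => by rw [a1, eq_comm, QuotientGroup.eq, mem2]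
  have ad : ∀ x ∈ h.C2, ∀ y ∈ h.C2, ζ ((x * y)⁻¹ * α (x * y)) = ζ (x⁻¹ * α x) + ζ (y⁻¹ * α y) :=
    fun x hx y hy => by rw [h.d_mul' hx, h.co.add _ hx _ hy]
  have eqv : ∀ x ∈ h.C2, ζ ((ρ x)⁻¹ * α (ρ x)) = l * ζ (x⁻¹ * α x) := fun x hx => by
    rw [h.d_rho, h.co.eqv _ hx]
  have ker : ∀ x ∈ h.C2, ζ (x⁻¹ * α x) = 0 ↔ x ∈ C := fun x hx => by
    rw [h.co.ker _ hx, Subgroup.mem_bot, inv_mul_eq_one, h.mem, eq_comm]
  refine ⟨α', ρ', h.C2.map (QuotientGroup.mk' C), fun v => ζ (v.out⁻¹ * α v.out),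
    ⟨h.two.to_quotient C, h.four, aa, fun v => ?_, ?_, fun v => ?_, ?_, ?_, ?_, fun c => ?_, h.co.gen⟩,
    a1, a2, a3, a4⟩
  · obtain ⟨x, rfl⟩ := QuotientGroup.mk_surjective v
    rw [a1, a2, a2, a1, h.cm]
  · have : ∀ (i : ℕ) (x : Q), (ρ' ^ i) x = (ρ ^ i) x := fun i x => by
      induction i with
      | zero => rfl
      | succ i ih => rw [pow_succ', MulAut.mul_apply, ih, a2, pow_succ', MulAut.mul_apply]
    ext v
    obtain ⟨x, rfl⟩ := QuotientGroup.mk_surjective v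
    rw [this, h.ord]; rfl
  · obtain ⟨x, rfl⟩ := QuotientGroup.mk_surjective v
    rw [a3, a5]
  · rintro _ ⟨x, hx, rfl⟩ _ ⟨y, hy, rfl⟩
    simp only [QuotientGroup.mk'_apply, ← QuotientGroup.mk_mul, a4]
    exact ad x hx y hy
  · rintro _ ⟨x, hx, rfl⟩
    simp only [QuotientGroup.mk'_apply, a2, a4]
    exact eqv x hx
  · rintro _ ⟨x, hx, rfl⟩
    simp only [QuotientGroup.mk'_apply, a4, Subgroup.mem_bot, QuotientGroup.eq_one_iff]
    exact ker x hx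
  · obtain ⟨y, hy⟩ := hne
    obtain ⟨v, -, v1, v2⟩ := exists_fix (h.two.to_quotient C) aa (B := ⊤) inv_top
      fun e => hy ((QuotientGroup.eq_one_iff y).1 (Subgroup.mem_bot.1 (e ▸ Subgroup.mem_top _)))
    obtain ⟨x, rfl⟩ := QuotientGroup.mk_surjective v
    have hx := (a5 x).2 v2
    obtain ⟨w, hw, e⟩ := surj_of_gen (e := fun x => ζ (x⁻¹ * α x)) h.inv2 ad eqv h.co.gen hx
      (fun e => v1 ((QuotientGroup.eq_one_iff x).2 ((ker x hx).1 e))) c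
    exact ⟨w, (a3 w).2 hw, (a4 w).trans e⟩

theorem coord2 (hne : ∃ x, x ∉ C) : Coord ρ C h.C2 l fun x => ζ (x⁻¹ * α x) := by
  haveI := h.normal
  obtain ⟨α', ρ', C', ζ', h', -, a2, a3, a4⟩ := h.exists_quot hne
  refine ⟨fun x hx y hy => ?_, fun x hx => ?_, fun x hx => ?_, fun c => ?_, h.co.gen⟩
  · rw [← a4, ← a4, ← a4, ← h'.co.add _ ((a3 _).2 hx) _ ((a3 _).2 hy), QuotientGroup.mk_mul]
  · rw [← a4, ← a4, ← h'.co.eqv _ ((a3 _).2 hx), a2]
  · rw [← a4, h'.co.ker _ ((a3 _).2 hx), Subgroup.mem_bot, QuotientGroup.eq_one_iff]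
  · obtain ⟨v, hv, e⟩ := h'.co.surj c
    obtain ⟨x, rfl⟩ := QuotientGroup.mk_surjective v
    exact ⟨x, (a3 _).1 hv, (a4 _).symm.trans e⟩

theorem comm2 : Comm h.C2 := by
  by_cases hne : ∃ x, x ∉ C
  swap
  · push Not at hne
    exact fun x _ y _ => h.central (hne x) y
  have c := h.coord2 hne
  have c1 : ∀ z ∈ C, ∀ g, ⁅g, z⁆ = 1 := fun z hz g =>
    commutatorElement_eq_one_iff_mul_comm.2 (h.central hz g).symm
  obtain ⟨η, hη⟩ := descend c c (fun x y => ζ ⁅x, y⁆)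
    (fun x hx x' hx' y hy => by
      rw [cm_mul_left, c1 _ (c.cm_mem hx' hy), one_mul, h.co.add _ (c.cm_mem hx' hy) _ (c.cm_mem hx hy),
        add_comm])
    (fun x hx y hy y' hy' => by
      rw [cm_mul_right, c1 _ (c.cm_mem hx hy'), mul_one, h.co.add _ (c.cm_mem hx hy) _ (c.cm_mem hx hy')])
    (fun x _ hx y _ => by rw [← commutatorElement_inv, c1 _ hx, inv_one, h.co.one])
    fun x _ y _ hy => by rw [c1 _ hy, h.co.one]
  have h0 := alt_eq_zero η h.co.gen (fun a b => by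
      obtain ⟨x, hx, rfl⟩ := c.surj a
      obtain ⟨y, hy, rfl⟩ := c.surj b
      rw [← c.eqv x hx, ← c.eqv y hy, hη _ (h.inv2 _ hx) _ (h.inv2 _ hy), hη _ hx _ hy,
        ← map_commutatorElement, h.co.eqv _ (c.cm_mem hx hy)])
    fun a => by
      obtain ⟨x, hx, rfl⟩ := c.surj a
      rw [hη _ hx _ hx, commutatorElement_self, h.co.one]
  intro x hx y hy
  exact commutatorElement_eq_one_iff_mul_comm.1 (Subgroup.mem_bot.1
    ((h.co.ker _ (c.cm_mem hx hy)).1 (by rw [← hη _ hx _ hy, h0])))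

/-- If the series has length at least three, `α` inverts the second term. -/
theorem inverts (hne : ∃ y, y ∉ h.C2) {x : Q} (hx : x ∈ h.C2) : α x = x⁻¹ := by
  haveI := h.normal
  have hne' : ∃ x, x ∉ C := let ⟨y, hy⟩ := hne; ⟨y, fun e => hy (h.le2 e)⟩
  obtain ⟨α', ρ', C', ζ', h', a1, -, a3, a4⟩ := h.exists_quot hne'
  obtain ⟨v, hv, e⟩ := (h'.coord2 (by
    obtain ⟨y, hy⟩ := hne
    exact ⟨y, fun e => hy ((a3 _).1 e)⟩)).surj 1
  obtain ⟨y, rfl⟩ := QuotientGroup.mk_surjective v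
  rw [mem2, a1, ← QuotientGroup.mk_inv, ← QuotientGroup.mk_mul] at hv
  simp only [a1, ← QuotientGroup.mk_inv, ← QuotientGroup.mk_mul, a4] at e
  rw [a3] at hv
  have c := h.coord2 hne'
  let I : Subgroup Q :=
    { carrier := {x | x ∈ h.C2 ∧ α x = x⁻¹}
      one_mem' := ⟨h.C2.one_mem, by simp⟩
      mul_mem' := fun {a b} ha hb => ⟨h.C2.mul_mem ha.1 hb.1, by
        rw [map_mul, ha.2, hb.2, ← mul_inv_rev, h.comm2 _ ha.1 _ hb.1]⟩
      inv_mem' := fun {a} ha => ⟨h.C2.inv_mem ha.1, by rw [map_inv, ha.2]⟩ }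
  have hI : Inv ρ I := fun a ha => ⟨h.inv2 _ ha.1, by rw [h.cm, ha.2, map_inv]⟩
  obtain ⟨w, hw, ew⟩ := surj_of_gen (e := fun x => ζ (x⁻¹ * α x)) hI
    (fun a ha b hb => c.add a ha.1 b hb.1) (fun a ha => c.eqv a ha.1) h.co.gen (x₀ := y⁻¹ * α y) ⟨hv, by rw [map_mul, map_inv, h.aa]; group⟩
    (by rw [e]; exact one_ne_zero) (ζ (x⁻¹ * α x))
  have hc := c.mem_of_eq hw.1 hx ew
  have : w * (w⁻¹ * x) ∈ I := I.mul_mem hw ⟨h.le2 hc, by
    rw [(h.mem _).1 hc]; exact eq_inv_of_mul_eq_one_left (h.sqC hc)⟩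
  rw [mul_inv_cancel_left] at this
  exact this.2

theorem om2 (hne : ∃ y, y ∉ h.C2) {x : Q} (hx : x ∈ h.C2) (h2 : x * x = 1) : x ∈ C := by
  rw [h.mem, h.inverts hne hx]; exact (eq_inv_of_mul_eq_one_left h2).symm

theorem exists_root (hne : ∃ y, y ∉ h.C2) {c : Q} (hc : c ∈ C) : ∃ x ∈ h.C2, x * x = c := by
  obtain ⟨x, hx, e⟩ := (h.coord2 (let ⟨y, hy⟩ := hne; ⟨y, fun e => hy (h.le2 e)⟩)).surj (ζ c)
  exact ⟨x⁻¹, h.C2.inv_mem hx, by rw [← h.inj hx hc e, h.inverts hne hx]⟩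

/-- Coordinates in the non-abelian case. -/
theorem form (hna : ∃ x y : Q, x * y ≠ y * x) (hsq : ∀ x, x * x ∈ C) (hne : ∃ y, y ∉ h.C2) :
    ∃ (π : Q → F × F) (A B D : F), CE π ζ ∧ (∀ z, π z = 0 ↔ z ∈ C) ∧ (∀ x, (π x).2 = 0 ↔ x ∈ h.C2) ∧
      B ≠ 0 ∧ (∀ x, ζ (x * x) = A * (π x).1 ^ 2 + B * ((π x).1 * (π x).2) + D * (π x).2 ^ 2) ∧
      ∀ x y, ζ ⁅x, y⁆ = B * ((π x).1 * (π y).2 + (π x).2 * (π y).1) := by
  haveI := h.normal
  have hne' : ∃ x, x ∉ C := let ⟨y, hy⟩ := hne; ⟨y, fun e => hy (h.le2 e)⟩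
  have c := h.coord2 hne'
  obtain ⟨α', ρ', C', ζ', h', -, a2, a3, -⟩ := h.exists_quot hne'
  have c' := h'.coord2 (let ⟨y, hy⟩ := hne; ⟨y, fun e => hy ((a3 _).1 e)⟩)
  have h2 : ∀ v : Q ⧸ C, v * v = 1 := fun v => by
    obtain ⟨x, rfl⟩ := QuotientGroup.mk_surjective v
    exact (QuotientGroup.eq_one_iff _).2 (hsq x)
  have hi : ∀ v : Q ⧸ C, v⁻¹ = v := fun v => (eq_inv_of_mul_eq_one_left (h2 v)).symm
  have ht : ∀ v, v ∈ h'.C2 := fun v => by
    rw [mem2, h'.mem, map_mul, map_inv, h'.aa, ← hi (_ * v), mul_inv_rev, inv_inv]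
  let r : F ≃+* F := (frobeniusEquiv F 2).symm
  have hr : r l * r l = l := by
    rw [← sq, ← frobenius_def, ← frobeniusEquiv_apply, RingEquiv.apply_symm_apply]
  have hμ := h.co.gen.map r
  obtain ⟨a, a5, a6, a7⟩ := exists_ext (ρ := ρ) (odd_card (F := F)) inv_top h.inv2 le_top
    (fun x _ => by rw [h.ord]; rfl) (gen_pow hμ) (e := fun x => r (ζ (x⁻¹ * α x)))
    (fun x hx y hy => by rw [← map_add, ← c.add x hx y hy])
    (fun x hx => by rw [← map_mul, ← c.eqv x hx])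
    fun x _ => ⟨h.le2 (hsq x), by rw [(c.ker _ (h.le2 (hsq x))).2 (hsq x), map_zero]⟩
  let b : Q → F := fun x => r (ζ' ((x : Q ⧸ C)⁻¹ * α' x))
  have b1 : ∀ x y, b (x * y) = b x + b y := fun x y => by
    rw [← map_add, ← c'.add _ (ht _) _ (ht _)]; rfl
  have b2 : ∀ x, b x = 0 ↔ x ∈ h.C2 := fun x => by rw [map_eq_zero, c'.ker _ (ht _), a3]
  have p0 : ∀ z, (a z, b z) = 0 ↔ z ∈ C := fun z => by
    rw [Prod.mk_eq_zero, b2]
    exact ⟨fun ⟨e1, e2⟩ => (c.ker z e2).1 (by rwa [a7 z e2, map_eq_zero] at e1),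
      fun e => ⟨by rw [a7 z (h.le2 e), (c.ker z (h.le2 e)).2 e, map_zero], h.le2 e⟩⟩
  have ce : CE (fun x => (a x, b x)) ζ := by
    refine ⟨fun x y => Prod.ext (a5 x trivial y trivial) (b1 x y), fun w => ?_,
      fun x y hx hy => h.co.add _ ((p0 _).1 hx) _ ((p0 _).1 hy),
      fun x hx e => Subgroup.mem_bot.1 ((h.co.ker _ ((p0 _).1 hx)).1 e), fun t => ?_⟩
    · obtain ⟨v, -, e⟩ := c'.surj (r.symm w.2)
      obtain ⟨y, rfl⟩ := QuotientGroup.mk_surjective v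
      obtain ⟨x, hx, e'⟩ := c.surj (r.symm (w.1 + a y))
      refine ⟨x * y, Prod.ext ?_ ?_⟩
      · show a (x * y) = _
        rw [a5 x trivial y trivial, a7 x hx, e', r.apply_symm_apply, add_assoc, CharTwo.add_self_eq_zero,
          add_zero]
      · show b (x * y) = _
        rw [b1, (b2 x).2 hx, zero_add]
        exact (congrArg r e).trans (r.apply_symm_apply _)
    · obtain ⟨x, hx, e⟩ := h.co.surj t
      exact ⟨x, (p0 _).2 hx, e⟩
  obtain ⟨A, B, D, f1, f2⟩ := ce.exists_form (fun z hz => h.central ((p0 z).1 hz)) (ρ := ρ) hμ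
    (fun x => Prod.ext (a6 x trivial) (by
      show b (ρ x) = r l * b x
      rw [← map_mul, ← c'.eqv _ (ht _), a2]))
    fun z hz => by rw [hr, h.co.eqv _ ((p0 z).1 hz)]
  refine ⟨_, A, B, D, ce, p0, b2, fun e => ?_, f1, f2⟩
  obtain ⟨x, y, hxy⟩ := hna
  exact hxy (commutatorElement_eq_one_iff_mul_comm.1 (ce.zinj _ (ce.cm0 x y) (by rw [f2, e, zero_mul])))

end St

theorem St.main {n : ℕ} : ∀ {Q : Type u} [Group Q] [Finite Q] {α ρ : MulAut Q} {C : Subgroup Q} {l : F}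
    {ζ : Q → F} (h : St α ρ C l ζ), Nat.card Q = n →
    ((∀ x y : Q, x * y = y * x) ∧ ∀ x : Q, x * x = 1 → x ∈ C) ∨ ((∀ x : Q, x * x = 1) ∧ ∀ x, x ∈ h.C2) ∨
      ((∃ x y : Q, x * y ≠ y * x) ∧ (∀ x : Q, x * x ∈ C) ∧ ∃ y, y ∉ h.C2) := by
  induction n using Nat.strong_induction_on with
  | _ n ih =>
  intro Q _ _ α ρ C l ζ h hn
  by_cases hne' : ∃ x, x ∉ C
  swap
  · push Not at hne'
    exact Or.inl ⟨fun x => h.central (hne' x), fun x _ => hne' x⟩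
  have c := h.coord2 hne'
  by_cases hne : ∃ y, y ∉ h.C2
  swap
  · push Not at hne
    have hc : ∀ x y : Q, x * y = y * x := fun x y => h.comm2 x (hne x) y (hne y)
    by_cases h1 : ∀ x : Q, x * x = 1 → x ∈ C
    · exact Or.inl ⟨hc, h1⟩
    push Not at h1
    obtain ⟨x, x1, x2⟩ := h1
    refine Or.inr (Or.inl ⟨fun y => ?_, hne⟩)
    let I : Subgroup Q :=
      { carrier := {x | x * x = 1}
        one_mem' := mul_one 1
        mul_mem' := fun {a b} (ha : _ = _) (hb : _ = _) => show _ = _ by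
          rw [mul_assoc, hc b, ← mul_assoc, ← mul_assoc, ha, one_mul, hb]
        inv_mem' := fun {a} (ha : _ = _) => show _ = _ by rw [← mul_inv_rev, ha, inv_one] }
    obtain ⟨w, hw, ew⟩ := surj_of_gen (X := I) (ξ := ρ) (e := fun x => ζ (x⁻¹ * α x))
      (fun a (ha : _ = _) => show _ = _ by rw [← map_mul, ha, map_one])
      (fun a _ b _ => c.add a (hne a) b (hne b)) (fun a _ => c.eqv a (hne a)) h.co.gen (x₀ := x) x1
      (fun e => x2 ((c.ker x (hne x)).1 e)) (ζ (y⁻¹ * α y))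
    have := I.mul_mem hw (h.sqC (c.mem_of_eq (hne w) (hne y) ew))
    rwa [mul_inv_cancel_left] at this
  haveI := h.normal
  obtain ⟨α', ρ', C', ζ', h', a1, -, a3, -⟩ := h.exists_quot hne'
  have hlt : Nat.card (Q ⧸ C) < n := by
    obtain ⟨z, hz, z1⟩ := h.co.exists_not_mem
    rw [← hn, ← C.index_mul_card, ← Subgroup.index_eq_card]
    exact lt_mul_of_one_lt_right (Nat.pos_of_ne_zero C.index_ne_zero_of_finite)
      (C.one_lt_card_iff_ne_bot.2 fun e => z1 (e ▸ hz))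
  by_cases hc : ∀ x y : Q, x * y = y * x
  · rcases ih _ hlt h' rfl with ⟨-, h1⟩ | ⟨h1, h2⟩ | ⟨⟨x, y, hxy⟩, -⟩
    · exact Or.inl ⟨hc, fun x hx => h.om2 hne ((a3 x).1 (h1 x (by rw [← QuotientGroup.mk_mul, hx]; rfl))) hx⟩
    · exfalso
      obtain ⟨y, hy⟩ := id hne
      obtain ⟨x, hx, e⟩ := h.exists_root hne ((QuotientGroup.eq_one_iff (y * y)).1 (h1 y))
      have h3 : (x⁻¹ * y) * (x⁻¹ * y) = 1 := by
        rw [mul_assoc, hc y, mul_assoc, ← e]; group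
      have h4 := h2 ((x⁻¹ * y : Q) : Q ⧸ C)
      rw [St.mem2, a1, ← QuotientGroup.mk_inv, ← QuotientGroup.mk_mul, a3] at h4
      refine hy ((h.C2.mul_mem_cancel_left (h.C2.inv_mem hx)).1 (h.om2 hne h4 ?_))
      generalize x⁻¹ * y = w at h3
      rw [mul_assoc, hc (α w), mul_assoc, ← map_mul, h3, map_one, mul_one, ← mul_inv_rev, h3, inv_one]
    · obtain ⟨x, rfl⟩ := QuotientGroup.mk_surjective x
      obtain ⟨y, rfl⟩ := QuotientGroup.mk_surjective y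
      exact (hxy (by rw [← QuotientGroup.mk_mul, hc, QuotientGroup.mk_mul])).elim
  push Not at hc
  refine Or.inr (Or.inr ⟨hc, fun x => ?_, hne⟩)
  rcases ih _ hlt h' rfl with ⟨-, h1⟩ | ⟨h1, -⟩ | ⟨h1, h2, h3⟩
  · have hO : ∀ x : Q, x * x = 1 → x ∈ C := fun x hx =>
      h.om2 hne ((a3 x).1 (h1 x (by rw [← QuotientGroup.mk_mul, hx]; rfl))) hx
    exact hO _ ((h.hig hO).mem_Om.1 ((h.hig hO).sq_mem_Om hc x))
  · exact (QuotientGroup.eq_one_iff _).1 (h1 x)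
  exfalso
  obtain ⟨π, A, B, D, ce, p0, p1, hB, -, f2⟩ := h'.form h1 h2 h3
  have k1 : ∀ v ∈ h.C2, ∀ w : Q, (w : Q ⧸ C) ∈ h'.C2 → v * w = w * v := fun v hv w hw => by
    obtain ⟨t, ht, e⟩ := h'.exists_root h3 ((a3 v).2 hv)
    obtain ⟨t, rfl⟩ := QuotientGroup.mk_surjective t
    have m1 : ⁅t, w⁆ ∈ C := (QuotientGroup.eq_one_iff _).1
      (commutatorElement_eq_one_iff_mul_comm.2 (h'.comm2 _ ht _ hw))
    have m2 : (t * t)⁻¹ * v ∈ C := QuotientGroup.eq.1 e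
    have m3 : t * t * w = w * (t * t) := by
      rw [← commutatorElement_eq_one_iff_mul_comm, cm_mul_left,
        commutatorElement_eq_one_iff_mul_comm.2 (h.central m1 t).symm, one_mul, h.sqC m1]
    rw [← mul_inv_cancel_left (t * t) v, mul_assoc, h.central m2, ← mul_assoc, m3, mul_assoc]
  have k2 : ∀ y : Q, (π y).2 ≠ 0 → ∀ v ∈ h.C2, y * v * y⁻¹ = v⁻¹ := fun y hy v hv => by
    obtain ⟨t, ht⟩ := ce.surj (ζ' v / (B * (π y).2), 0)
    obtain ⟨t, rfl⟩ := QuotientGroup.mk_surjective t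
    have m0 := (p0 _).1 (ce.cm0 t y)
    have e : ⁅(t : Q ⧸ C), (y : Q ⧸ C)⁆ = v := h'.inj m0 ((a3 v).2 hv) (by rw [f2, ht]; field_simp; ring)
    have m2 : ⁅t, y⁆⁻¹ * v ∈ C := QuotientGroup.eq.1 e
    have m3 := k1 (y * y) ((a3 _).1 (h2 y)) t ((p1 _).1 (by rw [ht]))
    have m4 : y * ⁅t, y⁆ * y⁻¹ = ⁅t, y⁆⁻¹ := by
      calc y * ⁅t, y⁆ * y⁻¹ = y * t * y⁻¹ * (y * y * t⁻¹ * (y * y)⁻¹) := by
            rw [commutatorElement_def]; group
        _ = _ := by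
          rw [show y * y * t⁻¹ = t⁻¹ * (y * y) by
            rw [eq_inv_mul_iff_mul_eq, ← mul_assoc, ← m3, mul_inv_cancel_right], commutatorElement_inv,
            commutatorElement_def]
          group
    rw [← mul_inv_cancel_left ⁅t, y⁆ v]
    generalize ⁅t, y⁆⁻¹ * v = z at m2
    rw [mul_inv_rev, ← eq_inv_of_mul_eq_one_left (h.sqC m2), ← m4, h.central m2, ← mul_assoc, mul_assoc _ z,
      h.central m2, ← mul_assoc]
  obtain ⟨t, t0, t1, -⟩ := exists_ne_zero_one h.four (0 : F)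
  obtain ⟨y, hy⟩ := ce.surj (0, 1)
  obtain ⟨y', hy'⟩ := ce.surj (0, t)
  obtain ⟨y, rfl⟩ := QuotientGroup.mk_surjective y
  obtain ⟨y', rfl⟩ := QuotientGroup.mk_surjective y'
  obtain ⟨v, hv, v1⟩ := c.exists_not_mem
  have e1 := k2 (y * y') (by
    rw [QuotientGroup.mk_mul, ce.add, hy, hy']
    exact fun e => t1 (CharTwo.add_eq_zero.1 e).symm) v hv
  rw [show y * y' * v * (y * y')⁻¹ = y * (y' * v * y'⁻¹) * y⁻¹ by group, k2 y' (by rw [hy']; exact t0) v hv,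
    k2 y (by rw [hy]; exact one_ne_zero) _ (h.C2.inv_mem hv), inv_inv] at e1
  exact v1 (h.om2 hne hv (mul_eq_one_iff_eq_inv.2 e1))

end H22.Sg
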