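import Cfsg.Agent.Lib.CH2.SgC

/-! Field coordinates from a Singer cycle, and the classification. -/

set_option autoImplicit false
set_option linter.style.haveILetI false
set_option linter.unusedSectionVars false

namespace H22.Sg

open H13.Hig H13.Suz H11.U H72 Cfsg

universe u v

variable {F : Type*} [Field F] [Fintype F] [CharP F 2]

theorem exists_coord {Q : Type*} [Group Q] [Finite Q] {ρ : MulAut Q} {C : Subgroup Q}
    (h4 : 4 ≤ Fintype.card F) (hC : Nat.card C = Fintype.card F) (h2 : ∀ x ∈ C, x * x = 1)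
    (hI : Inv ρ C) (ho : ∀ x ∈ C, (ρ ^ (Fintype.card F - 1)) x = x)
    (htr : ∀ x ∈ C, ∀ y ∈ C, x ≠ 1 → y ≠ 1 → ∃ k : ℕ, (ρ ^ k) x = y) :
    ∃ (l : F) (ζ : Q → F), Coord ρ ⊥ C l ζ := by
  classical
  let f : C →* C := (ρ.toMonoidHom.comp C.subtype).codRestrict C fun x => hI x x.2
  let σ : MulAut C := MulEquiv.ofBijective f (Finite.injective_iff_bijective.1 fun x y e =>
    Subtype.ext (ρ.injective (congrArg Subtype.val e)))
  have hσ : ∀ (i : ℕ) (x : C), ((σ ^ i) x : Q) = (ρ ^ i) x := fun i x => by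
    induction i with
    | zero => rfl
    | succ i ih => rw [pow_succ', pow_succ', MulAut.mul_apply, MulAut.mul_apply, ← ih]; rfl
  have tr : ∀ x y : C, x ≠ 1 → y ≠ 1 → ∃ k : ℕ, (σ ^ k) x = y := fun x y hx hy => by
    obtain ⟨k, hk⟩ := htr x x.2 y y.2 (by simpa using hx) (by simpa using hy)
    exact ⟨k, Subtype.ext ((hσ k x).trans hk)⟩
  have H : Hig σ F := by
    refine ⟨fun x => ⟨1, Subtype.ext (by simpa [sq] using h2 x x.2)⟩, h4, ?_, fun i hi x hx => ?_,
      fun x y hx _ hy _ => tr x y hx hy⟩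
    · ext x
      rw [hσ, ho x x.2]; rfl
    · by_contra h1
      apply hi
      letI := Fintype.ofFinite (MulAction.orbit (Subgroup.zpowers σ) x)
      have h3 := MulAction.minimalPeriod_eq_card σ x
      have h5 : MulAction.orbit (Subgroup.zpowers σ) x = {1}ᶜ := by
        ext y
        constructor
        · rintro ⟨⟨k, hk⟩, rfl⟩ (e : k x = 1)
          exact h1 (by simpa using e)
        · intro hy
          obtain ⟨k, rfl⟩ := tr x y h1 hy
          exact ⟨⟨σ ^ k, Subgroup.npow_mem_zpowers σ k⟩, rfl⟩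
      rw [← MulAction.period_eq_minimalPeriod, ← Nat.card_eq_fintype_card, h5, Nat.card_coe_set_eq,
        Set.ncard_compl, Set.ncard_singleton, hC] at h3
      rw [← h3, ← MulAction.pow_smul_eq_iff_period_dvd]
      exact hx
  haveI : Nontrivial C := Finite.one_lt_card_iff_nontrivial.1 (by omega)
  obtain ⟨l, ζ, c⟩ := H.exists_coord_Om
  have hO : ∀ x : C, x ∈ Om C := fun x => H.mem_Om.2 (Subtype.ext (h2 x x.2))
  refine ⟨l, fun x => if h : x ∈ C then ζ ⟨x, h⟩ else 0, fun x hx y hy => ?_, fun x hx => ?_,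
    fun x hx => ?_, fun a => ?_, c.gen⟩
  · simp only [dif_pos hx, dif_pos hy, dif_pos (C.mul_mem hx hy)]
    exact c.add ⟨x, hx⟩ (hO _) ⟨y, hy⟩ (hO _)
  · simp only [dif_pos hx, dif_pos (hI x hx)]
    exact c.eqv ⟨x, hx⟩ (hO _)
  · simp only [dif_pos hx, c.ker _ (hO _), Subgroup.mem_bot, Subtype.ext_iff, Subgroup.coe_one]
  · obtain ⟨x, -, e⟩ := c.surj a
    exact ⟨x, x.2, by simp only [dif_pos x.2, e]⟩

theorem CE.iso_L_or_U {Q : Type*} [Group Q] {π : Q → F × F} {ζ : Q → F} (h : CE π ζ) {A B D : F}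
    (hκ : ∀ x, ζ (x * x) = A * (π x).1 ^ 2 + B * ((π x).1 * (π x).2) + D * (π x).2 ^ 2) (hB : B ≠ 0) :
    Nonempty (Q ≃* H10.unitriSL (Fin 3) F) ∨ ∀ (K : Type v) [Field K] [Fintype K] [CharP K 2]
      [IsSq K (Fintype.card F)], Nonempty (Q ≃* UQ K (Fintype.card F)) := by
  by_cases h0 : ∀ u : F × F, A * u.1 ^ 2 + B * (u.1 * u.2) + D * u.2 ^ 2 = 0 → u = 0
  · exact Or.inr fun K _ _ _ _ => h.iso_U hκ hB h0 K
  · push Not at h0
    obtain ⟨u, h1, h2⟩ := h0
    exact Or.inl (h.iso_L hκ hB h2 h1)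

theorem St.classify {Q : Type u} [Group Q] [Finite Q] {α ρ : MulAut Q} {C : Subgroup Q} {l : F}
    {ζ : Q → F} (h : St α ρ C l ζ) (hna : ∃ x y : Q, x * y ≠ y * x) :
    Nonempty (Q ≃* H10.unitriSL (Fin 3) F) ∨ ∀ (K : Type v) [Field K] [Fintype K] [CharP K 2]
      [IsSq K (Fintype.card F)], Nonempty (Q ≃* UQ K (Fintype.card F)) := by
  obtain ⟨x, y, hxy⟩ := id hna
  rcases h.main rfl with ⟨h1, -⟩ | ⟨-, h1⟩ | ⟨-, h1, h2⟩
  · exact (hxy (h1 x y)).elim
  · exact (hxy (h.comm2 x (h1 x) y (h1 y))).elim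
  · obtain ⟨π, A, B, D, ce, -, -, hB, f1, -⟩ := h.form hna h1 h2
    exact ce.iso_L_or_U f1 hB

theorem card_galois {n : ℕ} (hn : n ≠ 0) [Fintype (GaloisField 2 n)] :
    Fintype.card (GaloisField 2 n) = 2 ^ n := by
  rw [← Nat.card_eq_fintype_card, GaloisField.card 2 n hn]

end H22.Sg
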