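import Cfsg.Agent.Lib.CH2.SgD
import Cfsg.Agent.Lib.TwoFusion.U34Model

/-! The case of a four-group. -/

set_option autoImplicit false
set_option linter.style.haveILetI false
set_option linter.unusedSectionVars false

namespace H22.Sg

open H13.Hig H13.Suz H11.U H72 Cfsg

variable {Q : Type*} [Group Q] [Finite Q] {σ : MulAut Q} {C : Subgroup Q}

theorem four_cases (h4 : Nat.card C = 4) (hI : Inv σ C) (h3 : ∀ x, σ (σ (σ x)) = x) {w : Q} (hw : w ∈ C)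
    (h1 : σ w ≠ w) {y : Q} (hy : y ∈ C) : y = 1 ∨ y = w ∨ y = σ w ∨ y = σ (σ w) := by
  classical
  have n0 : w ≠ 1 := fun e => h1 (by rw [e, map_one])
  have n1 : σ (σ w) ≠ w := fun e => h1 ((congrArg σ e).symm.trans (h3 w))
  have hs : ({1, w, σ w, σ (σ w)} : Set Q) = C := by
    refine Set.eq_of_subset_of_ncard_le ?_ ?_
    · rintro _ (rfl | rfl | rfl | rfl)
      exacts [C.one_mem, hw, hI _ hw, hI _ (hI _ hw)]
    · rw [← Nat.card_coe_set_eq, SetLike.coe_sort_coe, h4, Set.ncard_insert_of_notMem,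
        Set.ncard_insert_of_notMem, Set.ncard_pair]
      · exact fun e => h1 (σ.injective e).symm
      · rintro (e | e)
        exacts [h1 e.symm, n1 e.symm]
      · rintro (e | e | e)
        exacts [n0 e.symm, n0 (by simpa using e.symm), n0 (by simpa using e.symm)]
  exact (hs.symm ▸ hy : y ∈ ({1, w, σ w, σ (σ w)} : Set Q))

theorem four_trans (h4 : Nat.card C = 4) (hI : Inv σ C) (h3 : ∀ x, σ (σ (σ x)) = x) {w : Q} (hw : w ∈ C)
    (h1 : σ w ≠ w) : ∀ x ∈ C, ∀ y ∈ C, x ≠ 1 → y ≠ 1 → ∃ k : ℕ, (σ ^ k) x = y := by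
  have k : ∀ y ∈ C, y ≠ 1 → ∃ k : ℕ, (σ ^ k) w = y ∧ (σ ^ (2 * k)) y = w := fun y hy y1 => by
    rcases four_cases h4 hI h3 hw h1 hy with e | rfl | rfl | rfl
    exacts [(y1 e).elim, ⟨0, rfl, rfl⟩, ⟨1, rfl, h3 w⟩, ⟨2, rfl, (h3 _).trans (h3 w)⟩]
  intro x hx y hy x1 y1
  obtain ⟨i, -, hi⟩ := k x hx x1
  obtain ⟨j, hj, -⟩ := k y hy y1
  exact ⟨j + 2 * i, by rw [pow_add, MulAut.mul_apply, hi, hj]⟩

theorem main_four {α : MulAut Q} (hQ : IsPGroup 2 Q) (aa : ∀ x, α (α x) = x) (cm : ∀ x, α (σ x) = σ (α x))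
    (hC : ∀ x, x ∈ C ↔ α x = x) (h4 : Nat.card C = 4) (h2 : ∀ x ∈ C, x * x = 1)
    (h3 : ∀ x, σ (σ (σ x)) = x) {w : Q} (hw : w ∈ C) (h1 : σ w ≠ w) :
    (Nat.card Q = 16 ∧ ∀ x : Q, x * x = 1) ∨
    (∃ n : ℕ, 1 ≤ n ∧ Nonempty (Q ≃* Multiplicative (ZMod (2 ^ n)) × Multiplicative (ZMod (2 ^ n)))) ∨
    (∃ (F : Type) (_ : Field F) (_ : Fintype F), Fintype.card F = 4 ∧
      ∀ P : Sylow 2 (Matrix.ProjectiveSpecialLinearGroup (Fin 3) F),
        Nonempty (Q ≃* ↥(P : Subgroup (Matrix.ProjectiveSpecialLinearGroup (Fin 3) F)))) ∨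
    (∃ (F : Type) (_ : Field F) (_ : Fintype F), Fintype.card F = 16 ∧
      ∀ P : Sylow 2 (Cfsg.PSU 3 F 4), Nonempty (Q ≃* ↥(P : Subgroup (Cfsg.PSU 3 F 4)))) := by
  letI := Fintype.ofFinite (GaloisField 2 2)
  letI := Fintype.ofFinite (GaloisField 2 4)
  have hF : Fintype.card (GaloisField 2 2) = 4 := card_galois (n := 2) two_ne_zero
  have hK : Fintype.card (GaloisField 2 4) = 16 := card_galois (n := 4) four_ne_zero
  have hI : Inv σ C := fun x hx => (hC _).2 (by rw [cm, (hC _).1 hx])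
  have ho : σ ^ (Fintype.card (GaloisField 2 2) - 1) = 1 := by rw [hF]; ext x; exact h3 x
  obtain ⟨l, ζ, c⟩ := exists_coord (ρ := σ) hF.ge (h4.trans hF.symm) h2 hI (fun x _ => by rw [ho]; rfl)
    (four_trans h4 hI h3 hw h1)
  have h : St α σ C l ζ := ⟨hQ, hF.ge, aa, cm, ho, hC, c⟩
  by_cases hO : ∀ x : Q, x * x = 1 → x ∈ C
  · have n0 : w ≠ 1 := fun e => h1 (by rw [e, map_one])
    have e : σ (σ w) = w * σ w := by
      rcases four_cases h4 hI h3 hw h1 (C.mul_mem hw (hI _ hw)) with e | e | e | e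
      · exact (h1 (mul_left_cancel (e.trans (h2 w hw).symm))).elim
      · exact (n0 (by simpa using e)).elim
      · exact (n0 (by simpa using e)).elim
      · exact e.symm
    have t : H41.Tri0 σ w := ⟨hQ, n0, h2 w hw, fun g => (h.central hw g).symm, h1, e,
      fun a ha => e ▸ four_cases h4 hI h3 hw h1 (hO a ha)⟩
    rcases t.homocyclic_or_u34 with ⟨τ, h', x, k, hx, hA⟩ | hU
    · obtain ⟨e⟩ := h'.A_equiv hx
      exact Or.inr (Or.inl ⟨k + 1, by omega, ⟨(Subgroup.topEquiv.symm.trans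
        ((MulEquiv.subgroupCongr hA.symm).trans e)).trans (MulEquiv.prodMultiplicative _ _)⟩⟩)
    · exact Or.inr (Or.inr (Or.inr ⟨_, inferInstance, inferInstance, hK, fun P => hU.equiv_sylow hK P⟩))
  rcases h.main rfl with ⟨-, h5⟩ | ⟨h5, h6⟩ | ⟨h5, -⟩
  · exact (hO h5).elim
  · push Not at hO
    obtain ⟨x, -, hx⟩ := hO
    have := (h.coord2 ⟨x, hx⟩).card_eq h.le2
    rw [(Subgroup.eq_top_iff' _).2 h6, Subgroup.card_top, h4, hF] at this
    exact Or.inl ⟨this, h5⟩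
  rcases h.classify h5 with ⟨⟨e⟩⟩ | h6
  · refine Or.inr (Or.inr (Or.inl ⟨_, inferInstance, inferInstance, hF, fun P => ?_⟩))
    obtain ⟨e'⟩ := unitri_equiv_sylow P
    exact ⟨e.trans e'⟩
  · rw [hF] at h6
    haveI : IsSq (GaloisField 2 4) 4 := ⟨hK⟩
    obtain ⟨e⟩ := h6 (GaloisField 2 4)
    refine Or.inr (Or.inr (Or.inr ⟨_, inferInstance, inferInstance, hK, fun P => ?_⟩))
    obtain ⟨e'⟩ := uq_equiv_sylow (by norm_num) P
    exact ⟨e.trans e'⟩

end H22.Sg
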