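import Cfsg.Agent.Lib.CH2.SgE
import Cfsg.Agent.Lib.TwoGrp.Three
import Cfsg.Agent.Lib.TwoGrp.ClassTwo
import Cfsg.Agent.Lib.FGS.SmallExp
import Cfsg.Agent.Lib.SL2.Cases

/-! Groups of order 64 with a fixed-point-free automorphism of order 3 inverted by an involution. -/

set_option autoImplicit false
set_option linter.style.haveILetI false
set_option linter.unusedSectionVars false

namespace H22.Sg

open H13.Hig H13.Suz Cfsg Subgroup
open scoped commutatorElement

theorem d8_or_q8 {G : Type*} [Group G] [Finite G] (h8 : Nat.card G = 8) {a b : G} (hab : a * b ≠ b * a) :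
    Nonempty (G ≃* DihedralGroup 4) ∨ Nonempty (G ≃* QuaternionGroup 2) := by
  haveI : Fact (Nat.Prime 2) := ⟨Nat.prime_two⟩
  have hG : IsPGroup 2 G := IsPGroup.of_card (n := 3) h8
  have n8 : ∀ g : G, ¬ 8 ∣ orderOf g := fun g hg => by
    haveI := isCyclic_of_orderOf_eq_card g (Nat.dvd_antisymm (orderOf_dvd_natCard g) (h8 ▸ hg))
    exact hab (IsCyclic.commGroup.mul_comm a b)
  have o4 : ∀ g : G, g * g ≠ 1 → orderOf g = 4 := fun g hg => by
    obtain ⟨k, hk, e⟩ := (Nat.dvd_prime_pow Nat.prime_two (m := 3)).1 (h8 ▸ orderOf_dvd_natCard g)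
    interval_cases k
    · exact (hg (by rw [orderOf_eq_one_iff.1 e, one_mul])).elim
    · exact (hg (by rw [← sq, ← pow_one 2, ← e, pow_orderOf_eq_one])).elim
    · exact e
    · exact (n8 g (by rw [e]; rfl)).elim
  obtain ⟨r, hr⟩ : ∃ r : G, r * r ≠ 1 := by
    by_contra! h
    exact hab (by rw [eq_inv_of_mul_eq_one_left (h (a * b)), mul_inv_rev,
      ← eq_inv_of_mul_eq_one_left (h a), ← eq_inv_of_mul_eq_one_left (h b)])
  have ho := o4 r hr
  have inv : ∀ s ∈ zpowers r, s * s = 1 → s = 1 ∨ s = r * r := by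
    rintro _ ⟨k, rfl⟩ hs
    have : (4 : ℤ) ∣ k + k := by
      rw [← zpow_add, ← orderOf_dvd_iff_zpow_eq_one, ho] at hs; exact hs
    obtain ⟨j, hj | hj⟩ : ∃ j, k = 4 * j ∨ k = 4 * j + 2 := ⟨k / 4, by omega⟩
    all_goals simp only [hj, zpow_add, zpow_mul, show r ^ (4 : ℤ) = 1 by
      rw [← orderOf_dvd_iff_zpow_eq_one, ho]; rfl, one_zpow, one_mul, zpow_two, true_or, or_true]
  by_cases hu : ∀ s : G, orderOf s = 2 → s = r * r
  · exact Or.inr ((H79.cyclic_four_or_quaternion hG (fun x y hx hy => (hu x hx).trans (hu y hy).symm)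
      ⟨r, ho.symm.dvd⟩ n8).resolve_left fun h => by omega)
  push Not at hu
  obtain ⟨s, s2, hs⟩ := hu
  have ss : s * s = 1 := by rw [← sq, ← s2, pow_orderOf_eq_one]
  have hsR : s ∉ zpowers r := fun h => (inv s h ss).elim (fun e => by simp [e] at s2) hs
  have hi : (zpowers r).index = 2 := by
    have := (zpowers r).card_mul_index
    rw [Nat.card_zpowers, ho, h8] at this; omega
  refine Or.inl (ho ▸ H29.dihedral_of_inverted (fun e => hr (by rw [e, one_mul])) hsR ss ?_ (by rw [ho, h8]))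
  by_contra h
  have h4 : s * r * (s * r) * (s * r * (s * r)) = 1 := by
    rw [← pow_orderOf_eq_one (s * r), o4 _ h]; simp [pow_succ, mul_assoc]
  have e := (inv _ (mul_self_mem_of_index_two hi _) h4).resolve_left h
  have c : Commute s r := by
    have : s * r * s = r := mul_right_cancel (b := r) (by rw [← e]; group)
    show s * r = r * s
    rw [← mul_one (s * r), ← ss, ← mul_assoc, this]
  have k : ∀ g : G, ∃ i : ℤ, g = r ^ i ∨ g = s * r ^ i := fun g => by
    by_cases hg : g ∈ zpowers r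
    · obtain ⟨i, rfl⟩ := hg; exact ⟨i, Or.inl rfl⟩
    · obtain ⟨i, hi⟩ := (mul_mem_iff_of_index_two hi).2 (iff_of_false hsR hg)
      exact ⟨i, Or.inr (by rw [show r ^ i = s * g from hi, ← mul_assoc, ss, one_mul])⟩
  obtain ⟨i, rfl | rfl⟩ := k a <;> obtain ⟨j, rfl | rfl⟩ := k b <;> apply hab
  · exact (Commute.refl r).zpow_zpow i j
  · exact ((c.symm.zpow_left i).mul_right ((Commute.refl r).zpow_zpow i j))
  · exact ((c.zpow_right j).mul_left ((Commute.refl r).zpow_zpow i j))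
  · exact ((Commute.refl s).mul_right (c.zpow_right j)).mul_left
      ((c.symm.zpow_left i).mul_right ((Commute.refl r).zpow_zpow i j))

variable {T : Type*} [Group T] [Finite T] {F : Type*} [Field F] [Fintype F] [CharP F 2]

theorem exists_bit {M : Subgroup T} (hsq : ∀ g, g * g ∈ M) {y : T} (hy : y ∉ M) :
    ∃ a : T → F, (∀ g h, a (g * h) = a g + a h) ∧ (∀ g, a g * a g = a g) ∧ (∀ g ∈ M, a g = 0) ∧ a y = 1 := by
  classical
  obtain ⟨N, h1, -, h2, h3⟩ := exists_index_two (X := ⊤) le_top (fun x _ => hsq x) trivial hy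
  refine ⟨fun g => if g ∈ N then 0 else 1, fun g h => ?_, fun g => by by_cases hg : g ∈ N <;> simp [hg],
    fun g hg => if_pos (h1 hg), if_neg h2⟩
  by_cases hg : g ∈ N <;> by_cases hh : h ∈ N
  · simp [hg, hh, N.mul_mem hg hh]
  · simp [hg, hh, N.mul_mem_cancel_left hg]
  · simp [hg, hh, N.mul_mem_cancel_right hh]
  · simp [hg, hh, h3 g trivial h trivial hg hh, CharTwo.add_self_eq_zero]

omit [Fintype F] [CharP F 2] in
theorem CE.card {W : Type*} [AddCommGroup W] {π : T → W} {ζ : T → F} (h : CE π ζ) :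
    Nat.card T = Nat.card F * Nat.card W := by
  let f : T →* Multiplicative W := MonoidHom.mk' (fun g => Multiplicative.ofAdd (π g))
    fun a b => congrArg _ (h.add a b)
  have h1 : Nat.card f.ker = Nat.card F := Nat.card_eq_of_bijective (fun g => ζ g)
    ⟨fun a b e => Subtype.ext (inv_mul_eq_one.1 (h.zinj _ (a⁻¹ * b).2 (by
      have := h.zadd a _ a.2 (a⁻¹ * b).2
      rwa [Subgroup.coe_mul, Subgroup.coe_inv, mul_inv_cancel_left, ← show ζ a = ζ b from e,
        left_eq_add] at this))), fun c => let ⟨x, h1, h2⟩ := h.zsurj c; ⟨⟨x, h1⟩, h2⟩⟩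
  rw [← f.ker.card_mul_index, h1, index_ker, (MonoidHom.range_eq_top (f := f)).2 fun w => h.surj w,
    card_top]
  rfl

theorem center_four (hT : Nat.card T = 64) (hna : ∃ a b : T, a * b ≠ b * a) {ρ : MulAut T}
    (h3 : ρ ^ 3 = 1) (hf : ∀ y, ρ y = y → y = 1) : Nat.card (center T) = 4 := by
  haveI : Fact (Nat.Prime 2) := ⟨Nat.prime_two⟩
  haveI : Fact (Nat.Prime 3) := ⟨Nat.prime_three⟩
  have hm : ∀ H : Subgroup T, Inv ρ H → Nat.card H = 1 ∨ Nat.card H = 4 ∨ Nat.card H = 16 ∨ H = ⊤ :=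
    fun H hH => by
      have h1 := H13.TG.ncard_modEq h3 (H : Set T) hH
      rw [show (H ∩ H5.fixedSub ρ : Set T) = {1} from Set.eq_singleton_iff_unique_mem.2
        ⟨⟨H.one_mem, map_one ρ⟩, fun x hx => hf x hx.2⟩, Set.ncard_singleton, ← Nat.card_coe_set_eq,
        SetLike.coe_sort_coe] at h1
      obtain ⟨k, hk, e⟩ := (Nat.dvd_prime_pow Nat.prime_two (m := 6)).1 (hT ▸ H.card_subgroup_dvd_card)
      rw [← card_eq_iff_eq_top, hT]
      rw [e] at h1 ⊢
      interval_cases k <;> first | omega | exact absurd h1 (by decide)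
  have c3 : ∀ y, ρ (ρ (ρ y)) = y := fun y => congrArg (fun β : MulAut T => β y) h3
  obtain ⟨a, b, hab⟩ := hna
  have ha : a ∉ center T := fun h => hab (mem_center_iff.1 h b).symm
  haveI : Nontrivial T := ⟨_, _, hab⟩
  rcases hm (center T) (fun x hx => mem_center_iff.2 fun g => by
    rw [← c3 g, ← map_mul, ← map_mul, mem_center_iff.1 hx]) with h | h | h | h
  · haveI := (IsPGroup.of_card (p := 2) (n := 6) hT).center_nontrivial
    exact absurd h Finite.one_lt_card.ne'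
  · exact h
  · exfalso
    have e1 := H79.mul_apply_apply_eq_one ρ h3 hf a
    have e2 := H79.mul_apply_apply_eq_one ρ h3 hf a⁻¹
    have c : a * ρ a = ρ a * a := by
      rw [map_inv, map_inv, ← mul_inv_rev, mul_inv_eq_one] at e2
      rw [eq_inv_of_mul_eq_one_left e1, ← e2, inv_inv]
    have lt : center T < centralizer {a, ρ a} := by
      refine (center_le_centralizer _).lt_of_ne fun e => ha (e ▸ ?_)
      rintro _ (rfl | rfl)
      exacts [rfl, c.symm]
    have h1 : Nat.card (center T) < Nat.card (centralizer ({a, ρ a} : Set T)) :=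
      (card_le_of_le lt.le).lt_of_ne fun e => lt.ne (eq_of_le_of_card_ge lt.le e.ge)
    rcases hm (centralizer {a, ρ a}) (fun g hg => by
      have g1 : Commute a g := hg a (Or.inl rfl)
      have g2 : Commute (ρ a) g := hg _ (Or.inr rfl)
      rintro _ (rfl | rfl)
      · have := ((g1.mul_left g2).inv_left.map ρ).eq
        rwa [← eq_inv_of_mul_eq_one_right e1, c3] at this
      · exact (g1.map ρ).eq) with h2 | h2 | h2 | h2
    · omega
    · omega
    · omega
    · exact hab ((h2 ▸ mem_top b : b ∈ centralizer {a, ρ a}) a (Or.inl rfl))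
  · exact (ha (h ▸ mem_top a)).elim

theorem main_s3 (hT : Nat.card T = 64) (hna : ∃ a b : T, a * b ≠ b * a) {ρ x : MulAut T}
    (h3 : ρ ^ 3 = 1) (hf : ∀ y, ρ y = y → y = 1) (xx : ∀ y, x (x y) = y)
    (xr : ∀ y, ρ (x y) = x (ρ (ρ y))) (hF : Fintype.card F = 4) {C : Subgroup T}
    (hC : ∀ y, y ∈ C ↔ x y = y) :
    Nonempty (T ≃* H10.unitriSL (Fin 3) F) ∧ Nat.card C = 8 ∧ ∃ a b : C, a * b ≠ b * a := by
  haveI : Fact (Nat.Prime 2) := ⟨Nat.prime_two⟩
  have two : (2 : F) = 0 := CharTwo.two_eq_zero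
  have c3 : ∀ y, ρ (ρ (ρ y)) = y := fun y => congrArg (fun β : MulAut T => β y) h3
  have e3 := H79.mul_apply_apply_eq_one ρ h3 hf
  have h4 := center_four hT hna h3 hf
  set Z := center T with hZ
  have zc : ∀ z ∈ Z, ∀ g, z * g = g * z := fun z hz g => (mem_center_iff.1 hz g).symm
  have iZ : ∀ β : MulAut T, Inv β Z := fun β y hy => mem_center_iff.2 fun g => by
    rw [← β.apply_symm_apply g, ← map_mul, ← map_mul, mem_center_iff.1 hy]
  obtain ⟨w, hw2⟩ := exists_prime_orderOf_dvd_card' (G := Z) 2 (by rw [h4]; norm_num)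
  have w1 : ρ w ≠ w := fun e => by simp [show w = 1 from Subtype.ext (hf _ e)] at hw2
  have ww : (w : T) * w = 1 := by rw [← coe_mul, ← sq, ← hw2, pow_orderOf_eq_one, coe_one]
  have z2 : ∀ z ∈ Z, z * z = 1 := fun z hz => by
    rcases four_cases h4 (iZ ρ) c3 w.2 w1 hz with rfl | rfl | rfl | rfl <;>
      simp only [← map_mul, ww, map_one, mul_one]
  obtain ⟨_, hcl⟩ := H79.class_le_two_of_fpf_three ρ h3 hf
  have cz : ∀ a b : T, ⁅a, b⁆ ∈ Z := H13.TG.commutator_mem_center_of_class hcl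
  have sz : ∀ a : T, a * a ∈ Z := fun a => mem_center_iff.2 fun g => by
    rw [eq_comm, ← commutatorElement_eq_one_iff_mul_comm, cm_mul_left,
      commutatorElement_eq_one_iff_mul_comm.2 (zc _ (cz _ _) a).symm, one_mul, z2 _ (cz _ _)]
  obtain ⟨l, ζ, c⟩ := exists_coord (F := F) (ρ := ρ) hF.ge (h4.trans hF.symm) z2 (iZ ρ)
    (fun y _ => by rw [hF]; exact c3 y) (four_trans h4 (iZ ρ) c3 w.2 w1)
  have l3 : l ^ 3 = 1 := by have := gen_pow c.gen; rwa [hF] at this
  have l1 : l * l + l + 1 = 0 :=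
    (mul_eq_zero.1 (show (l - 1) * (l * l + l + 1) = 0 by linear_combination l3)).resolve_left
      (sub_ne_zero.2 (c.gen.ne_one hF.ge))
  have hμ : Gen (l * l) := by
    have := c.gen.map (frobeniusEquiv F 2)
    rwa [frobeniusEquiv_apply, frobenius_def, sq] at this
  -- the elements fixed by `x` modulo the centre
  let M : Subgroup T :=
    { carrier := {y | y⁻¹ * x y ∈ Z}
      one_mem' := by simp
      mul_mem' := fun {a b} ha hb => show _ ∈ Z by
        rw [St.d_mul, ← zc _ ha, inv_mul_cancel_right]; exact Z.mul_mem ha hb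
      inv_mem' := fun {a} ha => show _ ∈ Z by
        have : a⁻¹⁻¹ * x a⁻¹ = a * (a⁻¹ * x a)⁻¹ * a⁻¹ := by rw [map_inv]; group
        rw [this]; exact (inferInstance : Z.Normal).conj_mem _ (Z.inv_mem ha) _ }
  have mM : ∀ y, y ∈ M ↔ y⁻¹ * x y ∈ Z := fun y => Iff.rfl
  have zM : Z ≤ M := fun y hy => Z.mul_mem (Z.inv_mem hy) (iZ x y hy)
  have dM : ∀ y, y⁻¹ * x y ∈ M := fun y => by
    rw [mM, map_mul, map_inv, xx, show (y⁻¹ * x y)⁻¹ * ((x y)⁻¹ * y) = (y⁻¹ * x y)⁻¹ * (y⁻¹ * x y)⁻¹ by group]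
    exact sz _
  have nM : ∀ y, y ∈ M → ρ y ∈ M → y ∈ Z := fun y h1 h2 => by
    have h5 : ρ (ρ y) ∈ M := by
      rw [eq_inv_of_mul_eq_one_right (e3 y)]; exact M.inv_mem (M.mul_mem h1 h2)
    have h6 := Z.mul_mem (iZ ρ _ h1) (Z.inv_mem h5)
    rw [map_mul, map_inv, xr, show (ρ y)⁻¹ * x (ρ (ρ y)) * ((ρ (ρ y))⁻¹ * x (ρ (ρ y)))⁻¹ =
      (ρ y)⁻¹ * ρ (ρ y) by group] at h6
    have h7 := iZ ρ _ (iZ ρ _ h6)
    have h8 := iZ ρ _ h6
    simp only [map_mul, map_inv, c3] at h7 h8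
    have := Z.mul_mem (Z.mul_mem (Z.inv_mem h7) (Z.inv_mem (sz y))) h8
    rwa [← eq_inv_of_mul_eq_one_left (e3 y), show (y⁻¹ * ρ y)⁻¹ * (y * y)⁻¹ * (y * ρ y * y) = y by group]
      at this
  have eig : ∀ y, y ∉ M → ∃ a : T → F, (∀ g h, a (g * h) = a g + a h) ∧ (∀ g, a (ρ g) = l * l * a g) ∧
      (∀ g, a (x g) = a g * a g) ∧ (∀ g ∈ Z, a g = 0) ∧ a y ≠ 0 := fun y hy => by
    obtain ⟨a, a1, a2, a3, a4⟩ := exists_bit (F := F) (fun g => zM (sz g)) hy
    have a5 : ∀ g, a (x g) = a g := fun g => by rw [← mul_inv_cancel_left g (x g), a1, a3 _ (dM g), add_zero]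
    have a6 : ∀ g, a (ρ (ρ g)) = a g + a (ρ g) := fun g => by
      have := congrArg a (e3 g)
      rw [a1, a1, a3 _ M.one_mem] at this
      grind
    refine ⟨fun g => a (ρ g) + l * a g, fun g h => by simp only [map_mul, a1]; ring, fun g => ?_, fun g => ?_,
      fun g hg => by simp only [a3 _ (zM hg), a3 _ (zM (iZ ρ g hg))]; ring, fun e => ?_⟩
    · simp only [a6]; grind
    · simp only [xr, a5, a6]
      have := a2 g
      have := a2 (ρ g)
      grind
    · simp only [a4] at e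
      have := a2 (ρ y)
      grind
  obtain ⟨y, hy⟩ : ∃ y, y ∉ M := by
    by_contra! h
    obtain ⟨a, b, hab⟩ := hna
    exact hab (zc a (nM a (h _) (h _)) b)
  obtain ⟨b, b1, b2, b3, b4, b5⟩ := eig y hy
  have bs := surj_of_gen inv_top (fun g _ h _ => b1 g h) (fun g _ => b2 g) hμ (x₀ := y) trivial b5
  let K := addKer ⊤ b fun g _ h _ => b1 g h
  have iK : Inv ρ K := fun g hg => ⟨trivial, by rw [b2, hg.2, mul_zero]⟩
  have cK : Nat.card K = 16 := by
    have := card_eq_of_add (fun g _ h _ => b1 g h) bs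
    rw [card_top, hT, hF] at this
    change 64 = Nat.card K * 4 at this
    omega
  obtain ⟨y', hy'K, hy'⟩ : ∃ y ∈ K, y ∉ M := by
    by_contra! h
    have := card_le_of_le (show K ≤ Z from fun g hg => nM g (h g hg) (h _ (iK g hg)))
    omega
  obtain ⟨a, a1, a2, a3, a4, a5⟩ := eig y' hy'
  have as := surj_of_gen iK (fun g _ h _ => a1 g h) (fun g _ => a2 g) hμ hy'K a5
  have p0 : ∀ z, (a z, b z) = 0 ↔ z ∈ Z := by
    let K' := addKer K a fun g _ h _ => a1 g h
    have := card_eq_of_add (fun g _ h _ => a1 g h) as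
    rw [cK, hF] at this
    change 16 = Nat.card K' * 4 at this
    have e : Z = K' := eq_of_le_of_card_ge (fun z hz => ⟨⟨trivial, b4 z hz⟩, a4 z hz⟩) (by omega)
    exact fun z => ⟨fun h => e ▸ ⟨⟨trivial, congrArg Prod.snd h⟩, congrArg Prod.fst h⟩,
      fun h => Prod.ext (a4 z h) (b4 z h)⟩
  have ce : CE (fun g => (a g, b g)) ζ := by
    refine ⟨fun g h => Prod.ext (a1 g h) (b1 g h), fun u => ?_,
      fun g h hg hh => c.add _ ((p0 _).1 hg) _ ((p0 _).1 hh),
      fun g hg e => mem_bot.1 ((c.ker _ ((p0 _).1 hg)).1 e), fun t => ?_⟩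
    · obtain ⟨g, -, e⟩ := bs u.2
      obtain ⟨h, hh, e'⟩ := as (u.1 + a g)
      exact ⟨h * g, Prod.ext (by simp only [a1, e']; grind) (by simp only [b1, hh.2, e, zero_add])⟩
    · obtain ⟨g, hg, e⟩ := c.surj t
      exact ⟨g, (p0 _).2 hg, e⟩
  obtain ⟨A, B, D, f1, f2⟩ := ce.exists_form (fun z hz => zc z ((p0 z).1 hz)) hμ
    (fun g => Prod.ext (a2 g) (b2 g)) fun z hz => by rw [c.eqv _ ((p0 z).1 hz)]; grind
  simp only at f1 f2
  have zi : ∀ u ∈ Z, ∀ v ∈ Z, ζ u = ζ v → u = v := fun u hu v hv e =>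
    inv_mul_eq_one.1 (mem_bot.1 (c.mem_of_eq hu hv e))
  have hB : B ≠ 0 := fun e => by
    obtain ⟨g, h, hgh⟩ := hna
    exact hgh (commutatorElement_eq_one_iff_mul_comm.1 (zi _ (cz _ _) _ Z.one_mem
      (by rw [f2, e, zero_mul, c.one])))
  have ai : ∀ g, a g⁻¹ = a g := fun g => (congrArg Prod.fst (ce.inv g)).trans (CharTwo.neg_eq _)
  have bi : ∀ g, b g⁻¹ = b g := fun g => (congrArg Prod.snd (ce.inv g)).trans (CharTwo.neg_eq _)
  have fm : ∀ g, a g * a g = a g → b g * b g = b g → g⁻¹ * x g ∈ Z := fun g h1 h2 =>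
    (p0 _).1 (Prod.ext (by simp only [a1, ai, a3, h1]; exact CharTwo.add_self_eq_zero _)
      (by simp only [b1, bi, b3, h2]; exact CharTwo.add_self_eq_zero _))
  obtain ⟨y₁, e1⟩ := ce.surj (1, 0)
  obtain ⟨y₂, e2⟩ := ce.surj (0, 1)
  obtain ⟨u1, v1⟩ := Prod.ext_iff.1 e1
  obtain ⟨u2, v2⟩ := Prod.ext_iff.1 e2
  simp only at u1 v1 u2 v2
  have zB : ζ ⁅y₁, y₂⁆ = B := by rw [f2, u1, v1, u2, v2]; ring
  have zx : x ⁅y₁, y₂⁆ = ⁅y₁, y₂⁆ := zi _ (iZ x _ (cz _ _)) _ (cz _ _) (by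
    rw [map_commutatorElement, f2, zB, a3, a3, b3, b3, u1, v1, u2, v2]; ring)
  have zm := cz y₁ y₂
  generalize ⁅y₁, y₂⁆ = z at zB zx zm
  have z1 : z ≠ 1 := fun e => hB (by rw [← zB, e, c.one])
  have r1 : ρ z ≠ z := fun e => z1 (hf _ e)
  have r2 : x (ρ (ρ z)) ≠ ρ (ρ z) := fun e => by
    rw [← xr, zx] at e
    exact r1 (ρ.injective e).symm
  have fz : ∀ v ∈ Z, x v = v → v = 1 ∨ v = z := fun v hv e => by
    rcases four_cases h4 (iZ ρ) c3 zm r1 hv with h | h | rfl | rfl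
    exacts [Or.inl h, Or.inr h, (r1 (ρ.injective (by rw [← e, ← xx (ρ (x (ρ z))), e, ← xr, zx, e]))).elim,
      (r2 e).elim]
  have fd : ∀ v : T, v⁻¹ * x v ∈ Z → v⁻¹ * x v = 1 ∨ v⁻¹ * x v = z := fun v hv => fz _ hv (by
    rw [map_mul, map_inv, xx, eq_inv_of_mul_eq_one_left (z2 _ hv)]; group)
  have lift : ∀ g, g⁻¹ * x g ∈ Z → ∃ g' ∈ C, a g' = a g ∧ b g' = b g := fun g hg => by
    rcases fd g hg with h | h
    · exact ⟨g, (hC g).2 (inv_mul_eq_one.1 h).symm, rfl, rfl⟩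
    have hv := iZ ρ _ (iZ ρ _ zm)
    have h' := (fd _ (zM hv)).resolve_left fun e => r2 (inv_mul_eq_one.1 e).symm
    refine ⟨g * ρ (ρ z), (hC _).2 (inv_mul_eq_one.1 ?_).symm, by rw [a1, a4 _ hv, add_zero],
      by rw [b1, b4 _ hv, add_zero]⟩
    rw [St.d_mul, h, h', ← zc _ zm (ρ (ρ z))⁻¹, inv_mul_cancel_right, z2 _ zm]
  obtain ⟨g₁, m1, s1, t1⟩ := lift y₁ (fm _ (by rw [u1, mul_one]) (by rw [v1, mul_zero]))
  obtain ⟨g₂, m2, s2, t2⟩ := lift y₂ (fm _ (by rw [u2, mul_zero]) (by rw [v2, mul_one]))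
  rw [u1] at s1; rw [v1] at t1; rw [u2] at s2; rw [v2] at t2
  have sq : ∀ g ∈ C, ζ (g * g) = 0 ∨ ζ (g * g) = B := fun g hg =>
    (fz _ (sz g) (by rw [map_mul, (hC g).1 hg])).imp (fun e => by rw [e, c.one]) fun e => by rw [e, zB]
  refine ⟨?_, ?_, ⟨g₁, m1⟩, ⟨g₂, m2⟩, fun e => hB ?_⟩
  · have q1 := sq _ m1
    have q2 := sq _ m2
    rw [f1, s1, t1] at q1
    rw [f1, s2, t2] at q2
    rcases q1 with q1 | q1
    · exact ce.iso_L f1 hB (u := (1, 0)) (by simp) (by simpa using q1)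
    rcases q2 with q2 | q2
    · exact ce.iso_L f1 hB (u := (0, 1)) (by simp) (by simpa using q2)
    · exact ce.iso_L f1 hB (u := (1, l)) (by simp) (by
      simp only; linear_combination q1 + l ^ 2 * q2 + B * l1)
  · have zC : z ∈ C := (hC z).2 zx
    have az := a4 z zm
    have bz := b4 z zm
    have a0 := a4 1 Z.one_mem
    have b0 := b4 1 Z.one_mem
    let f : Bool × Bool × Bool → C := fun p =>
      (bif p.1 then ⟨g₁, m1⟩ else 1) * (bif p.2.1 then ⟨g₂, m2⟩ else 1) * (bif p.2.2 then ⟨z, zC⟩ else 1)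
    have fa : ∀ p, a (f p) = bif p.1 then 1 else 0 := by
      rintro ⟨_ | _, _ | _, _ | _⟩ <;> simp [f, a1, *]
    have fb : ∀ p, b (f p) = bif p.2.1 then 1 else 0 := by
      rintro ⟨_ | _, _ | _, _ | _⟩ <;> simp [f, b1, *]
    rw [← Nat.card_eq_of_bijective f ⟨?_, fun g => ?_⟩]
    · simp
    · rintro ⟨i, j, k⟩ ⟨i', j', k'⟩ e
      have h1 := fa (i, j, k)
      have h2 := fb (i, j, k)
      rw [e, fa] at h1
      rw [e, fb] at h2
      obtain rfl : i = i' := by revert h1; cases i <;> cases i' <;> simp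
      obtain rfl : j = j' := by revert h2; cases j <;> cases j' <;> simp
      have h3 := congrArg Subtype.val (mul_left_cancel e)
      obtain rfl : k = k' := by revert h3; cases k <;> cases k' <;> simp [z1, z1.symm]
      rfl
    · have h1 := a3 g
      have h2 := b3 g
      rw [(hC g).1 g.2] at h1 h2
      obtain ⟨i, hi⟩ : ∃ i, a g = bif i then 1 else 0 :=
        (eq_or_ne (a g) 0).elim (fun e => ⟨false, e⟩) fun e => ⟨true, (mul_eq_left₀ e).1 h1.symm⟩
      obtain ⟨j, hj⟩ : ∃ j, b g = bif j then 1 else 0 :=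
        (eq_or_ne (b g) 0).elim (fun e => ⟨false, e⟩) fun e => ⟨true, (mul_eq_left₀ e).1 h2.symm⟩
      have h5 : ((f (i, j, false))⁻¹ * g : C).1 ∈ Z := (p0 _).1 (Prod.ext
        (by simp only [coe_mul, coe_inv, a1, ai, fa, hi]; exact CharTwo.add_self_eq_zero _)
        (by simp only [coe_mul, coe_inv, b1, bi, fb, hj]; exact CharTwo.add_self_eq_zero _))
      rcases fz _ h5 ((hC _).1 ((f (i, j, false))⁻¹ * g : C).2) with h | h
      · exact ⟨_, inv_mul_eq_one.1 (Subtype.ext h)⟩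
      · refine ⟨(i, j, true), ?_⟩
        rw [← mul_inv_cancel_left (f (i, j, false)) g, show (f (i, j, false))⁻¹ * g = ⟨z, zC⟩ from
          Subtype.ext h]
        simp [f]
  · have := f2 g₁ g₂
    rw [commutatorElement_eq_one_iff_mul_comm.2 (congrArg Subtype.val e), c.one, s1, s2, t1, t2] at this
    simpa using this.symm

end H22.Sg
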