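import Mathlib
import Cfsg.Agent.Base
import Cfsg.Agent.Lib.TwoGrp.AutSylU
import Cfsg.Agent.Lib.AutCl.ClSU

/-! The centraliser of an involution of `PGU₃(q)`, `q` even (helper22). -/

set_option autoImplicit false
set_option linter.unusedSectionVars false
set_option linter.unusedVariables false

namespace H22.U3

open Subgroup Cfsg H11.U H72 Matrix

variable {F : Type*} [Field F] [Fintype F] {q : ℕ} [IsSq F q] [CharP F 2]

variable (F q) in
def gu : UQ F q →* GU 3 F q := (suToGU 3 F q).comp (UQ.toSU F q)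

theorem gu_val (a : UQ F q) : (gu F q a).1.1 = a.mat := rfl

variable (F q) in
def z0 : UQ F q := ⟨0, 1, by simpa using CharTwo.add_self_eq_zero (1 : F)⟩

theorem isIso_dg {m e : F} (h1 : m * cj q m = 1) (h2 : e * cj q e = 1) : IsIso q (diagonal ![m, m, e]) := by
  rw [isIso_iff]
  ext i j
  fin_cases i <;> fin_cases j <;> simp [Matrix.mul_apply, h1, h2, diagonal]

theorem gu_ext' {g h : GU 3 F q} (e : g.1.1 = h.1.1) : g = h := Subtype.ext (Units.ext e)

theorem dg_mul {m e : F} (h1 : m * cj q m = 1) (h2 : e * cj q e = 1) (u : UQ F q) :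
    ∃ u' : UQ F q, toGU _ (isIso_dg h1 h2) * gu F q u = gu F q u' * toGU _ (isIso_dg h1 h2) ∧
      u'.X = e * cj q m * u.X ∧ u'.Y = u.Y := by
  refine ⟨⟨e * cj q m * u.X, u.Y, by
    simp only [map_mul, cj_cj]
    linear_combination u.h - (m * cj q m * (u.X * cj q u.X)) * h2 - u.X * cj q u.X * h1⟩, gu_ext' ?_, rfl, rfl⟩
  show diagonal ![m, m, e] * u.mat = UQ.mat _ * diagonal ![m, m, e]
  ext i j
  fin_cases i <;> fin_cases j <;> simp [UQ.mat, cj_cj] <;> grind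

theorem exists_dg {g : GU 3 F q} (h : g * gu F q (z0 F q) = gu F q (z0 F q) * g) :
    ∃ (m e : F) (h1 : m * cj q m = 1) (h2 : e * cj q e = 1) (u : UQ F q), g = toGU _ (isIso_dg h1 h2) * gu F q u := by
  have c2 : (2 : F) = 0 := CharTwo.two_eq_zero
  have e1 : g.1.1 * (z0 F q).mat = (z0 F q).mat * g.1.1 := congrArg (fun x : GU 3 F q => x.1.1) h
  have e2 := isIso_iff.1 (mem_GU.1 g.2)
  generalize hA : g.1.1 = A at e1 e2
  have a := fun i j => congrFun (congrFun e1 i) j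
  have b := fun i j => congrFun (congrFun e2 i) j
  have a00 := a 0 0
  have a01 := a 0 1
  have a02 := a 0 2
  have a20 := a 2 0
  have b00 := b 0 0
  have b01 := b 0 1
  have b20 := b 2 0
  have b22 := b 2 2
  simp [UQ.mat, z0, Matrix.mul_apply, Fin.sum_univ_three, CharTwo.add_self_eq_zero] at a00 a01 a02 a20 b00 b01 b20 b22
  simp only [← a00, ← a01, a20, ← a02] at b00 b01 b20 b22
  have h1 : (A 0 0 + A 0 1) * cj q (A 0 0 + A 0 1) = 1 := by rw [map_add]; grind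
  have h2 : A 2 2 * cj q (A 2 2) = 1 := by grind
  have h3 : A 0 2 * cj q (A 0 0 + A 0 1) = A 2 2 * cj q (A 2 0) := by rw [map_add]; grind
  refine ⟨A 0 0 + A 0 1, A 2 2, h1, h2, ⟨A 2 0 * cj q (A 2 2), A 0 1 * cj q (A 0 0 + A 0 1), by
    simp only [map_mul, cj_cj, map_add]; grind⟩, gu_ext' ?_⟩
  show g.1.1 = diagonal ![A 0 0 + A 0 1, A 0 0 + A 0 1, A 2 2] * UQ.mat _
  rw [hA]
  rw [map_add] at h1 h3
  ext i j
  fin_cases i <;> fin_cases j <;> simp [UQ.mat, cj_cj] <;> grind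

theorem comm_of_center {g : GU 3 F q} {u : UQ F q}
    (h : g * gu F q u * g⁻¹ * (gu F q u)⁻¹ ∈ center (GU 3 F q)) : g * gu F q u = gu F q u * g := by
  obtain ⟨c, hc⟩ := (mem_center_GU_iff (by norm_num)).1 h
  have h1 : gu F q u ^ 4 = 1 := by
    rw [← map_pow, show u ^ 4 = 1 by rw [← u.four]; simp [pow_succ, mul_assoc], map_one]
  have h2 := (show Commute _ (gu F q u) from (mem_center_iff.1 h _).symm).mul_pow 4
  rw [inv_mul_cancel_right, conj_pow, h1, mul_one, mul_inv_cancel, mul_one, eq_comm] at h2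
  have h3 := congrFun (congrFun (congrArg (fun x : GU 3 F q => x.1.1) h2) 0) 0
  simp only [SubgroupClass.coe_pow, Units.val_pow_eq_pow_val, hc, smul_pow, one_pow] at h3
  have h4 : c = 1 := H13.TG.AS.eq_one_of_pow (k := 2) (by simpa using h3)
  rw [← mul_inv_eq_iff_eq_mul, ← mul_inv_eq_one]
  exact gu_ext' (by rw [hc, h4, one_smul]; rfl)

/-- The structure of the centraliser of an involution of `PGU₃(q)`. -/
structure CU {G : Type*} [Group G] (C : Subgroup G) (ψ : UQ F q →* G) : Prop where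
  inj : Function.Injective ψ
  le : ∀ u, ψ u ∈ C
  act : ∀ g ∈ C, ∃ d : F, (d = 1 → g ∈ ψ.range) ∧
    ∀ u, ∃ u', g * ψ u * g⁻¹ = ψ u' ∧ u'.X = d * u.X ∧ (u.X = 0 → u' = u)

theorem gu_act {g : GU 3 F q} (h : g * gu F q (z0 F q) = gu F q (z0 F q) * g) :
    ∃ d : F, (d = 1 → ∃ c ∈ center (GU 3 F q), ∃ u, g = c * gu F q u) ∧
      ∀ u, ∃ u', g * gu F q u * g⁻¹ = gu F q u' ∧ u'.X = d * u.X ∧ (u.X = 0 → u' = u) := by
  obtain ⟨m, e, h1, h2, w, rfl⟩ := exists_dg h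
  refine ⟨e * cj q m, fun hd => ⟨_, (mem_center_GU_iff (by norm_num)).2 ⟨m, ?_⟩, w, rfl⟩, fun u => ?_⟩
  · obtain rfl : e = m := by linear_combination m * hd - e * h1
    rw [toGU_val]
    ext i j
    fin_cases i <;> fin_cases j <;> simp
  · obtain ⟨u', h3, h4, h5⟩ := dg_mul h1 h2 (w * u * w⁻¹)
    refine ⟨u', ?_, by rw [h4, (H13.TG.AS.sc_UQ F q).conj], fun h0 => ?_⟩
    · rw [← mul_inv_eq_iff_eq_mul, map_mul, map_mul, map_inv] at h3
      rw [← h3]; group
    · rw [← UQ.comm_of_X h0, mul_inv_cancel_right] at h4 h5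
      exact UQ.ext (by rw [h4, h0, mul_zero]) h5

theorem eq_one_of_center {u : UQ F q} (h : gu F q u ∈ center (GU 3 F q)) : u = 1 := by
  obtain ⟨c, hc⟩ := (mem_center_GU_iff (by norm_num)).1 h
  rw [gu_val] at hc
  have h2 := congrFun (congrFun hc 2) 0
  have h3 := congrFun (congrFun hc 0) 1
  simp [UQ.mat] at h2 h3
  exact UQ.ext h2 h3

theorem z0_sq : z0 F q * z0 F q = 1 := UQ.mul_self_eq_one_iff.2 rfl

theorem z0_ne : z0 F q ≠ 1 := fun h => one_ne_zero (congrArg UQ.Y h)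

theorem cu_of {X : Type*} [Group X] (π : GU 3 F q →* X) (hk : ∀ g, π g = 1 ↔ g ∈ center (GU 3 F q)) :
    CU (π.range ⊓ centralizer {π (gu F q (z0 F q))}) (π.comp (gu F q)) where
  inj := (injective_iff_map_eq_one _).2 fun u h => eq_one_of_center ((hk _).1 h)
  le u := mem_inf.2 ⟨⟨_, rfl⟩, mem_centralizer_singleton_iff.2 (by
    rw [MonoidHom.comp_apply, ← map_mul, ← map_mul, ← map_mul, ← map_mul, UQ.comm_of_X (a := z0 F q) rfl])⟩
  act x hx := by
    obtain ⟨⟨g, rfl⟩, h⟩ := mem_inf.1 hx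
    obtain ⟨d, h1, h2⟩ := gu_act (g := g) (comm_of_center ((hk _).1 (by
      rw [map_mul, map_mul, map_mul, map_inv, map_inv, mem_centralizer_singleton_iff.1 h]; group)))
    refine ⟨d, fun e => ?_, fun u => ?_⟩
    · obtain ⟨c, hc, u, rfl⟩ := h1 e
      exact ⟨u, by rw [map_mul, (hk c).2 hc, one_mul]; rfl⟩
    · obtain ⟨u', h3, h4⟩ := h2 u
      exact ⟨u', by rw [MonoidHom.comp_apply, MonoidHom.comp_apply, ← h3, map_mul, map_mul, map_inv], h4⟩

namespace CU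

variable {G : Type*} [Group G] {C : Subgroup G} {ψ : UQ F q →* G} (h : CU C ψ)
include h

theorem of_equiv {G' : Type*} [Group G'] {C' : Subgroup G'} (e : C' ≃* C) : ∃ ψ' : UQ F q →* G', CU C' ψ' := by
  refine ⟨C'.subtype.comp (e.symm.toMonoidHom.comp (ψ.codRestrict C h.le)),
    C'.subtype_injective.comp (e.symm.injective.comp fun a b e => h.inj (congrArg Subtype.val e)),
    fun u => Subtype.coe_prop _, fun g hg => ?_⟩
  obtain ⟨d, h1, h2⟩ := h.act _ (e ⟨g, hg⟩).2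
  refine ⟨d, fun e1 => ?_, fun u => ?_⟩
  · obtain ⟨u, hu⟩ := h1 e1
    have : e.symm ⟨ψ u, h.le u⟩ = ⟨g, hg⟩ := e.symm_apply_eq.2 (Subtype.ext hu)
    exact ⟨u, congrArg Subtype.val this⟩
  · obtain ⟨u', h3, h4⟩ := h2 u
    refine ⟨u', ?_, h4⟩
    have : ⟨g, hg⟩ * e.symm ⟨ψ u, h.le u⟩ * (⟨g, hg⟩ : C')⁻¹ = e.symm ⟨ψ u', h.le u'⟩ := by
      rw [e.eq_symm_apply, map_mul, map_mul, map_inv, e.apply_symm_apply]
      exact Subtype.ext h3
    exact congrArg Subtype.val this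

theorem mem_of_fix {g : G} (hg : g ∈ C) {k : ℕ} (hk : ∀ u, g ^ 2 ^ k * ψ u = ψ u * g ^ 2 ^ k) : g ∈ ψ.range := by
  obtain ⟨d, h1, h2⟩ := h.act g hg
  have h3 : ∀ n : ℕ, ∀ u, ∃ u', g ^ n * ψ u * (g ^ n)⁻¹ = ψ u' ∧ u'.X = d ^ n * u.X := fun n u => by
    induction n with
    | zero => exact ⟨u, by simp, by simp⟩
    | succ n ih =>
      obtain ⟨u', e1, e2⟩ := ih
      obtain ⟨u'', e3, e4, -⟩ := h2 u'
      exact ⟨u'', by rw [← e3, ← e1, pow_succ']; group, by rw [e4, e2]; ring⟩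
  obtain ⟨u, hu⟩ := H55.SylT.exists_X (q := q) (1 : F)
  obtain ⟨u', e1, e2⟩ := h3 (2 ^ k) u
  rw [hk, mul_inv_cancel_right] at e1
  rw [← h.inj e1, hu, mul_one] at e2
  exact h1 (H13.TG.AS.eq_one_of_pow e2.symm)

theorem mem_of_pow {g : G} (hg : g ∈ C) {k : ℕ} (hk : g ^ 2 ^ k = 1) : g ∈ ψ.range :=
  h.mem_of_fix hg (k := k) fun u => by rw [hk, one_mul, mul_one]

theorem comm {g t : G} (hg : g ∈ C) (ht : t ∈ C) (h2 : t * t = 1) : g * t = t * g := by
  obtain ⟨u, rfl⟩ := h.mem_of_pow ht (k := 1) (by rw [pow_one, pow_two, h2])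
  obtain ⟨d, -, h1⟩ := h.act g hg
  obtain ⟨u', e1, -, e2⟩ := h1 u
  rw [e2 (UQ.mul_self_eq_one_iff.1 (h.inj (by rw [map_mul, h2, map_one])))] at e1
  exact mul_inv_eq_iff_eq_mul.1 e1

theorem conj_mem {g x : G} (hg : g ∈ C) (hx : x ∈ ψ.range) : g * x * g⁻¹ ∈ ψ.range := by
  obtain ⟨u, rfl⟩ := hx
  obtain ⟨d, -, h1⟩ := h.act g hg
  obtain ⟨u', e1, -⟩ := h1 u
  exact ⟨u', e1.symm⟩

theorem isP : IsPGroup 2 ψ.range := UQ.isPGroup.of_surjective _ ψ.rangeRestrict_surjective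

theorem card : Nat.card ψ.range = q ^ 3 := by
  rw [← Nat.card_congr (MonoidHom.ofInjective h.inj).toEquiv, H55.SylT.card_UQ]

end CU

/-! ### automorphisms of `PSU₃(q)` -/

open H67

theorem psuInn_eq_one {g : GU 3 F q} : psuInn 3 F q g = 1 ↔ g ∈ center (GU 3 F q) := by
  refine ⟨fun h => mem_center_iff.2 fun x => Subtype.ext (mem_center_iff.1 ((psuInn_eq_one_iff le_rfl).1 h) x),
    fun h => MulEquiv.ext fun x => ?_⟩
  obtain ⟨s, rfl⟩ := QuotientGroup.mk_surjective x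
  exact indAut_mk suJ_inj _ (mul_inv_eq_iff_eq_mul.2
    (congrArg Subtype.val (mem_center_iff.1 h (suToGU 3 F q s))).symm).symm

theorem psuInn_gu (u : UQ F q) : psuInn 3 F q (gu F q u) = MulAut.conj (UQ.toPSU F q u) :=
  innHom_j suJ_inj (UQ.toSU F q u) (gu F q u).2

def fld (α : RingAut F) (u : UQ F q) : UQ F q := ⟨α u.X, α u.Y, by
  rw [cj_ringAut, cj_ringAut, ← map_add, ← map_mul, u.h]⟩

theorem psuField_toPSU (α : RingAut F) (u : UQ F q) :
    psuField 3 F q α (UQ.toPSU F q u) = UQ.toPSU F q (fld α u) := by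
  refine indAut_mk suJ_inj _ (Units.ext ?_)
  show (fld α u).mat = u.mat.map α
  ext i j
  fin_cases i <;> fin_cases j <;> simp [UQ.mat, fld, cj_ringAut]

theorem sq_eq_one_of_fix {α : RingAut F} (h : ∀ y : F, cj q y = y → α y = y) : α * α = 1 := RingEquiv.ext fun x => by
  have h1 := h _ (cj_trace x)
  have h2 := h _ (cj_norm x)
  rw [map_add] at h1
  rw [map_mul] at h2
  have : (α x - x) * (α x - cj q x) = 0 := by linear_combination α x * h1 - h2
  show α (α x) = x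
  rcases mul_eq_zero.1 this with e | e
  · rw [sub_eq_zero.1 e, sub_eq_zero.1 e]
  · rw [sub_eq_zero.1 e, ← cj_ringAut, sub_eq_zero.1 e, cj_cj]

theorem conj_conj {L : Type*} [Group L] (β : MulAut L) (x : L) : β * MulAut.conj x * β⁻¹ = MulAut.conj (β x) :=
  MulEquiv.ext fun y => by simp

/-- an automorphism centralising `Z(Q)` is inner-diagonal up to the graph automorphism -/
theorem sq_mem (hq : q ≠ 2) {β : MulAut (PSU 3 F q)}
    (h : ∀ u : UQ F q, u.X = 0 → β (UQ.toPSU F q u) = UQ.toPSU F q u) : β * β ∈ (psuInn 3 F q).range := by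
  have := normal_range_psuInn (F := F) (q := q) le_rfl (fun h => hq h.2)
  obtain ⟨g, α, rfl⟩ := psu_aut le_rfl (fun h => hq h.2) β
  have c := cu_of (psuInn 3 F q) fun g => psuInn_eq_one
  have h1 : ∀ u : UQ F q, u.X = 0 → psuInn 3 F q g * psuInn 3 F q (gu F q (fld α u)) * (psuInn 3 F q g)⁻¹ =
      psuInn 3 F q (gu F q u) := fun u hu => by
    rw [psuInn_gu, psuInn_gu, conj_conj, ← psuField_toPSU, ← MulAut.mul_apply, h u hu]
  obtain ⟨d, -, h2⟩ := c.act _ (mem_inf.2 ⟨⟨g, rfl⟩, mem_centralizer_singleton_iff.2 (by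
    have := h1 (z0 F q) rfl
    rwa [show fld α (z0 F q) = z0 F q from UQ.ext (map_zero α) (map_one α), mul_inv_eq_iff_eq_mul] at this)⟩)
  have h3 : α * α = 1 := sq_eq_one_of_fix (q := q) fun y hy => by
    let u : UQ F q := ⟨0, y, by rw [hy, zero_mul, CharTwo.add_self_eq_zero]⟩
    obtain ⟨u', e1, -, e2⟩ := h2 (fld α u)
    rw [e2 (map_zero α)] at e1
    exact congrArg UQ.Y (c.inj (e1.symm.trans (h1 u rfl)))
  have h4 := mul_mem (show psuInn 3 F q g ∈ (psuInn 3 F q).range from ⟨g, rfl⟩) (this.conj_mem _ ⟨g, rfl⟩ (psuField 3 F q α))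
  rw [inv_eq_of_mul_eq_one_right (show psuField 3 F q α * psuField 3 F q α = 1 by rw [← map_mul, h3, map_one])] at h4
  simpa only [mul_assoc] using h4

end H22.U3
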