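import Cfsg.Agent.Lib.CH2.SgF
import Cfsg.Agent.Lib.CH2.U3A

/-! The group of order 320 with derived subgroup of order 64. -/

set_option autoImplicit false
set_option linter.style.haveILetI false
set_option linter.unusedSectionVars false

namespace H22.Sg

open H13.Hig H13.Suz Cfsg Subgroup H11.U H72
open scoped commutatorElement

theorem exists_lift {G H : Type*} [Group G] [Finite G] [Group H] {T : Subgroup G} [T.Normal] {g : G}
    (hc : T.IsComplement' (zpowers g)) (f : T →* H) {h : H} (ho : orderOf h ∣ orderOf g)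
    (hf : ∀ t : T, f (MulAut.conjNormal g t) = h * f t * h⁻¹) :
    ∃ φ : G →* H, (∀ t : T, φ t = f t) ∧ φ g = h := by
  let g' : zpowers g := ⟨g, mem_zpowers g⟩
  have hg : ∀ x : zpowers g, x ∈ zpowers g' := fun ⟨_, k, rfl⟩ => ⟨k, rfl⟩
  have ho' : orderOf h ∣ orderOf g' := by rwa [← orderOf_coe]
  have h1 := monoidHomOfForallMemZpowers_apply_gen hg ho'
  set fg := monoidHomOfForallMemZpowers hg ho'
  let e := SemidirectProduct.mulEquivSubgroup hc
  have hk : ∀ (k : ℕ) (t : T), f (MulAut.conjNormal (g ^ k) t) = h ^ k * f t * (h ^ k)⁻¹ := fun k t => by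
    induction k with
    | zero => simp
    | succ k ih => rw [pow_succ', map_mul, MulAut.mul_apply, hf, ih, pow_succ']; group
  let L := SemidirectProduct.lift (φ := (T.normalizerMonoidHom).comp
    (inclusion (T.normalizer_eq_top ▸ le_top : zpowers g ≤ _))) f fg fun x => by
      obtain ⟨k, rfl⟩ := mem_powers_iff_mem_zpowers.2 (hg x)
      ext t
      simp only [map_pow, h1]
      rw [← map_pow, ← map_pow]
      exact hk k t
  refine ⟨L.comp e.symm.toMonoidHom, fun t => ?_, ?_⟩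
  · have : e.symm t = SemidirectProduct.inl t := e.symm_apply_eq.2 (by simp [e])
    exact (congrArg L this).trans (SemidirectProduct.lift_inl ..)
  · have : e.symm g = SemidirectProduct.inr g' := e.symm_apply_eq.2 (by simp [e, g'])
    exact ((congrArg L this).trans (SemidirectProduct.lift_inr ..)).trans h1

theorem cu_psu {F : Type*} [Field F] [Fintype F] {q : ℕ} [IsSq F q] [CharP F 2] :
    U3.CU (centralizer {UQ.toPSU F q (U3.z0 F q)}) (UQ.toPSU F q) where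
  inj := UQ.toPSU_injective
  le u := mem_centralizer_singleton_iff.2 (by rw [← map_mul, ← map_mul, UQ.comm_of_X (a := U3.z0 F q) rfl])
  act x hx := by
    obtain ⟨g, rfl⟩ := QuotientGroup.mk'_surjective _ x
    have hz : ∀ g : SU 3 F q, g ∈ center (SU 3 F q) ↔ suToGU 3 F q g ∈ center (GU 3 F q) := fun g => by
      rw [mem_center_SU_iff (by norm_num), mem_center_GU_iff (by norm_num)]; rfl
    have hi : Function.Injective (suToGU 3 F q) := fun a b e =>
      Subtype.ext (Subtype.ext (congrArg (fun x : GU 3 F q => x.1.1) e))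
    obtain ⟨d, h1, h2⟩ := U3.gu_act (g := suToGU 3 F q g) (U3.comm_of_center (by
      have : g * UQ.toSU F q (U3.z0 F q) * g⁻¹ * (UQ.toSU F q (U3.z0 F q))⁻¹ ∈ center (SU 3 F q) := by
        rw [← QuotientGroup.eq_one_iff, ← QuotientGroup.mk'_apply, map_mul, map_mul, map_mul, map_inv,
          map_inv]
        exact commutatorElement_eq_one_iff_mul_comm.2 (mem_centralizer_singleton_iff.1 hx)
      simp only [hz, map_mul, map_inv] at this
      exact this))
    refine ⟨d, fun e => ?_, fun u => ?_⟩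
    · obtain ⟨c, hc, u, e⟩ := h1 e
      refine ⟨u, (QuotientGroup.eq.2 ((hz _).2 ?_))⟩
      rw [map_mul, map_inv, e, ← mem_center_iff.1 hc]
      exact (inv_mul_cancel_left _ c).symm ▸ hc
    · obtain ⟨u', h3, h4⟩ := h2 u
      refine ⟨u', ?_, h4⟩
      have : g * UQ.toSU F q u * g⁻¹ = UQ.toSU F q u' := hi (by rw [map_mul, map_mul, map_inv]; exact h3)
      exact (by rw [map_mul, map_mul, map_inv]; rfl : _ = QuotientGroup.mk' _ _).trans (congrArg _ this)

theorem CE.exists_kb {Q W F : Type*} [Group Q] [AddCommGroup W] [Field F] [CharP F 2] {π : Q → W} {ζ : Q → F}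
    (h : CE π ζ) (hW : ∀ w : W, w + w = 0) (hc : ∀ z, π z = 0 → ∀ g, z * g = g * z) :
    ∃ (κ : W → F) (β : W → W → F), (∀ x, ζ (x * x) = κ (π x)) ∧ (∀ u v, β u v = β v u) ∧
      (∀ u v v', β u (v + v') = β u v + β u v') ∧ ∀ u v, κ (u + v) = κ u + κ v + β u v := by
  have sq0 : ∀ x, π (x * x) = 0 := fun x => by rw [h.add, hW]
  have cm0 : ∀ x y, π ⁅x, y⁆ = 0 := fun x y => by
    rw [commutatorElement_def, h.add, h.add, h.add, h.inv, h.inv]; abel
  have c1 : ∀ z, π z = 0 → ∀ g, ⁅g, z⁆ = 1 := fun z hz g =>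
    commutatorElement_eq_one_iff_mul_comm.2 (hc z hz g).symm
  have cl : ∀ x x' y, ζ ⁅x * x', y⁆ = ζ ⁅x, y⁆ + ζ ⁅x', y⁆ := fun x x' y => by
    rw [cm_mul_left, c1 _ (cm0 _ _), one_mul, h.zadd _ _ (cm0 _ _) (cm0 _ _), add_comm]
  have cs : ∀ x y, ζ ⁅x, y⁆ = ζ ⁅y, x⁆ := fun x y => by
    have := h.zadd _ _ (cm0 x y) (cm0 y x)
    rw [← commutatorElement_inv x, mul_inv_cancel, h.zone, commutatorElement_inv] at this
    exact CharTwo.add_eq_zero.1 this.symm
  have cg : ∀ x x' y, π x = π x' → ζ ⁅x, y⁆ = ζ ⁅x', y⁆ := fun x x' y e => by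
    have : π (x⁻¹ * x') = 0 := by rw [h.add, h.inv, e, neg_add_cancel]
    rw [← mul_inv_cancel_left x x', cl, cs (x⁻¹ * x'), c1 _ this, h.zone, add_zero]
  have sm : ∀ x y, ζ (x * y * (x * y)) = ζ (x * x) + ζ (y * y) + ζ ⁅x, y⁆ := fun x y => by
    rw [mul_mul_self, h.zadd _ _ (by rw [h.add, sq0, cm0, add_zero]) (sq0 _),
      h.zadd _ _ (sq0 _) (cm0 _ _), cg x⁻¹ x y (by rw [h.inv, neg_eq_of_add_eq_zero_left (hW _)])]
    ring
  have sg : ∀ x x', π x = π x' → ζ (x * x) = ζ (x' * x') := fun x x' e => by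
    have : π (x⁻¹ * x') = 0 := by rw [h.add, h.inv, e, neg_add_cancel]
    rw [← mul_inv_cancel_left x x', sm, c1 _ this, h.zone, h.zadd _ _ this this,
      CharTwo.add_self_eq_zero, add_zero, add_zero]
  choose s hs using h.surj
  have b0 : ∀ x y, ζ ⁅x, y⁆ = ζ ⁅s (π x), s (π y)⁆ := fun x y => by
    rw [cg x _ y (hs _).symm, cs, cg y _ _ (hs _).symm, cs]
  refine ⟨fun u => ζ (s u * s u), fun u v => ζ ⁅s u, s v⁆, fun x => sg _ _ (hs _).symm, fun u v => cs _ _,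
    fun u v v' => ?_, fun u v => ?_⟩
  · simp only [cs (s u)]
    rw [← cl, b0 (s v * s v'), h.add, hs, hs, hs]
  · exact (sg _ _ (by rw [h.add, hs, hs, hs])).trans (sm _ _)

theorem exists_avg {T F : Type*} [Group T] [Field F] {σ : MulAut T} (h5 : σ ^ 5 = 1) {ν : F}
    (hν : ν ^ 5 = 1) {a : T → F} (ha : ∀ g h, a (g * h) = a g + a h) :
    ∃ b : T → F, (∀ g h, b (g * h) = b g + b h) ∧ (∀ g, b (σ g) = ν * b g) ∧ ∀ g, b g =
      a g + ν ^ 4 * a (σ g) + ν ^ 3 * a (σ (σ g)) + ν ^ 2 * a (σ (σ (σ g))) + ν * a (σ (σ (σ (σ g)))) := by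
  refine ⟨_, fun g h => ?_, fun g => ?_, fun _ => rfl⟩
  · simp only [map_mul, ha]; ring
  · rw [show σ (σ (σ (σ (σ g)))) = g from congrArg (fun β : MulAut T => β g) h5]
    linear_combination (-a (σ g)) * hν

theorem exists_uq {T : Type*} [Group T] [Finite T] (hT : Nat.card T = 64) (hZ : IsKleinFour (center T))
    {σ : MulAut T} (h5 : σ ^ 5 = 1) {F : Type*} [Field F] [Fintype F] [CharP F 2] [IsSq F 4]
    (hinv : ∀ a : T → F, (∀ g h, a (g * h) = a g + a h) → (∀ g, a (σ g) = a g) → ∀ g, a g = 0) :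
    ∃ (ν : F) (τ : MulAut (UQ F 4)) (f : T ≃* UQ F 4), ν ^ 5 = 1 ∧ ν ≠ 1 ∧
      (∀ u, (τ u).X = ν * u.X ∧ (τ u).Y = u.Y) ∧ ∀ x, f (σ x) = τ (f x) := by
  haveI : Fact (Nat.Prime 2) := ⟨Nat.prime_two⟩
  haveI : Fact (Nat.Prime 5) := ⟨Nat.prime_five⟩
  have two : (2 : F) = 0 := CharTwo.two_eq_zero
  have hF : Fintype.card F = 16 := IsSq.card_eq (q := 4)
  have h4 : Nat.card (center T) = 4 := hZ.card_four
  have hP : IsPGroup 2 T := IsPGroup.of_card (n := 6) hT
  set Z := center T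
  have iZ : Inv σ Z := fun y hy => mem_center_iff.2 fun g => by
    rw [← σ.apply_symm_apply g, ← map_mul, ← map_mul, mem_center_iff.1 hy]
  have fZ : ∀ z ∈ Z, σ z = z := by
    have h1 := H13.TG.ncard_modEq h5 (Z : Set T) iZ
    have h2 : (Z : Set T).ncard = 4 := by rw [← Nat.card_coe_set_eq, SetLike.coe_sort_coe, h4]
    have h3 := Set.ncard_le_ncard (Set.inter_subset_left (s := (Z : Set T)) (t := H5.fixedSub σ))
    have := Set.eq_of_subset_of_ncard_le (Set.inter_subset_left (s := (Z : Set T)) (t := H5.fixedSub σ))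
      (by rw [h2] at h1 h3 ⊢; unfold Nat.ModEq at h1; omega)
    exact fun z hz => (this.symm ▸ hz : z ∈ (Z : Set T) ∩ H5.fixedSub σ).2
  -- an eigenfunction
  obtain ⟨ν, a, ν5, ν1, a1, a2, a3, y, a4⟩ : ∃ (ν : F) (a : T → F), ν ^ 5 = 1 ∧ ν ≠ 1 ∧
      (∀ g h, a (g * h) = a g + a h) ∧ (∀ g, a (σ g) = ν * a g) ∧ (∀ z ∈ Z, a z = 0) ∧ ∃ y, a y ≠ 0 := by
    obtain ⟨M, hM, hn, hi, hco⟩ := H5.exists_le_normal_index_eq hP (K := Z) fun e => by
      rw [e, card_top, hT] at h4; omega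
    obtain ⟨y, hy⟩ : ∃ y, y ∉ M := by by_contra! h; exact hco.1 ((eq_top_iff' _).2 h)
    obtain ⟨a, a1, -, a3, a4⟩ := exists_bit (F := F) (mul_self_mem_of_index_two hi) hy
    obtain ⟨n, n5, n1, -⟩ := exists_norm_eq_ne (q := 4) (one_ne_zero (α := F)) (map_one _) 1 1
    rw [mul_cj] at n5
    have n0 : n ^ 4 + n ^ 3 + n ^ 2 + n + 1 = 0 :=
      (mul_eq_zero.1 (show (n - 1) * _ = 0 by linear_combination n5)).resolve_left (sub_ne_zero.2 n1)
    by_contra! hc
    have k : ∀ ν : F, ν ^ 5 = 1 → a y + ν ^ 4 * a (σ y) + ν ^ 3 * a (σ (σ y)) +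
        ν ^ 2 * a (σ (σ (σ y))) + ν * a (σ (σ (σ (σ y)))) = 0 := fun ν hν => by
      obtain ⟨b, b1, b2, b3⟩ := exists_avg h5 hν a1
      rw [← b3]
      by_cases e : ν = 1
      · exact hinv b b1 (fun g => by rw [b2, e, one_mul]) y
      · exact hc ν b hν e b1 b2 (fun z hz => by simp only [b3, fZ z hz, a3 z (hM hz)]; ring) y
    have k0 := k 1 (one_pow _)
    have k1 := k n n5
    have k2 := k (n ^ 2) (by rw [← pow_mul, mul_comm, pow_mul, n5, one_pow])
    have k3 := k (n ^ 3) (by rw [← pow_mul, mul_comm, pow_mul, n5, one_pow])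
    have k4 := k (n ^ 4) (by rw [← pow_mul, mul_comm, pow_mul, n5, one_pow])
    rw [a4] at k0 k1 k2 k3 k4
    generalize a (σ y) = c1, a (σ (σ y)) = c2, a (σ (σ (σ y))) = c3, a (σ (σ (σ (σ y)))) = c4 at *
    have s1 : 1 + n ^ 4 + n ^ 8 + n ^ 12 + n ^ 16 = 0 := by clear * - n0; grind
    have s2 : 1 + n ^ 3 + n ^ 6 + n ^ 9 + n ^ 12 = 0 := by clear * - n0; grind
    have s3 : 1 + n ^ 2 + n ^ 4 + n ^ 6 + n ^ 8 = 0 := by clear * - n0; grind
    refine one_ne_zero (?_ : (1 : F) = 0)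
    linear_combination k0 + k1 + k2 + k3 + k4 - c1 * s1 - c2 * s2 - c3 * s3 - c4 * n0 - 2 * two
  have n0 : ν ^ 4 + ν ^ 3 + ν ^ 2 + ν + 1 = 0 :=
    (mul_eq_zero.1 (show (ν - 1) * _ = 0 by linear_combination ν5)).resolve_left (sub_ne_zero.2 ν1)
  -- `ν` and the element of order three generate the multiplicative group
  have gen : ∀ w : F, ∃ (i : ℕ) (c : F), w = ν ^ i * c ∧ (c = 0 ∨ c = 1 ∨ c = ν + ν ^ 4 ∨ c = ν + ν ^ 4 + 1) := by
    intro w
    have w16 : w ^ 16 = w := hF ▸ FiniteField.pow_card w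
    have h1 : w ^ 10 * (w ^ 10 - 1) * (w ^ 10 - (ν + ν ^ 4)) * (w ^ 10 - (ν + ν ^ 4 + 1)) = 0 := by
      clear * - w16 n0 two; grind
    have h2 : w ^ 6 * (w ^ 6 - ν ^ 0) * (w ^ 6 - ν ^ 1) * (w ^ 6 - ν ^ 2) * (w ^ 6 - ν ^ 3) *
        (w ^ 6 - ν ^ 4) = 0 := by
      clear * - w16 n0 two; grind
    simp only [mul_eq_zero, sub_eq_zero, or_assoc] at h1 h2
    rcases h2 with h2 | h2 | h2 | h2 | h2 | h2
    · exact ⟨0, 0, by simpa using h2, Or.inl rfl⟩
    all_goals exact ⟨_, _, by rw [← h2, ← pow_add, w16], h1⟩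
  have ap : ∀ (i : ℕ) g, a ((σ ^ i) g) = ν ^ i * a g := fun i g =>
    eqv_pow inv_top (fun g _ => a2 g) i g trivial
  have as : Function.Surjective a := fun w => by
    obtain ⟨i, c, e, hc⟩ := gen (w / a y)
    rw [div_eq_iff a4] at e
    rcases hc with rfl | rfl | rfl | rfl
    · exact ⟨1, by rw [a3 _ Z.one_mem, e]; ring⟩
    · exact ⟨(σ ^ i) y, by rw [ap, e]; ring⟩
    · exact ⟨(σ ^ i) (σ y * (σ ^ 4) y), by rw [ap, a1, a2, ap, e]; ring⟩
    · exact ⟨(σ ^ i) (σ y * (σ ^ 4) y * y), by rw [ap, a1, a1, a2, ap, e]; ring⟩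
  have p0 : ∀ z, a z = 0 ↔ z ∈ Z := by
    have := card_eq_of_add (X := ⊤) (fun g _ h _ => a1 g h) fun c => ⟨_, trivial, (as c).choose_spec⟩
    rw [card_top, hT, hF] at this
    have e : Z = addKer ⊤ a fun g _ h _ => a1 g h :=
      eq_of_le_of_card_ge (fun z hz => ⟨trivial, a3 z hz⟩) (by omega)
    exact fun z => ⟨fun h => e ▸ ⟨trivial, h⟩, a3 z⟩
  letI := Fintype.ofFinite (GaloisField 2 2)
  have hK : Fintype.card (GaloisField 2 2) = 4 := card_galois (n := 2) two_ne_zero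
  obtain ⟨ι, hι⟩ := exists_embedding F 4 (GaloisField 2 2) hK
  haveI : IsKleinFour (Multiplicative (GaloisField 2 2)) :=
    ⟨by rw [Nat.card_eq_fintype_card, Fintype.card_multiplicative, hK], by
      rw [Monoid.exponent_multiplicative]
      exact (AddMonoid.exponent_eq_prime_iff Nat.prime_two).2 fun g hg => addOrderOf_eq_prime
        (by rw [two_nsmul, CharTwo.add_self_eq_zero]) hg⟩
  obtain ⟨e⟩ := IsKleinFour.nonempty_mulEquiv (G₁ := Z) (G₂ := Multiplicative (GaloisField 2 2))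
  classical
  let ζ : T → GaloisField 2 2 := fun x => if h : x ∈ Z then (e ⟨x, h⟩).toAdd else 0
  have ζe : ∀ z : Z, ζ z = (e z).toAdd := fun z => dif_pos z.2
  have ce : CE a ζ := ⟨a1, as, fun x y hx hy => by
      rw [← toAdd_ofAdd (ζ x), show ζ x = _ from ζe ⟨x, (p0 _).1 hx⟩, show ζ y = _ from ζe ⟨y, (p0 _).1 hy⟩,
        ofAdd_toAdd, ← toAdd_mul, ← map_mul, ← ζe]; rfl,
    fun x hx h => congrArg Subtype.val (e.map_eq_one_iff.1 ((ζe ⟨x, (p0 _).1 hx⟩).symm.trans h)),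
    fun c => ⟨e.symm (Multiplicative.ofAdd c), (p0 _).2 (Subtype.coe_prop _), by rw [ζe]; simp⟩⟩
  obtain ⟨κ, β, k0, bs, br, ka⟩ := ce.exists_kb CharTwo.add_self_eq_zero
    fun z hz g => (mem_center_iff.1 ((p0 z).1 hz) g).symm
  have sz : ∀ g, g * g ∈ Z := fun g => (p0 _).1 (by rw [a1, CharTwo.add_self_eq_zero])
  have kn : ∀ w, κ (ν * w) = κ w := fun w => by
    obtain ⟨g, rfl⟩ := as w
    rw [← a2, ← k0, ← k0, ← map_mul, fZ _ (sz g)]
  have kp : ∀ (i : ℕ) w, κ (ν ^ i * w) = κ w := fun i w => by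
    induction i with
    | zero => simp
    | succ i ih => rw [pow_succ', mul_assoc, kn, ih]
  have kz : κ 0 = 0 := by rw [← ce.one, ← k0, mul_one, ce.zone]
  have b1 : β 1 (ν + ν ^ 4) = 0 := by
    have e1 := ka (ν * 1) (ν * ν ^ 4)
    rw [← mul_add, kn, kn, kn, ka, add_right_inj, mul_one, ← pow_succ', ν5] at e1
    rw [br, e1, bs, CharTwo.add_self_eq_zero]
  obtain ⟨ω, hω⟩ := (hι (ν + ν ^ 4)).1 (by rw [cj_apply]; clear * - n0 two; grind)
  have ω2 : ω * ω = ω + 1 := ι.injective (by rw [map_mul, map_add, map_one, hω]; clear * - n0 two; grind)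
  let L : GaloisField 2 2 → GaloisField 2 2 := fun c => κ (ι (c * c))
  have cs : ∀ c : GaloisField 2 2, c = 0 ∨ c = 1 ∨ c = ω ∨ c = ω + 1 := fun c => by
    have c4 : c ^ 4 = c := hK ▸ FiniteField.pow_card c
    have two' : (2 : GaloisField 2 2) = 0 := CharTwo.two_eq_zero
    have : c * (c - 1) * (c - ω) * (c - (ω + 1)) = 0 := by clear * - c4 two' ω2; grind
    simpa only [mul_eq_zero, sub_eq_zero, or_assoc] using this
  have bz : ∀ u, β u u = 0 := fun u => by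
    have := ka u u
    rwa [CharTwo.add_self_eq_zero, kz, CharTwo.add_self_eq_zero, zero_add, eq_comm] at this
  have b0 : ∀ u, β u 0 = 0 := fun u => by simpa using br u 0 0
  have bι : ∀ c d, β (ι c) (ι d) = 0 := fun c d => by
    have b2 : ∀ c, β 1 (ι c) = 0 ∧ β (ι ω) (ι c) = 0 := fun c => by
      rcases cs c with rfl | rfl | rfl | rfl <;>
        simp only [map_zero, map_one, map_add, b0, bz, hω, b1, br _ _ 1, bs _ 1, add_zero, and_self]
    rcases cs c with rfl | rfl | rfl | rfl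
    · rw [map_zero, bs, b0]
    · rw [map_one, (b2 d).1]
    · exact (b2 d).2
    · rw [map_add, map_one, bs, br, bs, (b2 d).2, bs, (b2 d).1, add_zero]
  have La : ∀ c d, L (c + d) = L c + L d := fun c d => by
    simp only [L]
    rw [CharTwo.add_mul_self, map_add, ka, bι, add_zero]
  have Lk : ∀ g, ∃ c, ζ (g * g) = L c ∧ a g * cj 4 (a g) = ι c := fun g => by
    obtain ⟨i, c, e, hc⟩ := gen (a g)
    obtain ⟨d, rfl⟩ : ∃ d, ι d = c := by
      rcases hc with rfl | rfl | rfl | rfl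
      exacts [⟨0, map_zero _⟩, ⟨1, map_one _⟩, ⟨ω, hω⟩, ⟨ω + 1, by rw [map_add, map_one, hω]⟩]
    have d4 : d ^ 4 = d := hK ▸ FiniteField.pow_card d
    refine ⟨d * d, by rw [k0, e, kp]; exact congrArg (fun t => κ (ι t)) (by linear_combination -d4), ?_⟩
    rw [mul_cj, e, mul_pow, ← pow_mul, mul_comm i, pow_mul, ν5, one_pow, one_mul, ← map_pow, pow_succ, d4]
  have L0 : L 0 = 0 := by simpa using La 0 0
  have Ls : Function.Surjective L := fun t => by
    by_contra ht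
    obtain ⟨z, z1, rfl⟩ := ce.zsurj t
    let Z₁ : Subgroup T :=
      { carrier := {z | a z = 0 ∧ ∃ c, L c = ζ z}
        one_mem' := ⟨ce.one, 0, L0.trans ce.zone.symm⟩
        mul_mem' := fun {x y} ⟨h1, c, h2⟩ ⟨h3, d, h4⟩ =>
          ⟨by rw [a1, h1, h3, add_zero], c + d, by rw [La, h2, h4, ce.zadd _ _ h1 h3]⟩
        inv_mem' := fun {x} ⟨h1, c, h2⟩ => by
          have h3 : a x⁻¹ = 0 := by rw [ce.inv, h1, neg_zero]
          have := ce.zadd _ _ h1 h3
          rw [mul_inv_cancel, ce.zone] at this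
          exact ⟨h3, c, h2.trans (CharTwo.add_eq_zero.1 this.symm)⟩ }
    obtain ⟨b, b1, -, -, b4⟩ := exists_bit (F := F) (M := Z₁) (y := z)
      (fun g => ⟨(p0 _).2 (sz g), (Lk g).imp fun c h => h.1.symm⟩) fun h => ht h.2
    obtain ⟨c, c1, c2, c3⟩ := exists_avg h5 (one_pow 5) b1
    have := hinv c c1 (fun g => by rw [c2, one_mul]) z
    simp only [c3, fZ z ((p0 z).1 z1), b4] at this
    exact one_ne_zero (by linear_combination this - 2 * two : (1 : F) = 0)
  let L' := Equiv.ofBijective L (Finite.surjective_iff_bijective.1 Ls)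
  have Li : ∀ c, L'.symm (L c) = c := L'.symm_apply_apply
  have ce' : CE a fun x => L'.symm (ζ x) := ⟨a1, as, fun x y hx hy => by
      rw [ce.zadd _ _ hx hy, Equiv.symm_apply_eq, Equiv.ofBijective_apply, La]
      exact congrArg₂ _ (L'.apply_symm_apply _).symm (L'.apply_symm_apply _).symm,
    fun x hx h => ce.zinj x hx (by rw [Equiv.symm_apply_eq] at h; exact h.trans L0),
    fun c => let ⟨x, h1, h2⟩ := ce.zsurj (L c); ⟨x, h1, by rw [h2, Li]⟩⟩
  have νn : ν * cj 4 ν = 1 := by rw [mul_cj, ν5]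
  let τ₀ : UQ F 4 →* UQ F 4 := MonoidHom.mk' (fun u => ⟨ν * u.X, u.Y, by
      rw [u.h, map_mul]; linear_combination (-(u.X * cj 4 u.X)) * νn⟩) fun u v => by
    ext
    · exact mul_add ..
    · simp only [UQ.mul_Y, map_mul]; linear_combination (-(cj 4 u.X * v.X)) * νn
  have ν0 : ν ≠ 0 := left_ne_zero_of_mul_eq_one νn
  let τ : MulAut (UQ F 4) := MulEquiv.ofBijective τ₀ (Finite.injective_iff_bijective.1 fun u v e =>
    UQ.ext (mul_left_cancel₀ ν0 (congrArg UQ.X e)) (congrArg UQ.Y e :))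
  obtain ⟨f, f1, -⟩ := ce'.exists_iso (ce_UQ hι) CharTwo.add_self_eq_zero (fun x u e => by
      obtain ⟨c, h1, h2⟩ := Lk x
      simp only [h1, Li, UQ.sq_Y, ← e, h2, Function.leftInverse_invFun ι.injective _])
    (g := σ) (g' := τ) (m := 5) (by decide) h5 (by
      ext u
      · show ν * (ν * (ν * (ν * (ν * u.X)))) = u.X
        linear_combination u.X * ν5
      · rfl) (ν := 1) (one_pow _) (fun x u e => by rw [a2, e]; rfl)
    (fun x hx => by rw [fZ x ((p0 x).1 hx), one_mul]) fun x _ => by rw [one_mul]; rfl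
  exact ⟨ν, τ, f, ν5, ν1, fun u => ⟨rfl, rfl⟩, f1⟩

theorem main_320 {G : Type*} [Group G] [Finite G] (hG : Nat.card G = 320) (hD : Nat.card (commutator G) = 64)
    (hZ : IsKleinFour (center (commutator G))) (F : Type*) [Field F] [Fintype F] [CharP F 2] [IsSq F 4] :
    Nonempty (G ≃* centralizer {UQ.toPSU F 4 (U3.z0 F 4)}) := by
  haveI : Fact (Nat.Prime 5) := ⟨Nat.prime_five⟩
  obtain ⟨g, hg⟩ := exists_prime_orderOf_dvd_card' (G := G) 5 (by rw [hG]; norm_num)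
  have hc : (commutator G).IsComplement' (zpowers g) := isComplement'_of_coprime
    (by rw [hD, Nat.card_zpowers, hg, hG]) (by rw [hD, Nat.card_zpowers, hg]; norm_num)
  obtain ⟨ν, τ, f, ν5, ν1, hτ, hf⟩ := exists_uq (F := F) hD hZ (σ := MulAut.conjNormal g)
    (by rw [← map_pow, ← hg, pow_orderOf_eq_one, map_one]) fun a a1 a2 t => by
      obtain ⟨φ, h1, -⟩ := exists_lift hc (MonoidHom.mk' (fun t => Multiplicative.ofAdd (a t))
        fun x y => congrArg _ (a1 x y)) (h := 1) (by simp) fun t => by simp [a2]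
      exact (h1 t).symm.trans (Abelianization.commutator_subset_ker φ t.2)
  have ln : ν ^ 3 * cj 4 (ν ^ 3) = 1 := by rw [mul_cj, ← pow_mul, mul_comm, pow_mul, ν5, one_pow]
  let h : PSU 3 F 4 := QuotientGroup.mk' _ (H69.SI.hom3 ln)
  have h5 : h ^ 5 = 1 := by rw [← map_pow, H69.SI.hom3_pow ln, map_one]
  have hh : ∀ u, UQ.toPSU F 4 (τ u) = h * UQ.toPSU F 4 u * h⁻¹ := fun u => by
    have : τ u = H69.SI.UQs ln u := UQ.ext (by
      rw [(hτ u).1]
      show _ = cj 4 (ν ^ 3) ^ 3 * u.X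
      rw [cj_apply, ← pow_mul, ← pow_mul, show 3 * (4 * 3) = 5 * 7 + 1 by rfl, pow_succ, pow_mul, ν5, one_pow,
        one_mul]) (hτ u).2
    rw [eq_mul_inv_iff_mul_eq, this]
    have := congrArg (QuotientGroup.mk' (center (SU 3 F 4))) (H69.SI.hom3_mul ln u)
    rw [map_mul, map_mul] at this
    exact this.symm
  obtain ⟨φ, h1, h2⟩ := exists_lift hc ((UQ.toPSU F 4).comp f.toMonoidHom) (h := h)
    (hg ▸ orderOf_dvd_of_pow_eq_one h5) fun t => (congrArg _ (hf t)).trans (hh _)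
  have cu := cu_psu (F := F) (q := 4)
  have hp : ∀ (i : ℕ) u, ∃ u', h ^ i * UQ.toPSU F 4 u * (h ^ i)⁻¹ = UQ.toPSU F 4 u' ∧ u'.X = ν ^ i * u.X :=
    fun i u => by
      induction i with
      | zero => exact ⟨u, by simp, by simp⟩
      | succ i ih =>
        obtain ⟨u', e1, e2⟩ := ih
        exact ⟨τ u', by rw [hh, ← e1, pow_succ']; group, by rw [(hτ _).1, e2]; ring⟩
  have dec : ∀ x : G, ∃ (t : commutator G) (i : ℕ), x = t * g ^ i := fun x => by
    obtain ⟨⟨t, ⟨_, hk⟩⟩, e⟩ := hc.2 x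
    obtain ⟨i, rfl⟩ := mem_powers_iff_mem_zpowers.2 hk
    exact ⟨t, i, e.symm⟩
  obtain ⟨u₁, hu₁⟩ := H55.SylT.exists_X (q := 4) (1 : F)
  have hC : h ∈ centralizer {UQ.toPSU F 4 (U3.z0 F 4)} := mem_centralizer_singleton_iff.2 (by
    rw [← mul_inv_eq_iff_eq_mul, ← hh]
    exact congrArg _ (UQ.ext (by rw [(hτ _).1]; exact mul_zero _) (hτ _).2))
  have hν : IsPrimitiveRoot ν 5 := by
    rw [← orderOf_eq_prime ν5 ν1]; exact IsPrimitiveRoot.orderOf ν
  have hi : Function.Injective φ := (injective_iff_map_eq_one _).2 fun x hx => by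
    obtain ⟨t, i, rfl⟩ := dec x
    rw [map_mul, map_pow, h1, h2] at hx
    obtain ⟨u', e1, e2⟩ := hp i u₁
    rw [eq_inv_of_mul_eq_one_right hx, MonoidHom.comp_apply, ← map_inv (UQ.toPSU F 4),
      ← map_inv (UQ.toPSU F 4), ← map_mul, ← map_mul] at e1
    rw [← UQ.toPSU_injective e1, (H13.TG.AS.sc_UQ F 4).conj, hu₁, mul_one, eq_comm,
      hν.pow_eq_one_iff_dvd] at e2
    obtain ⟨k, rfl⟩ := e2
    rw [pow_mul, h5, one_pow, mul_one] at hx
    rw [pow_mul, ← hg, pow_orderOf_eq_one, one_pow, mul_one,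
      f.map_eq_one_iff.1 (UQ.toPSU_injective (hx.trans (map_one _).symm)), coe_one]
  have hr : φ.range = centralizer {UQ.toPSU F 4 (U3.z0 F 4)} := by
    refine le_antisymm ?_ fun c hc => ?_
    · rintro _ ⟨x, rfl⟩
      obtain ⟨t, i, rfl⟩ := dec x
      rw [map_mul, map_pow, h1, h2]
      exact mul_mem (cu.le _) (pow_mem hC i)
    obtain ⟨d, -, d2⟩ := cu.act c hc
    obtain ⟨u', e1, e2, -⟩ := d2 u₁
    obtain ⟨u'', e3, -, e4⟩ := d2 (u₁ * u₁)
    rw [e4 (UQ.sq_X _), map_mul, ← conj_mul, e1, ← map_mul, ← map_mul] at e3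
    have e5 := congrArg UQ.Y (UQ.toPSU_injective e3)
    rw [UQ.sq_Y, UQ.sq_Y, e2, hu₁, mul_one, map_one, mul_one, mul_cj] at e5
    obtain ⟨i, -, rfl⟩ := hν.eq_pow_of_pow_eq_one e5
    obtain ⟨d', d3, d4⟩ := cu.act _ (mul_mem (pow_mem hC (4 * i)) hc)
    obtain ⟨v, e6, e7, -⟩ := d4 u₁
    obtain ⟨v', e8, e9⟩ := hp (4 * i) u'
    rw [← e1, show ∀ a b c : PSU 3 F 4, a * (b * c * b⁻¹) * a⁻¹ = a * b * c * (a * b)⁻¹ by intros; group,
      e6] at e8
    rw [← UQ.toPSU_injective e8, e7, e2, hu₁, mul_one, mul_one, ← pow_add,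
      show 4 * i + i = 5 * i by ring, pow_mul, ν5, one_pow] at e9
    obtain ⟨w, hw⟩ := d3 e9
    refine ⟨(g ^ (4 * i))⁻¹ * f.symm w, ?_⟩
    rw [map_mul, map_inv, map_pow, h1, h2, inv_mul_eq_iff_eq_mul, ← hw]
    simp
  exact ⟨(MonoidHom.ofInjective hi).trans (MulEquiv.subgroupCongr hr)⟩

end H22.Sg
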