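import Mathlib
import Cfsg.Agent.Lib.CH2.EqB
import Cfsg.Agent.Lib.Deg.Cliff
import Cfsg.Agent.Lib.Core.Frattini
import Cfsg.Agent.Lib.Char.BrauerPerm

/-! Vanishing elements of solvable groups: if the vanishing elements of order divisible by `p` all have
the same order, then `p ^ 2` does not divide the index of `O_p(G)`. -/

set_option autoImplicit false

namespace H22.Van

open Subgroup Cfsg H69
open scoped commutatorElement

universe u

variable {G : Type*} [Group G] [Finite G] {p : ℕ}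

/-- Some irreducible character vanishes at `x`. -/
def Van (x : G) : Prop := ∃ χ : IrrCharacter G, (χ : G → ℂ) x = 0

omit [Finite G] in
theorem Van.lift {H : Type*} [Group H] {f : G →* H} (hf : Function.Surjective f) {x : G} (h : Van (f x)) :
    Van x := by
  obtain ⟨χ, h⟩ := h
  exact ⟨⟨_, H6.isIrrCharacter_comp_surjective f hf χ.2⟩, h⟩

theorem van_of_inertia {G : Type u} [Group G] [Finite G] {N : Subgroup G} [N.Normal] {θ : N → ℂ}
    (hθ : IsIrrCharacter N θ) {x : G} (h : ∀ g, g⁻¹ * x * g ∉ H7.inertia θ) : Van x := by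
  classical
  haveI := Fintype.ofFinite G
  obtain ⟨χ, hχ, h1⟩ := H7.exists_irr_over N (H6.irr_one_ne_zero hθ)
  obtain ⟨ψ, -, h2, -⟩ := H7.clifford_corr_surj (H7.le_inertia (H6.irr_isClassFunction hθ)) hθ le_rfl hχ h1
  exact ⟨⟨χ, hχ⟩, by rw [← H7.indFun_eq_zero_of_not_conj _ ψ x h, h2]⟩

theorem van_of_conj {N : Subgroup G} [N.Normal] (hN : N ≠ ⊥) {x : G}
    (h : ∀ n ∈ N, ∃ y, y * x * y⁻¹ = n * x) : Van x := by
  haveI := Fintype.ofFinite N
  obtain ⟨χ, hχ, h1⟩ := H87.exists_irr_not_le_charKer hN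
  have := H87.sum_normal_mul_eq_zero hχ N h1 x
  rw [Finset.sum_congr rfl (g := fun _ => χ x) fun n _ => by
    obtain ⟨y, hy⟩ := h n n.2
    rw [← hy, H6.irr_isClassFunction hχ]] at this
  exact ⟨⟨χ, hχ⟩, by simpa using this⟩

theorem van_of_fpf {N : Subgroup G} [N.Normal] (hN : N ≠ ⊥) {x : G}
    (h : ∀ k ∈ N, x * k = k * x → k = 1) : Van x :=
  van_of_conj hN fun _ hn => (H7.exists_conj_eq_mul_of_fpf h hn).imp fun _ h => h.2

theorem reg {N A : Subgroup G} [N.Normal] (hN : Group.IsNilpotent N) (hA : IsMulCommutative A)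
    (hc : (Nat.card A).Coprime (Nat.card N)) (hf : A ⊓ 𝐂(N) = ⊥) :
    ∃ l : N →* ℂˣ, A ⊓ H7.inertia (fun n => (l n : ℂ)) = ⊥ := by
  have hm : ∀ (l : N →* ℂˣ) (a : G), a ∈ H7.inertia (fun n => (l n : ℂ)) ↔
      ∀ n : N, l (MulAut.conjNormal a n) = l n := fun l a =>
    H7.mem_inertia'.trans (forall_congr' fun n => Units.val_inj)
  have ht : ∀ (l : N →* ℂˣ) (S : Subgroup G), S ≤ H7.inertia (fun n => (l n : ℂ)) →
      ∀ m : N, (m : G) ∈ ⁅N, S⁆ → l m = 1 := fun l S hS m h => by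
    have : ⁅N, S⁆ ≤ l.ker.map N.subtype := commutator_le.2 fun n hn s hs =>
      ⟨⟨n, hn⟩ * MulAut.conjNormal s ⟨n, hn⟩⁻¹, by
        rw [SetLike.mem_coe, MonoidHom.mem_ker, map_mul, (hm l s).1 (hS hs), ← map_mul, mul_inv_cancel, map_one],
        by simp [commutatorElement_def, mul_assoc]⟩
    obtain ⟨y, hy, e⟩ := this h
    rwa [← show y = m from Subtype.ext e]
  obtain ⟨_, -, ⟨l, rfl⟩, hmin⟩ := exists_minimal_le_of_wellFoundedLT
    (fun S : Subgroup G => ∃ l : N →* ℂˣ, S = A ⊓ H7.inertia (fun n => (l n : ℂ))) _ ⟨1, rfl⟩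
  refine ⟨l, ?_⟩
  set S := A ⊓ H7.inertia (fun n => (l n : ℂ))
  by_contra hS
  obtain ⟨g, hg⟩ : ∃ g, g ∉ 𝐂(S).subgroupOf N ⊔ commutator N := by
    by_contra h
    push Not at h
    exact hS (le_bot_iff.1 (hf ▸ le_inf inf_le_left (le_centralizer_iff.1
      (subgroupOf_eq_top.1 (H1.eq_top_of_sup_commutator_of_isNilpotent (eq_top_iff.2 fun x _ => h x))))))
  obtain ⟨m, h1, h2⟩ := H87.exists_hom_trivial_ne_one _ le_sup_right hg
  have hAS : A ≤ 𝐍(S) := le_normalizer_of_le_centralizer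
    ((H22.Eq.comm_iff.1 hA).trans (centralizer_anti inf_le_left))
  have hd : ∀ n : N, ∃ c k : N, (c : G) ∈ 𝐂(S) ∧ (k : G) ∈ ⁅N, S⁆ ∧ n = c * k := fun n => by
    obtain ⟨c, h3, k, h4, e⟩ := H2.exists_centralizer_mul_commutator (A := S) le_normalizer_of_normal
      (H2.coprime_of_le_left hc inf_le_left) (Or.inr inferInstance) n.2
    exact ⟨⟨c, h3.1⟩, ⟨k, commutator_le_left _ _ h4⟩, h3.2, h4, Subtype.ext e⟩
  have h3 : ∀ a ∈ A ⊓ H7.inertia (fun n => ((l * m) n : ℂ)), a ∈ H7.inertia (fun n => (m n : ℂ)) := fun a ha =>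
    (hm m a).2 fun n => by
      obtain ⟨c, k, h4, h5, rfl⟩ := hd n
      have h6 := (hm (l * m) a).1 ha.2 k
      rw [MonoidHom.mul_apply, MonoidHom.mul_apply, ht l S inf_le_right k h5, ht l S inf_le_right _
        (conj_mem_of_mem_normalizer (le_normalizer_commutator le_normalizer_of_normal hAS ha.1) h5),
        one_mul, one_mul] at h6
      rw [map_mul, map_mul, map_mul, h6, h1 c (mem_sup_left h4), h1 (MulAut.conjNormal a c) (mem_sup_left
        (conj_mem_of_mem_normalizer (le_normalizer_centralizer hAS ha.1) h4 :))]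
  have h4 := hmin ⟨l * m, rfl⟩ fun a ha => ⟨ha.1, (hm l a).2 fun n => by
    have h6 := (hm (l * m) a).1 ha.2 n
    rwa [MonoidHom.mul_apply, MonoidHom.mul_apply, (hm m a).1 (h3 a ha), mul_left_inj] at h6⟩
  obtain ⟨c, k, h5, h6, rfl⟩ := hd g
  exact h2 (by rw [map_mul, h1 c (mem_sup_left h5), ht m S (fun a ha => h3 a (h4 ha)) k h6, one_mul])

/-- The hypothesis on vanishing elements that passes to quotients. -/
def Hyp (p : ℕ) (G : Type*) [Group G] : Prop :=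
  (∀ x y : G, Van x → Van y → x ≠ 1 → (∃ k, x ^ p ^ k = 1) → p ∣ orderOf y → ∃ k, y ^ p ^ k = 1) ∧
    ∀ x : G, Van x → Van (x ^ p) → ¬ p ∣ orderOf (x ^ p)

theorem lift_elt [Fact p.Prime] {H : Type*} [Group H] [Finite H] {f : G →* H} (hf : Function.Surjective f)
    {y : H} (h : ∃ k, y ^ p ^ k = 1) : ∃ x, f x = y ∧ ∃ k, x ^ p ^ k = 1 := by
  obtain ⟨S, hS, e⟩ := H22.Eq.lift_sylow (p := p) hf (A := zpowers y) (isPGroup_iff_mem.2 (by
    rintro _ ⟨i, rfl⟩
    exact h.imp fun k hk => by simp only [← zpow_natCast, ← zpow_mul, mul_comm i] at hk ⊢; rw [zpow_mul, hk, one_zpow]))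
  obtain ⟨x, hx, rfl⟩ : y ∈ S.map f := e ▸ mem_zpowers y
  exact ⟨x, rfl, isPGroup_iff_mem.1 hS.isP x hx⟩

theorem Hyp.map [Fact p.Prime] {H : Type*} [Group H] [Finite H] (h : Hyp p G) {f : G →* H}
    (hf : Function.Surjective f) : Hyp p H := by
  refine ⟨fun x y hx hy h1 h2 h3 => ?_, fun x hx h1 h2 => ?_⟩
  · obtain ⟨x, rfl, h4⟩ := lift_elt hf h2
    obtain ⟨y, rfl⟩ := hf y
    exact (h.1 x y (hx.lift hf) (hy.lift hf) (fun e => h1 (by rw [e, map_one])) h4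
      (h3.trans (orderOf_map_dvd f y))).imp fun k hk => by rw [← map_pow, hk, map_one]
  · obtain ⟨x, rfl⟩ := hf x
    rw [← map_pow] at h1 h2
    exact h.2 x (hx.lift hf) (h1.lift hf) (h2.trans (orderOf_map_dvd f _))

theorem lift_ab [Fact p.Prime] {F : Subgroup G} [F.Normal] (hF : (Nat.card F).Coprime p)
    {E : Subgroup (G ⧸ F)} (hE : IsPGroup p E) (hc : IsMulCommutative E) : ∃ A : Subgroup G,
      A.map (QuotientGroup.mk' F) = E ∧ IsMulCommutative A ∧ (Nat.card A).Coprime (Nat.card F) := by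
  obtain ⟨A, hA, rfl⟩ := H22.Eq.lift_sylow (QuotientGroup.mk'_surjective F) hE
  have h1 := H2.coprime_card_of_isPGroup hF hA.isP
  refine ⟨A, rfl, H2.isMulCommutative_iff_commutator_eq_bot.2 (le_bot_iff.1
    (H2.inf_eq_bot_of_coprime_card h1 ▸ le_inf ?_ (commutator_le_of_le le_rfl le_rfl))), h1.symm⟩
  refine le_of_le_of_eq ?_ (QuotientGroup.ker_mk' F)
  rw [← Subgroup.map_eq_bot_iff, map_commutator]
  exact H2.isMulCommutative_iff_commutator_eq_bot.1 hc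

theorem dvd_orderOf [hp : Fact p.Prime] {x : G} (h1 : x ≠ 1) (h : ∃ k, x ^ p ^ k = 1) : p ∣ orderOf x := by
  obtain ⟨k, hk⟩ := h
  obtain ⟨j, -, e⟩ := (Nat.dvd_prime_pow hp.out).1 (orderOf_dvd_of_pow_eq_one hk)
  exact e ▸ dvd_pow_self p fun e' => h1 (orderOf_eq_one_iff.1 (by rw [e, e', pow_zero]))

theorem main [hp : Fact p.Prime] (n : ℕ) : ∀ (G : Type u) [Group G] [Finite G] [Group.IsSolvable G],
    Nat.card G = n → Hyp p G → pCore p G = ⊥ → ¬ p ^ 2 ∣ Nat.card G := by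
  induction n using Nat.strong_induction_on with | _ n ih =>
  intro G _ _ _ hn h h0 hd
  haveI : Nontrivial G := Finite.one_lt_card_iff_nontrivial.1
    ((Nat.one_lt_pow two_ne_zero hp.out.one_lt).trans_le (Nat.le_of_dvd Nat.card_pos hd))
  set F := fittingSubgroup G
  have hF : F ≠ ⊥ := H1.fitting_ne_bot_of_isSolvable
  have hFp : (Nat.card F).Coprime p := (hp.out.coprime_iff_not_dvd.2 fun e => by
    obtain ⟨R, h1, h2, h3⟩ := exists_isPGroup_ne_bot_of_dvd e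
    exact h3 (le_bot_iff.1 (h0 ▸ H1.le_pCore_of_le_fitting h2 h1))).symm
  set π := QuotientGroup.mk' F
  have hπ : Function.Surjective π := QuotientGroup.mk'_surjective F
  have hd' : p ^ 2 ∣ Nat.card (G ⧸ F) :=
    (hFp.symm.pow_left 2).dvd_of_dvd_mul_right (F.card_eq_card_quotient_mul_card_subgroup ▸ hd)
  set D := pCore p (G ⧸ F)
  have hD : D ≠ ⊥ := fun e => ih _ (hn ▸ H1.card_quotient_lt hF) (G ⧸ F) rfl (h.map hπ) e hd'
  have hDp : IsPGroup p D := H1.isPGroup_pCore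
  set Z := D ⊓ 𝐂(D)
  have hZc : IsMulCommutative Z := H22.Eq.comm_iff.2 (inf_le_right.trans (centralizer_anti inf_le_left))
  have hZp : IsPGroup p Z := hDp.to_inf_left
  obtain ⟨z, z1, z2, z3⟩ := H5.exists_mem_centralizer_orderOf_eq hDp le_rfl le_normalizer hD
  have z4 : z ≠ 1 := fun e => hp.out.one_lt.ne' (by rw [← z3, e, orderOf_one])
  have z5 : z ^ p = 1 := orderOf_dvd_iff_pow_eq_one.1 z3.dvd
  have z6 : z ∈ Z := ⟨z1, z2⟩
  have k1 : ∀ x, π x ∈ Z → π x ≠ 1 → Van x := fun x hx x1 => by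
    obtain ⟨A, a1, a2, a3⟩ := lift_ab hFp hZp hZc
    obtain ⟨l, hl⟩ := reg (N := F) inferInstance a2 a3 (le_bot_iff.1 (H2.inf_eq_bot_of_coprime_card a3 ▸
      inf_le_inf_left _ H1.centralizer_fitting_le))
    refine van_of_inertia (H6.isIrrCharacter_hom l) fun g hg => ?_
    obtain ⟨a, ha, e⟩ : π (g⁻¹ * x * g) ∈ A.map π := by
      rw [a1, map_mul, map_mul, map_inv]; exact Normal.conj_mem' inferInstance _ hx _
    have h1 : a = 1 := mem_bot.1 (hl ▸ ⟨ha, (mul_mem_cancel_left (inv_mem hg)).1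
      (H7.le_inertia (H6.irr_isClassFunction (H6.isIrrCharacter_hom l)) (QuotientGroup.eq.1 e.symm))⟩)
    rw [h1, map_one, map_mul, map_mul, map_inv] at e
    exact x1 (by simpa [mul_assoc] using congrArg (fun t => π g * t * (π g)⁻¹) e.symm)
  have k0 : ∀ y : G, Van y → p ∣ orderOf (π y) → ∃ k, y ^ p ^ k = 1 := fun y hy e => by
    obtain ⟨x, rfl, h1⟩ := lift_elt (p := p) (y := z) hπ ⟨1, by rw [pow_one, z5]⟩
    exact h.1 x y (k1 x ⟨z1, z2⟩ z4) hy (fun e => z4 (by rw [e, map_one])) h1 (e.trans (orderOf_map_dvd π y))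
  have k2 : ∀ x, (∀ y, π y = π x → Van y) → p ∣ orderOf (π x) → ∀ c ∈ F, x * c = c * x → c = 1 :=
    fun x hx h1 c hc e => by
      have h2 : π (x * c) = π x := by rw [map_mul, show π c = 1 from (QuotientGroup.eq_one_iff c).2 hc, mul_one]
      obtain ⟨i, hi⟩ := k0 x (hx x rfl) h1
      obtain ⟨j, hj⟩ := k0 _ (hx _ h2) (h2 ▸ h1)
      have h3 : c ^ p ^ (j + i) = 1 := by
        have h4 : x ^ p ^ (j + i) = 1 := by rw [add_comm, pow_add, pow_mul, hi, one_pow]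
        have h5 : (x * c) ^ p ^ (j + i) = 1 := by rw [pow_add, pow_mul, hj, one_pow]
        rwa [Commute.mul_pow e, h4, one_mul] at h5
      exact orderOf_eq_one_iff.1 (Nat.eq_one_of_dvd_coprimes (hFp.pow_right _) (H1.orderOf_dvd_card_of_mem hc)
        (orderOf_dvd_of_pow_eq_one h3))
  have k3 : ∀ E : Subgroup (G ⧸ F), IsPGroup p E → IsMulCommutative E →
      (∀ x, π x ∈ E → π x ≠ 1 → Van x) → IsCyclic E := fun E e1 e2 e3 => by
    obtain ⟨A, rfl, a2, a3⟩ := lift_ab hFp e1 e2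
    by_contra hc
    obtain ⟨a, ha, a1, a4⟩ := H2.exists_inf_centralizer_ne_bot a2
      (fun _ => hc (isCyclic_of_surjective _ (π.subgroupMap_surjective A))) le_normalizer_of_normal a3 hF
    have a5 : π a ≠ 1 := fun e => a1 (H2.eq_one_of_mem_of_coprime a3 ha ((QuotientGroup.eq_one_iff a).1 e))
    exact a4 (eq_bot_iff.2 fun c hc => k2 a (fun y hy => e3 y (hy ▸ mem_map_of_mem π ha) (hy ▸ a5))
      (dvd_orderOf a5 (isPGroup_iff_mem.1 e1 _ (mem_map_of_mem π ha))) c hc.1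
      (mem_centralizer_singleton_iff.1 hc.2).symm)
  have k4 : ∀ (x : G) (m : ℕ), π x ^ m ∈ Z → π x ^ m ≠ 1 → Van x := fun x m h1 h2 => by
    rw [← map_pow] at h1 h2
    exact van_of_fpf hF fun c hc e => k2 (x ^ m) (fun y hy => k1 y (hy ▸ h1) (hy ▸ h2))
      (dvd_orderOf h2 (isPGroup_iff_mem.1 hZp _ h1)) c hc (Commute.pow_left e m)
  have k5 : ∀ y, y ^ p ∈ Z → y ^ p = 1 := fun y hy => by
    obtain ⟨y, rfl⟩ := hπ y
    by_contra h1
    have h2 := k4 y p hy h1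
    rw [← map_pow] at hy h1
    exact h.2 y h2 (k1 _ hy h1) ((dvd_orderOf h1 (isPGroup_iff_mem.1 hZp _ hy)).trans (orderOf_map_dvd π _))
  have k6 : ∀ E : Subgroup (G ⧸ F), IsCyclic E → (∀ x ∈ E, x ^ p = 1) → z ∈ E → E = zpowers z :=
    fun E e1 e2 e3 => le_antisymm (fun x hx => H80.mem_zpowers_of_orderOf_dvd e1 hx e3
      (z3 ▸ orderOf_dvd_of_pow_eq_one (e2 x hx))) (zpowers_le.2 e3)
  have hZ : Z = zpowers z := k6 Z (k3 Z hZp hZc k1) (fun x hx => k5 x (pow_mem hx p)) ⟨z1, z2⟩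
  have hC : 𝐂(Z) ≤ D := H1.le_pCore (isPGroup_iff_mem.2 fun x hx => by
    obtain ⟨a, m, h1, h2⟩ := Nat.exists_eq_pow_mul_and_not_dvd (orderOf_pos x).ne' p hp.out.ne_one
    have h3 : Commute z (x ^ p ^ a) := Commute.pow_right (hx z ⟨z1, z2⟩) _
    obtain ⟨w, hw⟩ := hπ (z * x ^ p ^ a)
    have h4 : π w ^ m = z ^ m := by rw [hw, h3.mul_pow, ← pow_mul, ← h2, pow_orderOf_eq_one, mul_one]
    have h5 : z ^ m ≠ 1 := fun e => h1 (z3 ▸ orderOf_dvd_of_pow_eq_one e)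
    obtain ⟨k, hk⟩ := k0 w (k4 w m (h4 ▸ pow_mem z6 m) (h4 ▸ h5))
      ((dvd_orderOf h5 ⟨1, by rw [pow_one, ← pow_mul, mul_comm, pow_mul, z5, one_pow]⟩).trans
        (h4 ▸ orderOf_pow_dvd m))
    have h6 : (z * x ^ p ^ a) ^ p ^ (k + 1) = 1 := by rw [← hw, ← map_pow, pow_succ, pow_mul, hk, one_pow, map_one]
    rw [h3.mul_pow, pow_succ', pow_mul z, z5, one_pow, one_mul, ← pow_succ', ← pow_mul, ← pow_add] at h6
    exact ⟨_, h6⟩)
  have hDZ : D ≤ Z := by
    by_contra h1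
    obtain ⟨y, y1, y2, y3, y4⟩ := H5.exists_step_of_le hDp Z le_rfl le_normalizer h1
    have y5 : y ∈ 𝐂(Z) := le_centralizer_iff.1 (inf_le_right : Z ≤ 𝐂(D)) y1
    have y6 : Z ⊔ zpowers y ≤ D := sup_le inf_le_left (zpowers_le.2 y1)
    have y7 := H5.isMulCommutative_sup_zpowers hZc y5
    refine y2 (hZ ▸ k6 (Z ⊔ zpowers y) (k3 _ (hDp.to_le y6) y7 fun x hx x1 => ?_) (fun x hx => ?_)
      (mem_sup_left ⟨z1, z2⟩) ▸ mem_sup_right (mem_zpowers y))
    · by_cases h2 : π x ∈ Z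
      · exact k1 x h2 x1
      refine Van.lift hπ (van_of_conj (N := Z) (fun e => z4 (mem_bot.1 (e ▸ ⟨z1, z2⟩))) fun n hn => ?_)
      obtain ⟨d, hd, h3⟩ : ∃ d ∈ D, ⁅d, π x⁆ ≠ 1 := by
        by_contra h3
        push Not at h3
        exact h2 ⟨y6 hx, fun d hd => commutatorElement_eq_one_iff_mul_comm.1 (h3 d hd)⟩
      have h4 : ⁅d, π x⁆ ∈ Z := by
        have : Z ⊔ zpowers y ≤ H2.relCentralizer D Z := H2.le_relCentralizer_iff.2 ⟨le_normalizer_of_normal,
          commutator_sup_le_left le_normalizer_of_normal le_normalizer_of_normal (commutator_le_left _ _)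
            (H2.commutator_closure_le (s := {y}) (fun _ _ => le_normalizer_of_normal (mem_top _))
              (by rintro _ rfl; exact y4) |> le_of_eq_of_le (by rw [zpowers_eq_closure]))⟩
        rw [← commutatorElement_inv]
        exact inv_mem ((H2.mem_relCentralizer.1 (this hx)).2 d hd)
      obtain ⟨i, rfl⟩ := mem_powers_iff_mem_zpowers.2 (H80.mem_zpowers_of_orderOf_dvd (k3 Z hZp hZc k1) hn h4
        (orderOf_eq_prime (k5 _ (pow_mem h4 p)) h3 ▸ orderOf_dvd_of_pow_eq_one (k5 _ (pow_mem hn p))))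
      refine ⟨d ^ i, ?_⟩
      induction i with
      | zero => simp
      | succ i hi =>
        calc _ = d * (d ^ i * π x * (d ^ i)⁻¹) * d⁻¹ := by group
          _ = (d * ⁅d, π x⁆ ^ i) * π x * d⁻¹ := by rw [hi (pow_mem h4 i)]; group
          _ = ⁅d, π x⁆ ^ (i + 1) * π x := by rw [(pow_mem h4 i).2 d hd, pow_succ, commutatorElement_def]; group
    · obtain ⟨a, ha, i, rfl⟩ := (H5.mem_sup_zpowers_iff (le_normalizer_of_le_centralizer le_rfl y5)).1 hx
      rw [(Commute.zpow_right (y5 a ha) i).mul_pow, k5 a (pow_mem ha p), ← zpow_natCast, ← zpow_mul, mul_comm i,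
        zpow_mul, zpow_natCast, k5 y y3, one_zpow, one_mul]
  obtain ⟨T, hT⟩ := hZp.exists_le_sylow
  have h1 : (T : Subgroup (G ⧸ F)) ≤ Z := by
    refine le_trans (le_centralizer_iff.1 fun x hx t ht => ?_) (hC.trans hDZ)
    exact congrArg Subtype.val (mem_center_iff.1 (H5.le_center_of_card_eq_prime T.2 (Z.subgroupOf T)
      (by rw [card_subgroupOf hT, hZ, Nat.card_zpowers, z3]) (show (⟨x, hT hx⟩ : (T : Subgroup _)) ∈ _ from hx)) ⟨t, ht⟩)
  have h2 := Nat.le_of_dvd Nat.card_pos ((T.pow_dvd_card_of_pow_dvd_card hd').trans (card_dvd_of_le h1))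
  rw [hZ, Nat.card_zpowers, z3] at h2
  nlinarith [hp.out.two_le]

theorem not_dvd_index [hp : Fact p.Prime] [Group.IsSolvable G] {b : ℕ}
    (h : ∀ x : G, Van x → p ∣ orderOf x → orderOf x = b) : ¬ p ^ 2 ∣ (pCore p G).index := by
  refine main _ (G ⧸ pCore p G) rfl (Hyp.map ⟨fun x y hx hy h1 h2 h3 => ?_, fun x hx h1 h2 => ?_⟩
    (QuotientGroup.mk'_surjective _)) H1.pCore_quotient_pCore
  · exact h2.imp fun k hk => orderOf_dvd_iff_pow_eq_one.1 (by
      rw [h y hy h3, ← h x hx (dvd_orderOf h1 ⟨k, hk⟩)]; exact orderOf_dvd_of_pow_eq_one hk)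
  · have h3 := h2.trans (orderOf_pow_dvd p)
    have h4 := (h _ h1 h2).trans (h x hx h3).symm
    rw [orderOf_pow_of_dvd hp.out.ne_zero h3] at h4
    exact (Nat.div_lt_self (orderOf_pos x) hp.out.one_lt).ne h4

theorem relIndex_dvd [hp : Fact p.Prime] (h : ¬ p ^ 2 ∣ (pCore p G).index) (P : Sylow p G) :
    (pCore p G).relIndex P ∣ p := by
  obtain ⟨k, hk⟩ := IsPGroup.iff_card.1 P.2
  obtain ⟨j, -, e⟩ := (Nat.dvd_prime_pow hp.out).1 (hk ▸ relIndex_dvd_card (pCore p G) P)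
  have := mt (fun h : 2 ≤ j => (pow_dvd_pow p h).trans (e ▸ relIndex_dvd_index_of_normal _ _)) h
  rw [e]; exact (pow_dvd_pow p (by omega)).trans (pow_one p).dvd

end H22.Van
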